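import Cfsg.Agent.H781.U42Act
import Mathlib
import Cfsg.Agent.Lib.ListFast
import Cfsg.Agent.H76.PsuFour
import Cfsg.Agent.H692.NSyl
import Cfsg.Agent.GH.C2SevenTop
import Cfsg.Agent.H528.EP.UB3_m3
import Cfsg.Agent.S0283
import Cfsg.Agent.H209.EPX.Defs_m3
import Cfsg.Agent.KFacts.J2.Basic
import Cfsg.Agent.J2Type.ThreeF
import Cfsg.Agent.J2Type.SylowSeven
import Cfsg.Agent.H109.Cov.Res
import Cfsg.Prelude.Def_ClassicalGeometry
import Cfsg.Agent.H419.EP.Targets_m3
import Cfsg.Agent.S0144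
import Cfsg.Agent.Lib.Cores
import Cfsg.Agent.H479.GoodPSLTwoB
import Cfsg.Agent.GTwoOdd.Core.HFive_m3
import Cfsg.Agent.H929.UThreeGeo
import Cfsg.Agent.ClassicalGeometry.UnitAutBasic
import Cfsg.Agent.S0815
import Cfsg.Agent.SectRankFour.AutAlt
import Cfsg.Agent.S0799
import Cfsg.Agent.S0801
import Cfsg.Agent.S0813
import Cfsg.Agent.ClassicalGeometry.PSL2Solvable
import Cfsg.Agent.Lib.FastPerm
import Cfsg.Agent.S1003
import Cfsg.Agent.S1005
import Cfsg.Agent.S1008
import Cfsg.Agent.S2602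
import Cfsg.Agent.S0495
import Cfsg.Agent.S0243
import Cfsg.Agent.S0713
import Cfsg.Agent.Lib.HallHigman
import Cfsg.Agent.SmallSimple.S1000.PSLFacts
import Cfsg.Agent.H59.EP.UBGen
import Cfsg.Agent.S0292
import Cfsg.Agent.S0265
import Cfsg.Agent.S2119
import Cfsg.Agent.ClassicalGeometry.PSL2Basic
import Cfsg.Agent.S0025
import Cfsg.Agent.S0493
import Cfsg.Agent.Lib.MinNormal
import Cfsg.Agent.H955.Sp
import Cfsg.Agent.H481.TBound
import Cfsg.Agent.H638.G2Iso
import Cfsg.Agent.S0814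
import Cfsg.Agent.S0245
import Cfsg.Agent.S0246
import Cfsg.Agent.S2121
import Cfsg.Agent.S1694
import Cfsg.Agent.KFacts.SuzOut
import Cfsg.Agent.LieClassical.FieldTransfer
import Cfsg.Agent.SmallSimple.PSLTwoPart
import Cfsg.Agent.H220.EP.PermSeven
import Cfsg.Agent.FastGrp
import Cfsg.Agent.Prune
set_option linter.all false

section
prune_inst 0x7fb8bcf92bb809dedfff7e77fed1ddfdb8b01fffa4dff9cb7fe061ef0bdf430009c563850be010fe0ec2c21410a87843f97ece7fa86bdc7ffffd5ff41ffbec0f8566b500119488340f340ff603f0778e7f3fffffffffffffffffffffffffffaeffbfffbffffd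

-- part: H104/EP/Norm
section
prune_inst 0x464102c044b22120000008002e22004709200042200400800f861010009cedc628982a840f8100911c28880856031002813180430422000000a000400013d07a99083c604b348a10ca6009f800082000000000000000000000000000000051004000400000
set_option linter.all false
open scoped Cfsg.Agent.FastGrp

-- part: H104/EP/Base
section
/-!
# Subgroups of `O₆⁻(2)` (helper104): the action on the space, reducible subgroups

`V = F₂⁶` with the quadratic form `Q6` of minus type, `Γ` its isometry group.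
-/

set_option autoImplicit false

namespace Cfsg.Agent.H104.EP

open Subgroup Cfsg Cfsg.Agent.H781.U42Num Cfsg.Agent.H781.U42Gam Cfsg.Agent.H845.AutUFour Matrix
open Cfsg.Agent.LieClassical.OmegaReindex Module

/-- the polar form -/
def B : LinearMap.BilinForm (ZMod 2) V := QuadraticMap.polarBilin (quadMinus 2 (ZMod 2) 1 1)

theorem B_nondeg : B.Nondegenerate := quadMinus_nondegenerate Cfsg.Agent.LargeExtra.Cards.aniso

theorem B_eq (v w : V) : B v w = Q6 (v + w) - Q6 v - Q6 w := by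
  rw [B, QuadraticMap.polarBilin_apply_apply, QuadraticMap.polar, coe_quadMinus]

theorem Q_smul (g : Γ) (v : V) : Q6 (g • v) = Q6 v := g.2 v 0

theorem B_smul (g : Γ) (v w : V) : B (g • v) (g • w) = B v w := by
  rw [B_eq, B_eq, ← smul_add, Q_smul, Q_smul, Q_smul]

theorem Q_add (v w : V) : Q6 (v + w) = Q6 v + Q6 w + B v w := by
  rw [B_eq]
  ring

theorem B_comm (v w : V) : B v w = B w v := by
  rw [B_eq, B_eq, add_comm v w]
  ring

theorem two_self (x : ZMod 2) : x + x = 0 := CharTwo.add_self_eq_zero x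

theorem add_self (v : V) : v + v = 0 := by
  funext i
  exact two_self _

theorem neg_eq (v : V) : -v = v := neg_eq_of_add_eq_zero_left (add_self v)

theorem sub_eq (v w : V) : v - w = v + w := by rw [sub_eq_add_neg, neg_eq]

theorem eq_of_add_eq_zero' {v w : V} (h : v + w = 0) : v = w := by
  rw [← sub_eq] at h
  exact sub_eq_zero.1 h

theorem Q_zero : Q6 0 = 0 := by
  decide +kernel

theorem B_self (v : V) : B v v = 0 := by
  rw [B_eq, add_self, Q_zero, zero_sub, sub_eq_zero, eq_comm]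
  have h := two_self (Q6 v)
  exact eq_neg_of_add_eq_zero_left h

theorem zmod_cases (x : ZMod 2) : x = 0 ∨ x = 1 := by
  revert x
  decide

/-! ### numbers -/

theorem qf_ofV (v : V) : qf (ofV v) = true ↔ Q6 v = 1 := by
  rw [qf_spec _ (ofV_lt v), toV_ofV]

theorem qf_ofV_false (v : V) : qf (ofV v) = false ↔ Q6 v = 0 := by
  rw [← Bool.not_eq_true, qf_ofV]
  rcases zmod_cases (Q6 v) with h | h <;> simp [h]

theorem bxor_iff (a b : Bool) (x y : ZMod 2) (h1 : a = true ↔ x = 1) (h2 : b = true ↔ y = 1) :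
    Bool.xor a b = true ↔ x + y = 1 := by
  revert a b x y
  decide

theorem pol_ofV (v w : V) : pol (ofV v) (ofV w) = true ↔ B v w = 1 := by
  have h1 : B v w = Q6 (v + w) + (Q6 v + Q6 w) := by
    rw [B_eq]
    have h2 : ∀ x y z : ZMod 2, x - y - z = x + (y + z) := by decide
    exact h2 _ _ _
  rw [h1, pol, ← ofV_add]
  exact bxor_iff _ _ _ _ (qf_ofV _) (bxor_iff _ _ _ _ (qf_ofV _) (qf_ofV _))

theorem pol_ofV_false (v w : V) : pol (ofV v) (ofV w) = false ↔ B v w = 0 := by
  rw [← Bool.not_eq_true, pol_ofV]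
  rcases zmod_cases (B v w) with h | h <;> simp [h]

theorem ofV_inj {v w : V} (h : ofV v = ofV w) : v = w := by
  rw [← toV_ofV v, h, toV_ofV]

theorem ofV_zero : ofV 0 = 0 := by decide +kernel

theorem card_V : Nat.card V = 64 := by
  rw [Nat.card_eq_fintype_card]
  decide +kernel

/-- only the identity acts trivially -/
theorem eq_one_of_smul {g : Γ} (h : ∀ v : V, g • v = v) : g = 1 := by
  apply ext_basis
  intro m hm
  rw [a, a]
  congr 1
  have h1 : (g : GL I (ZMod 2)).1 *ᵥ toV m = toV m := h _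
  rw [h1]
  exact (one_mulVec _).symm

/-! ### subspaces -/

/-- the invariant subspaces -/
def Inv (M : Subgroup Γ) (W : Submodule (ZMod 2) V) : Prop := ∀ g ∈ M, ∀ w ∈ W, g • w ∈ W

/-- irreducible subgroups -/
def Irr (M : Subgroup Γ) : Prop := ∀ W : Submodule (ZMod 2) V, Inv M W → W = ⊥ ∨ W = ⊤

theorem Inv.inf {M : Subgroup Γ} {W W' : Submodule (ZMod 2) V} (h : Inv M W) (h' : Inv M W') : Inv M (W ⊓ W') :=
  fun g hg w hw => ⟨h g hg w hw.1, h' g hg w hw.2⟩

theorem mem_orth {W : Submodule (ZMod 2) V} {v : V} : v ∈ B.orthogonal W ↔ ∀ w ∈ W, B w v = 0 := Iff.rfl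

theorem Inv.orth {M : Subgroup Γ} {W : Submodule (ZMod 2) V} (h : Inv M W) : Inv M (B.orthogonal W) := by
  intro g hg v hv
  rw [mem_orth] at hv ⊢
  intro w hw
  have h1 := hv _ (h g⁻¹ (M.inv_mem hg) w hw)
  rw [← B_smul g, ← mul_smul, mul_inv_cancel, one_smul] at h1
  exact h1

theorem refl_B : B.IsRefl := fun v w h => by rw [B_comm]; exact h

theorem orth_orth (W : Submodule (ZMod 2) V) : B.orthogonal (B.orthogonal W) = W :=
  LinearMap.BilinForm.orthogonal_orthogonal B_nondeg refl_B W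

theorem finrank_V : finrank (ZMod 2) V = 6 := by
  rw [finrank_pi]
  decide +kernel

theorem finrank_orth (W : Submodule (ZMod 2) V) :
    finrank (ZMod 2) (B.orthogonal W) = 6 - finrank (ZMod 2) W := by
  rw [LinearMap.BilinForm.finrank_orthogonal B_nondeg, finrank_V]

/-- a submodule from a set closed under addition -/
def mkSub (P : V → Prop) (h0 : P 0) (ha : ∀ v w, P v → P w → P (v + w)) : Submodule (ZMod 2) V where
  carrier := {v | P v}
  zero_mem' := h0
  add_mem' := fun {v w} hv hw => ha v w hv hw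
  smul_mem' := by
    intro c v hv
    rcases zmod_cases c with rfl | rfl
    · rw [zero_smul]
      exact h0
    · rw [one_smul]
      exact hv

end Cfsg.Agent.H104.EP
end

-- part: H104/EP/Num
section
/-!
# Subgroups of `O₆⁻(2)` (helper104): numerical facts about the form
-/

set_option autoImplicit false

namespace Cfsg.Agent.H104.EP

open Subgroup Cfsg Cfsg.Agent.H781.U42Num Cfsg.Agent.H781.U42Gam Cfsg.Agent.H845.AutUFour Matrix

/-- implication -/
def im' (a b : Bool) : Bool := Bool.or (Bool.not a) b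

theorem im'_spec {a b : Bool} (h : im' a b = true) (ha : a = true) : b = true := by
  subst ha
  exact h

/-- singular and not zero -/
def sg (n : ℕ) : Bool := Bool.and (Bool.not (qf n)) (Bool.not (Nat.beq n 0))

def lt' (m n : ℕ) : Bool := Nat.ble (m + 1) n

/-- totally singular subspaces -/
def chk0 : Bool :=
  allB 64 fun s => im' (sg s) (allB 64 fun t => im' (Bool.and (sg t) (Bool.and (Bool.not (Nat.beq s t)) (Bool.not (pol s t))))
    (allB 64 fun z => im' (Bool.and (Bool.not (qf z)) (Bool.and (Bool.not (pol s z)) (Bool.not (pol t z))))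
      (Bool.or (Nat.beq z 0) (Bool.or (Nat.beq z s) (Bool.or (Nat.beq z t) (Nat.beq z (Nat.xor s t)))))))

private noncomputable def _root_.Cfsg.Agent.LsF.fa5d64c_0 : {f // @Cfsg.Agent.H781.U42Num.allB = f} := ⟨_, by first | (delta Cfsg.Agent.H781.U42Num.allB Cfsg.Agent.H781.U42Num.allB._f Nat.brecOn.go Nat.brecOn; rewrite [Cfsg.Agent.LsF.and_eq]; (try delta Cfsg.Agent.H781.U42Num.allB.match_1); (try delta Nat.casesOn); first | dsimp -zeta only | exact rfl) | exact rfl⟩
private noncomputable def _root_.Cfsg.Agent.LsF.fa5d64c_1 : {f // @Cfsg.Agent.H104.EP.im' = f} := ⟨_, by first | (delta Cfsg.Agent.H104.EP.im'; rewrite [Cfsg.Agent.LsF.or_eq, Cfsg.Agent.LsF.not_eq]; exact rfl) | exact rfl⟩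
private noncomputable def _root_.Cfsg.Agent.LsF.fa5d64c_2 : {f // @Cfsg.Agent.H781.U42Num.qf = f} := ⟨_, by first | (delta Cfsg.Agent.H781.U42Num.qf; rewrite [Cfsg.Agent.LsF.testBit_eq]; exact rfl) | exact rfl⟩
private noncomputable def _root_.Cfsg.Agent.LsF.fa5d64c_3 : {f // @Cfsg.Agent.H104.EP.sg = f} := ⟨_, by first | (delta Cfsg.Agent.H104.EP.sg; rewrite [Cfsg.Agent.LsF.fa5d64c_2.2, Cfsg.Agent.LsF.and_eq, Cfsg.Agent.LsF.not_eq]; exact rfl) | exact rfl⟩
private noncomputable def _root_.Cfsg.Agent.LsF.fa5d64c_4 : {f // @Cfsg.Agent.H781.U42Num.pol = f} := ⟨_, by first | (delta Cfsg.Agent.H781.U42Num.pol; rewrite [Cfsg.Agent.LsF.fa5d64c_2.2, Cfsg.Agent.LsF.bxor_eq]; exact rfl) | exact rfl⟩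
private noncomputable def _root_.Cfsg.Agent.LsF.fa5d64c_5 : {f // @Cfsg.Agent.H104.EP.chk0 = f} := ⟨_, by first | (delta Cfsg.Agent.H104.EP.chk0; rewrite [Cfsg.Agent.LsF.fa5d64c_0.2, Cfsg.Agent.LsF.fa5d64c_1.2, Cfsg.Agent.LsF.fa5d64c_3.2, Cfsg.Agent.LsF.fa5d64c_4.2, Cfsg.Agent.LsF.fa5d64c_2.2, Cfsg.Agent.LsF.and_eq, Cfsg.Agent.LsF.or_eq, Cfsg.Agent.LsF.not_eq]; exact rfl) | exact rfl⟩
set_option maxRecDepth 100000 in
theorem chk0_true : chk0 = true := by ((try (rewrite [Cfsg.Agent.LsF.fa5d64c_5.2])); decide +kernel)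

/-- a minus plane with an ordered basis -/
def pl (u w : ℕ) : Bool := Bool.and (lt' u w) (Bool.and (lt' w (Nat.xor u w)) (Bool.and (qf u) (Bool.and (qf w) (pol u w))))

/-- orthogonal to the plane -/
def pp (u w v : ℕ) : Bool := Bool.and (Bool.not (pol u v)) (Bool.not (pol w v))

/-- all members of the list of the `x < 64` with `p x` -/
private def sub64 (p : ℕ → Bool) : List ℕ := (List.range 64).filter p

private theorem all_sub {p f : ℕ → Bool} (h : (sub64 p).all f = true) {x : ℕ} (hx : x < 64) (hp : p x = true) :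
    f x = true :=
  List.all_eq_true.1 h x (List.mem_filter.2 ⟨List.mem_range.2 hx, hp⟩)

private def chk1 : Bool :=
  allB 64 fun u => im' (qf u) (allB 64 fun w => im' (pl u w)
    ((sub64 fun a => Bool.and (qf a) (pp u w a)).all fun a =>
      (sub64 fun a => Bool.and (qf a) (pp u w a)).all fun b => im' (Bool.not (Nat.beq a b))
        ((sub64 fun a => Bool.and (qf a) (pp u w a)).all fun c => im' (Bool.and (Bool.not (Nat.beq a c))
          (Bool.and (Bool.not (Nat.beq b c)) (Bool.and (Bool.not (Bool.xor (pol a c) (pol a b)))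
            (Bool.not (Bool.xor (pol b c) (pol a b)))))) (Nat.beq c (Nat.xor a b)))))

private noncomputable def _root_.Cfsg.Agent.LsF.fa5d64c_6 : {f // @Cfsg.Agent.H104.EP.lt' = f} := ⟨_, by first | (delta Cfsg.Agent.H104.EP.lt'; rewrite [Cfsg.Agent.LsF.nadd_pat]; exact rfl) | exact rfl⟩
private noncomputable def _root_.Cfsg.Agent.LsF.fa5d64c_7 : {f // @Cfsg.Agent.H104.EP.pl = f} := ⟨_, by first | (delta Cfsg.Agent.H104.EP.pl; rewrite [Cfsg.Agent.LsF.fa5d64c_6.2, Cfsg.Agent.LsF.fa5d64c_2.2, Cfsg.Agent.LsF.fa5d64c_4.2, Cfsg.Agent.LsF.and_eq]; exact rfl) | exact rfl⟩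
private noncomputable def _root_.Cfsg.Agent.LsF.fa5d64c_8 : {f // @Cfsg.Agent.H104.EP.sub64 = f} := ⟨_, by first | (delta Cfsg.Agent.H104.EP.sub64; rewrite [Cfsg.Agent.LsF.filter_eq, Cfsg.Agent.LsF.range_eq]; exact rfl) | exact rfl⟩
private noncomputable def _root_.Cfsg.Agent.LsF.fa5d64c_9 : {f // @Cfsg.Agent.H104.EP.pp = f} := ⟨_, by first | (delta Cfsg.Agent.H104.EP.pp; rewrite [Cfsg.Agent.LsF.fa5d64c_4.2, Cfsg.Agent.LsF.and_eq, Cfsg.Agent.LsF.not_eq]; exact rfl) | exact rfl⟩
private noncomputable def _root_.Cfsg.Agent.LsF.fa5d64c_10 : {f // @Cfsg.Agent.H104.EP.chk1 = f} := ⟨_, by first | (delta Cfsg.Agent.H104.EP.chk1; rewrite [Cfsg.Agent.LsF.fa5d64c_0.2, Cfsg.Agent.LsF.fa5d64c_1.2, Cfsg.Agent.LsF.fa5d64c_2.2, Cfsg.Agent.LsF.fa5d64c_7.2, Cfsg.Agent.LsF.fa5d64c_8.2, Cfsg.Agent.LsF.fa5d64c_9.2, Cfsg.Agent.LsF.fa5d64c_4.2, Cfsg.Agent.LsF.and_eq, Cfsg.Agent.LsF.not_eq, Cfsg.Agent.LsF.all_eq, Cfsg.Agent.LsF.bxor_eq]; exact rfl) | exact rfl⟩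
set_option maxRecDepth 100000 in
private theorem chk1_true : chk1 = true := by ((try (rewrite [Cfsg.Agent.LsF.fa5d64c_10.2])); decide +kernel)

/-- the vectors orthogonal to `x`, as a mask -/
private def om (x : ℕ) : ℕ :=
  Nat.land (Nat.shiftRight 0x96696996699696695aa5a55aa55a5aa53cc3c33cc33c3cc3f00f0ff00ff0f00f6969969696966969a5a55a5a5a5aa5a5c3c33c3c3c3cc3c30f0ff0f0f0f00f0f6699996699666699aa5555aa55aaaa55cc3333cc33cccc3300ffff00ff0000ff99996666666699995555aaaaaaaa55553333cccccccc3333ffff00000000ffff6996966969969669a55a5aa5a55a5aa5c33c3cc3c33c3cc30ff0f00f0ff0f00f96966969969669695a5aa5a55a5aa5a53c3cc3c33c3cc3c3f0f00f0ff0f00f0f996666999966669955aaaa5555aaaa5533cccc3333cccc33ff0000ffff0000ff6666999966669999aaaa5555aaaa5555cccc3333cccc33330000ffff0000ffff6996699696699669a55aa55a5aa55aa5c33cc33c3cc33cc30ff00ff0f00ff00f96969696696969695a5a5a5aa5a5a5a53c3c3c3cc3c3c3c3f0f0f0f00f0f0f0f996699666699669955aa55aaaa55aa5533cc33cccc33cc33ff00ff0000ff00ff6666666699999999aaaaaaaa55555555cccccccc3333333300000000ffffffff96699669966996695aa55aa55aa55aa53cc33cc33cc33cc3f00ff00ff00ff00f6969696969696969a5a5a5a5a5a5a5a5c3c3c3c3c3c3c3c30f0f0f0f0f0f0f0f6699669966996699aa55aa55aa55aa55cc33cc33cc33cc3300ff00ff00ff00ff999999999999999955555555555555553333333333333333ffffffffffffffff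 (Nat.mul 64 x)) 18446744073709551615

private theorem om_chk : (allB 64 fun x => allB 64 fun y => Bool.or (pol x y) ((om x).testBit y)) = true := by
  ((try (rewrite [Cfsg.Agent.LsF.fa5d64c_0.2, Cfsg.Agent.LsF.fa5d64c_4.2, Cfsg.Agent.LsF.or_eq, Cfsg.Agent.LsF.testBit_eq])); decide +kernel)

private theorem om_pp {u w y : ℕ} (hu : u < 64) (hw : w < 64) (hy : y < 64) (h : pp u w y = true) :
    (Nat.land (om u) (om w)).testBit y = true := by
  have h1 := allB_spec (allB_spec om_chk hu) hy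
  have h2 := allB_spec (allB_spec om_chk hw) hy
  change (om u &&& om w).testBit y = true
  rw [Nat.testBit_and]
  revert h h1 h2
  rw [pp]
  cases pol u y <;> cases pol w y <;> cases (om u).testBit y <;> cases (om w).testBit y <;> decide

private def in4 (X d e : ℕ) : Bool :=
  (fun F => Nat.beq (Nat.lor X F) F)
    (Nat.lor (Nat.lor (Nat.pow 2 0) (Nat.pow 2 d)) (Nat.lor (Nat.pow 2 e) (Nat.pow 2 (Nat.xor d e))))

private theorem in4_spec {X Y d e y : ℕ} (h : in4 (Nat.land X Y) d e = true) (h1 : X.testBit y = true)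
    (h2 : Y.testBit y = true) :
    Bool.or (Nat.beq y 0) (Bool.or (Nat.beq y d) (Bool.or (Nat.beq y e) (Nat.beq y (Nat.xor d e)))) = true := by
  have h3 : (X &&& Y) ||| ((2 ^ 0 ||| 2 ^ d) ||| (2 ^ e ||| 2 ^ (Nat.xor d e))) =
      (2 ^ 0 ||| 2 ^ d) ||| (2 ^ e ||| 2 ^ (Nat.xor d e)) := Nat.eq_of_beq_eq_true h
  have h4 := congrArg (fun z => z.testBit y) h3
  simp only [Nat.testBit_or, Nat.testBit_and, h1, h2, Bool.and_self, Bool.true_or, Nat.testBit_two_pow,
    Bool.true_eq, Bool.or_eq_true, decide_eq_true_eq] at h4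
  simp only [Bool.or_eq_true, Nat.beq_eq]
  omega

private def chk2 : Bool :=
  allB 64 fun u => im' (qf u) (allB 64 fun w => im' (pl u w)
    ((sub64 fun d => Bool.and (sg d) (pp u w d)).all fun d =>
      (sub64 fun d => Bool.and (sg d) (pp u w d)).all fun e =>
        im' (Bool.and (Bool.not (Nat.beq d e)) (Bool.not (pol d e)))
          (in4 (Nat.land (Nat.land (om u) (om w)) (Nat.land (om d) (om e))) d e)))

private noncomputable def _root_.Cfsg.Agent.LsF.fa5d64c_11 : {f // @Cfsg.Agent.H104.EP.chk2 = f} := ⟨_, by first | (delta Cfsg.Agent.H104.EP.chk2; rewrite [Cfsg.Agent.LsF.fa5d64c_0.2, Cfsg.Agent.LsF.fa5d64c_1.2, Cfsg.Agent.LsF.fa5d64c_2.2, Cfsg.Agent.LsF.fa5d64c_7.2, Cfsg.Agent.LsF.fa5d64c_8.2, Cfsg.Agent.LsF.fa5d64c_3.2, Cfsg.Agent.LsF.fa5d64c_9.2, Cfsg.Agent.LsF.fa5d64c_4.2, Cfsg.Agent.LsF.and_eq, Cfsg.Agent.LsF.not_eq, Cfsg.Agent.LsF.all_eq]; exact rfl) | exact rfl⟩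
set_option maxRecDepth 100000 in
private theorem chk2_true : chk2 = true := by ((try (rewrite [Cfsg.Agent.LsF.fa5d64c_11.2])); decide +kernel)

end Cfsg.Agent.H104.EP
end

-- part: H104/EP/NumV
section
/-!
# Subgroups of `O₆⁻(2)` (helper104): planes and frames
-/

set_option autoImplicit false

namespace Cfsg.Agent.H104.EP

open Subgroup Cfsg Cfsg.Agent.H781.U42Num Cfsg.Agent.H781.U42Gam Cfsg.Agent.H845.AutUFour Matrix

theorem band_intro {a b : Bool} (ha : a = true) (hb : b = true) : Bool.and a b = true := by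
  subst ha hb
  rfl

theorem bnot_intro {a : Bool} (ha : a = false) : Bool.not a = true := by
  subst ha
  rfl

theorem bnot_beq {m n : ℕ} (h : m ≠ n) : Bool.not (Nat.beq m n) = true := by
  apply bnot_intro
  rw [← Bool.not_eq_true]
  intro h1
  exact h (Nat.eq_of_beq_eq_true h1)

theorem bor_elim {a b : Bool} (h : Bool.or a b = true) : a = true ∨ b = true := by
  revert a b
  decide

theorem sg_ofV {v : V} (h : Q6 v = 0) (h0 : v ≠ 0) : sg (ofV v) = true :=
  band_intro (bnot_intro ((qf_ofV_false v).2 h)) (bnot_beq fun h1 => h0 (ofV_inj (h1.trans ofV_zero.symm)))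

theorem four_cases {z s t : V} (h : Bool.or (Nat.beq (ofV z) 0) (Bool.or (Nat.beq (ofV z) (ofV s))
    (Bool.or (Nat.beq (ofV z) (ofV t)) (Nat.beq (ofV z) (Nat.xor (ofV s) (ofV t))))) = true) :
    z = 0 ∨ z = s ∨ z = t ∨ z = s + t := by
  rcases bor_elim h with h | h
  · exact Or.inl (ofV_inj ((Nat.eq_of_beq_eq_true h).trans ofV_zero.symm))
  · rcases bor_elim h with h | h
    · exact Or.inr (Or.inl (ofV_inj (Nat.eq_of_beq_eq_true h)))
    · rcases bor_elim h with h | h
      · exact Or.inr (Or.inr (Or.inl (ofV_inj (Nat.eq_of_beq_eq_true h))))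
      · refine Or.inr (Or.inr (Or.inr (ofV_inj ?_)))
        rw [ofV_add]
        exact Nat.eq_of_beq_eq_true h

/-- totally singular subspaces have dimension at most two -/
theorem ts_two {s t z : V} (hs : Q6 s = 0) (hs0 : s ≠ 0) (ht : Q6 t = 0) (ht0 : t ≠ 0) (hst : s ≠ t)
    (h : B s t = 0) (hz : Q6 z = 0) (h1 : B s z = 0) (h2 : B t z = 0) : z = 0 ∨ z = s ∨ z = t ∨ z = s + t := by
  have e1 := im'_spec (allB_spec chk0_true (ofV_lt s)) (sg_ofV hs hs0)
  have e2 := im'_spec (allB_spec e1 (ofV_lt t)) (band_intro (sg_ofV ht ht0) (band_intro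
    (bnot_beq fun h3 => hst (ofV_inj h3)) (bnot_intro ((pol_ofV_false s t).2 h))))
  have e3 := im'_spec (allB_spec e2 (ofV_lt z)) (band_intro (bnot_intro ((qf_ofV_false z).2 hz)) (band_intro
    (bnot_intro ((pol_ofV_false s z).2 h1)) (bnot_intro ((pol_ofV_false t z).2 h2))))
  exact four_cases e3

/-- the minus planes -/
structure MP (u w : V) : Prop where
  q1 : Q6 u = 1
  q2 : Q6 w = 1
  b : B u w = 1

/-- ordered bases -/
def Pl (u w : V) : Prop := pl (ofV u) (ofV w) = true

/-- members of the plane -/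
def InP (u w v : V) : Prop := v = u ∨ v = w ∨ v = u + w

/-- orthogonal to the plane -/
def Pp (u w v : V) : Prop := B u v = 0 ∧ B w v = 0

/-- the two bases span the same plane -/
def Sm (u w u' w' : V) : Prop := (∀ v, InP u w v ↔ InP u' w' v) ∧ ∀ v, Pp u w v ↔ Pp u' w' v

theorem Sm.refl (u w : V) : Sm u w u w := ⟨fun _ => Iff.rfl, fun _ => Iff.rfl⟩

theorem Sm.trans {u w u' w' u'' w'' : V} (h : Sm u w u' w') (h' : Sm u' w' u'' w'') : Sm u w u'' w'' :=
  ⟨fun v => (h.1 v).trans (h'.1 v), fun v => (h.2 v).trans (h'.2 v)⟩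

theorem Sm.swap (u w : V) : Sm u w w u := by
  refine ⟨fun v => ?_, fun v => ?_⟩
  · rw [InP, InP, add_comm w u]
    tauto
  · rw [Pp, Pp, and_comm]

theorem Sm.rot (u w : V) : Sm u w u (u + w) := by
  refine ⟨fun v => ?_, fun v => ?_⟩
  · rw [InP, InP, ← add_assoc, add_self, zero_add]
    tauto
  · rw [Pp, Pp, map_add, LinearMap.add_apply]
    constructor
    · rintro ⟨h1, h2⟩
      exact ⟨h1, by rw [h1, h2, add_zero]⟩
    · rintro ⟨h1, h2⟩
      rw [h1, zero_add] at h2
      exact ⟨h1, h2⟩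

namespace MP

variable {u w : V} (h : MP u w)

include h

theorem q3 : Q6 (u + w) = 1 := by
  rw [Q_add, h.q1, h.q2, h.b]
  decide

theorem swap : MP w u := ⟨h.q2, h.q1, by rw [B_comm]; exact h.b⟩

theorem rot : MP u (u + w) := ⟨h.q1, h.q3, by rw [map_add, B_self, h.b, zero_add]⟩

theorem u_ne : u ≠ 0 := by
  intro h1
  have h2 := h.q1
  rw [h1, Q_zero] at h2
  exact absurd h2 (by decide)

theorem ne : u ≠ w := by
  intro h1
  have h2 := h.b
  rw [← h1, B_self] at h2
  exact absurd h2 (by decide)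

theorem toPl (h1 : ofV u < ofV w) (h2 : ofV w < ofV (u + w)) : Pl u w := by
  rw [ofV_add] at h2
  have hb : ∀ {m n : ℕ}, m < n → lt' m n = true := fun h => Nat.ble_eq_true_of_le h
  exact band_intro (hb h1) (band_intro (hb h2) (band_intro ((qf_ofV u).2 h.q1) (band_intro ((qf_ofV w).2 h.q2)
    ((pol_ofV u w).2 h.b))))

/-- every minus plane has an ordered basis -/
theorem exists_pl : ∃ u' w', MP u' w' ∧ Pl u' w' ∧ Sm u w u' w' := by
  have a1 : ofV u ≠ ofV w := fun h1 => h.ne (ofV_inj h1)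
  have a2 : ofV u ≠ ofV (u + w) := fun h1 => h.rot.ne (ofV_inj h1)
  have a3 : ofV w ≠ ofV (u + w) := by
    rw [add_comm u w]
    exact fun h1 => h.swap.rot.ne (ofV_inj h1)
  rcases lt_or_gt_of_ne a1 with b1 | b1
  · rcases lt_or_gt_of_ne a3 with b3 | b3
    · exact ⟨u, w, h, h.toPl b1 b3, Sm.refl u w⟩
    · rcases lt_or_gt_of_ne a2 with b2 | b2
      · refine ⟨u, u + w, h.rot, h.rot.toPl b2 ?_, Sm.rot u w⟩
        rw [← add_assoc, add_self, zero_add]
        exact b3
      · refine ⟨u + w, u, h.rot.swap, h.rot.swap.toPl b2 ?_, (Sm.rot u w).trans (Sm.swap _ _)⟩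
        rw [add_comm (u + w) u, ← add_assoc, add_self, zero_add]
        exact b1
  · rcases lt_or_gt_of_ne a2 with b2 | b2
    · refine ⟨w, u, h.swap, h.swap.toPl b1 ?_, Sm.swap u w⟩
      rw [add_comm w u]
      exact b2
    · rcases lt_or_gt_of_ne a3 with b3 | b3
      · refine ⟨w, w + u, h.swap.rot, h.swap.rot.toPl ?_ ?_, (Sm.swap u w).trans (Sm.rot w u)⟩
        · rw [add_comm w u]
          exact b3
        · rw [← add_assoc, add_self, zero_add, add_comm w u]
          exact b2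
      · refine ⟨w + u, w, h.swap.rot.swap, h.swap.rot.swap.toPl ?_ ?_,
          ((Sm.swap u w).trans (Sm.rot w u)).trans (Sm.swap _ _)⟩
        · rw [add_comm w u]
          exact b3
        · rw [add_comm (w + u) w, ← add_assoc, add_self, zero_add]
          exact b1

end MP

theorem qf_u_of_pl {u w : V} (h : Pl u w) : qf (ofV u) = true := by
  have h1 : pl (ofV u) (ofV w) = true := h
  rw [pl, Bool.and_eq_true] at h1
  have h2 := h1.2
  rw [Bool.and_eq_true] at h2
  have h3 := h2.2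
  rw [Bool.and_eq_true] at h3
  exact h3.1

theorem pp_of {u w v : V} (h : Pp u w v) : pp (ofV u) (ofV w) (ofV v) = true :=
  band_intro (bnot_intro ((pol_ofV_false u v).2 h.1)) (bnot_intro ((pol_ofV_false w v).2 h.2))

theorem bxor_false {a b : Bool} (x y : ZMod 2) (h1 : a = true ↔ x = 1) (h2 : b = true ↔ y = 1) (h : x = y) :
    Bool.xor a b = false := by
  subst h
  revert a b x
  decide

/-- three nonsingular vectors orthogonal to a minus plane -/
theorem three_perp {u w a b c : V} (h : MP u w) (ha : Q6 a = 1) (ha' : Pp u w a) (hb : Q6 b = 1) (hb' : Pp u w b)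
    (hc : Q6 c = 1) (hc' : Pp u w c) (hab : a ≠ b) (hac : a ≠ c) (hbc : b ≠ c) (e1 : B a c = B a b)
    (e2 : B b c = B a b) : c = a + b := by
  obtain ⟨u', w', h', hp, hs⟩ := h.exists_pl
  have k1 := im'_spec (allB_spec chk1_true (ofV_lt u')) (qf_u_of_pl hp)
  have k2 := im'_spec (allB_spec k1 (ofV_lt w')) hp
  have k3 := all_sub k2 (ofV_lt a) (band_intro ((qf_ofV a).2 ha) (pp_of ((hs.2 a).1 ha')))
  have k4 := im'_spec (all_sub k3 (ofV_lt b) (band_intro ((qf_ofV b).2 hb) (pp_of ((hs.2 b).1 hb'))))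
    (bnot_beq fun h3 => hab (ofV_inj h3))
  have k5 := im'_spec (all_sub k4 (ofV_lt c) (band_intro ((qf_ofV c).2 hc) (pp_of ((hs.2 c).1 hc'))))
    (band_intro (bnot_beq fun h3 => hac (ofV_inj h3)) (band_intro (bnot_beq fun h3 => hbc (ofV_inj h3))
      (band_intro (bnot_intro (bxor_false _ _ (pol_ofV a c) (pol_ofV a b) e1))
        (bnot_intro (bxor_false _ _ (pol_ofV b c) (pol_ofV a b) e2)))))
  apply ofV_inj
  rw [ofV_add]
  exact Nat.eq_of_beq_eq_true k5

/-- totally singular lines in the orthogonal space of a minus plane -/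
theorem line_perp {u w d e y : V} (h : MP u w) (hd : Q6 d = 0) (hd0 : d ≠ 0) (hd' : Pp u w d) (he : Q6 e = 0)
    (he0 : e ≠ 0) (he' : Pp u w e) (hde : d ≠ e) (hb : B d e = 0) (hy : Pp u w y) (hy' : Pp d e y) :
    y = 0 ∨ y = d ∨ y = e ∨ y = d + e := by
  obtain ⟨u', w', h', hp, hs⟩ := h.exists_pl
  have k1 := im'_spec (allB_spec chk2_true (ofV_lt u')) (qf_u_of_pl hp)
  have k2 := im'_spec (allB_spec k1 (ofV_lt w')) hp
  have k3 := all_sub k2 (ofV_lt d) (band_intro (sg_ofV hd hd0) (pp_of ((hs.2 d).1 hd')))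
  have k4 := im'_spec (all_sub k3 (ofV_lt e) (band_intro (sg_ofV he he0) (pp_of ((hs.2 e).1 he'))))
    (band_intro (bnot_beq fun h3 => hde (ofV_inj h3)) (bnot_intro ((pol_ofV_false d e).2 hb)))
  have k5 := in4_spec k4 (om_pp (ofV_lt u') (ofV_lt w') (ofV_lt y) (pp_of ((hs.2 y).1 hy)))
    (om_pp (ofV_lt d) (ofV_lt e) (ofV_lt y) (pp_of hy'))
  exact four_cases k5

/-! ### the structures -/

/-- the frame of a minus plane -/
def Fr (u w v : V) : Prop := Q6 v = 1 ∧ (InP u w v ∨ Pp u w v)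

def Fix1 (M : Subgroup Γ) : Prop := ∃ v : V, v ≠ 0 ∧ ∀ g ∈ M, g • v = v

/-- a totally singular line -/
structure TL (s t : V) : Prop where
  s0 : Q6 s = 0
  t0 : Q6 t = 0
  b : B s t = 0
  sn : s ≠ 0
  tn : t ≠ 0
  st : s ≠ t

def Fix2 (M : Subgroup Γ) : Prop := ∃ s t : V, TL s t ∧ ∀ g ∈ M, InP s t (g • s) ∧ InP s t (g • t)

def Fix3 (M : Subgroup Γ) : Prop := ∃ u w : V, MP u w ∧ ∀ g ∈ M, ∀ v, Fr u w v → Fr u w (g • v)

def Fix4 (M : Subgroup Γ) : Prop := ∃ x : Γ, (∀ v : V, v + x • v + x • x • v = 0) ∧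
  ∀ g ∈ M, g * x * g⁻¹ = x ∨ g * x * g⁻¹ = x * x

end Cfsg.Agent.H104.EP
end

-- part: H104/EP/Red
section
/-!
# Subgroups of `O₆⁻(2)` (helper104): reducible subgroups
-/

set_option autoImplicit false

namespace Cfsg.Agent.H104.EP

open Subgroup Cfsg Cfsg.Agent.H781.U42Num Cfsg.Agent.H781.U42Gam Cfsg.Agent.H845.AutUFour Matrix Module

/-- a small nondegenerate subspace is a plane -/
theorem exists_plane {P : Submodule (ZMod 2) V} (hP : P ≠ ⊥) (hnd : ∀ p ∈ P, (∀ q ∈ P, B q p = 0) → p = 0)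
    (hr : finrank (ZMod 2) P ≤ 3) :
    ∃ u ∈ P, ∃ w ∈ P, B u w = 1 ∧ ∀ p ∈ P, p = 0 ∨ p = u ∨ p = w ∨ p = u + w := by
  obtain ⟨u, hu, hu0⟩ := (Submodule.ne_bot_iff P).1 hP
  have key : ∀ p ∈ P, p ≠ 0 → ∃ q ∈ P, B q p = 1 := by
    intro p hp hp0
    by_contra hcon
    push Not at hcon
    apply hp0
    apply hnd p hp
    intro q hq
    rcases zmod_cases (B q p) with h | h
    · exact h
    · exact absurd h (hcon q hq)
  obtain ⟨w, hw, hwu⟩ := key u hu hu0
  have huw : B u w = 1 := by rw [B_comm]; exact hwu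
  refine ⟨u, hu, w, hw, huw, ?_⟩
  intro p hp
  by_contra hcon
  push Not at hcon
  obtain ⟨c0, c1, c2, c3⟩ := hcon
  -- the projection
  have proj : ∀ p ∈ P, ∃ z ∈ P, z = p + (B p w • u + B p u • w) ∧ B u z = 0 ∧ B w z = 0 := by
    intro p hp
    refine ⟨_, P.add_mem hp (P.add_mem (P.smul_mem _ hu) (P.smul_mem _ hw)), rfl, ?_, ?_⟩
    · rw [map_add, map_add, map_smul, map_smul, B_self, huw, B_comm u p, smul_zero, zero_add, smul_eq_mul, mul_one]
      exact two_self _
    · rw [map_add, map_add, map_smul, map_smul, B_self, hwu, B_comm w p, smul_zero, add_zero, smul_eq_mul, mul_one]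
      exact two_self _
  obtain ⟨z, hz, ez, z1, z2⟩ := proj p hp
  have hz0 : z ≠ 0 := by
    intro h0
    rw [h0] at ez
    have e1 : p = B p w • u + B p u • w := eq_of_add_eq_zero' ez.symm
    rcases zmod_cases (B p w) with h | h <;> rcases zmod_cases (B p u) with h' | h' <;> rw [h, h'] at e1
    · exact c0 (by rw [e1, zero_smul, zero_smul, add_zero])
    · exact c2 (by rw [e1, zero_smul, one_smul, zero_add])
    · exact c1 (by rw [e1, zero_smul, one_smul, add_zero])
    · exact c3 (by rw [e1, one_smul, one_smul])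
  obtain ⟨q, hq, hqz⟩ := key z hz hz0
  obtain ⟨t, ht, et, t1, t2⟩ := proj q hq
  have htz : B t z = 1 := by
    rw [et, map_add, map_add, map_smul, map_smul, LinearMap.add_apply, LinearMap.add_apply, LinearMap.smul_apply,
      LinearMap.smul_apply, z1, z2, smul_zero, smul_zero, add_zero, add_zero]
    exact hqz
  have hzt : B z t = 1 := by rw [B_comm]; exact htz
  have hli : LinearIndependent (ZMod 2) (![⟨u, hu⟩, ⟨w, hw⟩, ⟨z, hz⟩, ⟨t, ht⟩] : Fin 4 → P) := by
    rw [Fintype.linearIndependent_iff]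
    intro g hg
    rw [Fin.sum_univ_four] at hg
    have e1 : g 0 • u + g 1 • w + g 2 • z + g 3 • t = 0 := by
      have := congrArg Subtype.val hg
      exact this
    have b1 := congrArg (B w) e1
    have b2 := congrArg (B u) e1
    have b3 := congrArg (B t) e1
    have b4 := congrArg (B z) e1
    rw [map_add, map_add, map_add, map_smul, map_smul, map_smul, map_smul, map_zero] at b1 b2 b3 b4
    rw [hwu, B_self, z2, t2] at b1
    rw [huw, B_self, z1, t1] at b2
    rw [B_comm t u, B_comm t w, t1, t2, B_self, htz] at b3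
    rw [B_comm z u, B_comm z w, z1, z2, B_self, hzt] at b4
    simp only [smul_eq_mul, mul_one, mul_zero, add_zero, zero_add] at b1 b2 b3 b4
    intro i
    fin_cases i
    · exact b1
    · exact b2
    · exact b3
    · exact b4
  have h4 := hli.fintype_card_le_finrank
  rw [Fintype.card_fin] at h4
  omega

/-- an invariant plane -/
theorem fix_of_plane {M : Subgroup Γ} {P : Submodule (ZMod 2) V} (hinv : Inv M P) (hP : P ≠ ⊥)
    (hnd : ∀ p ∈ P, (∀ q ∈ P, B q p = 0) → p = 0) (hr : finrank (ZMod 2) P ≤ 3) : Fix1 M ∨ Fix3 M := by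
  obtain ⟨u, hu, w, hw, huw, hall⟩ := exists_plane hP hnd hr
  have hQ : Q6 (u + w) = Q6 u + Q6 w + 1 := by rw [Q_add, huw]
  have one : ∀ v ∈ P, Q6 v = 1 → (∀ p ∈ P, Q6 p = 1 → p = v) → Fix1 M := by
    intro v hv h1 h2
    refine ⟨v, ?_, fun g hg => h2 _ (hinv g hg v hv) ((Q_smul g v).trans h1)⟩
    intro h0
    rw [h0, Q_zero] at h1
    exact absurd h1 (by decide)
  have h01 : (0 : ZMod 2) ≠ 1 := by decide
  rcases zmod_cases (Q6 u) with hu1 | hu1 <;> rcases zmod_cases (Q6 w) with hw1 | hw1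
  · left
    apply one (u + w) (P.add_mem hu hw) (by rw [hQ, hu1, hw1]; decide)
    intro p hp hp1
    rcases hall p hp with rfl | rfl | rfl | rfl
    · rw [Q_zero] at hp1
      exact absurd hp1 h01
    · rw [hu1] at hp1
      exact absurd hp1 h01
    · rw [hw1] at hp1
      exact absurd hp1 h01
    · rfl
  · left
    apply one w hw hw1
    intro p hp hp1
    rcases hall p hp with rfl | rfl | rfl | rfl
    · rw [Q_zero] at hp1
      exact absurd hp1 h01
    · rw [hu1] at hp1
      exact absurd hp1 h01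
    · rfl
    · rw [hQ, hu1, hw1] at hp1
      exact absurd hp1 (by decide)
  · left
    apply one u hu hu1
    intro p hp hp1
    rcases hall p hp with rfl | rfl | rfl | rfl
    · rw [Q_zero] at hp1
      exact absurd hp1 h01
    · rfl
    · rw [hw1] at hp1
      exact absurd hp1 h01
    · rw [hQ, hu1, hw1] at hp1
      exact absurd hp1 (by decide)
  · right
    have hm : MP u w := ⟨hu1, hw1, huw⟩
    refine ⟨u, w, hm, ?_⟩
    rintro g hg v ⟨h1, h2⟩
    refine ⟨(Q_smul g v).trans h1, ?_⟩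
    rcases h2 with h2 | h2
    · left
      have hv : v ∈ P := by
        rcases h2 with rfl | rfl | rfl
        · exact hu
        · exact hw
        · exact P.add_mem hu hw
      rcases hall _ (hinv g hg v hv) with h3 | h3
      · exfalso
        have h4 : Q6 (g • v) = 1 := by rw [Q_smul]; exact h1
        rw [h3, Q_zero] at h4
        exact h01 h4
      · exact h3
    · right
      have h3 : ∀ p ∈ P, B p v = 0 := by
        intro p hp
        rcases hall p hp with rfl | rfl | rfl | rfl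
        · rw [map_zero]
          rfl
        · exact h2.1
        · exact h2.2
        · rw [map_add, LinearMap.add_apply, h2.1, h2.2, add_zero]
      have h4 : ∀ p ∈ P, B p (g • v) = 0 := by
        intro p hp
        have h5 := h3 _ (hinv g⁻¹ (M.inv_mem hg) p hp)
        rw [← B_smul g, ← mul_smul, mul_inv_cancel, one_smul] at h5
        exact h5
      exact ⟨h4 u hu, h4 w hw⟩

/-- **Reducible subgroups.** -/
theorem fix_of_not_irr {M : Subgroup Γ} (h : ¬ Irr M) : Fix1 M ∨ Fix2 M ∨ Fix3 M := by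
  unfold Irr at h
  push Not at h
  obtain ⟨W, hW, hWb, hWt⟩ := h
  by_cases hU : ∃ u ∈ W, u ≠ 0 ∧ ∀ w ∈ W, B w u = 0
  · obtain ⟨u, hu, hu0, hu1⟩ := hU
    have hUinv := hW.inf hW.orth
    set U := W ⊓ B.orthogonal W with hUdef
    have hBU : ∀ x ∈ U, ∀ y ∈ U, B x y = 0 := fun x hx y hy => mem_orth.1 hy.2 x hx.1
    have huU : u ∈ U := ⟨hu, hu1⟩
    by_cases hs : ∃ s ∈ U, s ≠ 0 ∧ Q6 s = 0
    · obtain ⟨s, hsU, hs0, hs1⟩ := hs
      have hsm : ∀ g : Γ, ∀ x : V, x ≠ 0 → g • x ≠ 0 := by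
        intro g x hx h0
        apply hx
        have h2 : g⁻¹ • g • x = 0 := by rw [h0, smul_zero]
        rwa [← mul_smul, inv_mul_cancel, one_smul] at h2
      by_cases ht : ∃ t ∈ U, t ≠ 0 ∧ Q6 t = 0 ∧ s ≠ t
      · right
        left
        obtain ⟨t, htU, ht0, ht1, hst⟩ := ht
        refine ⟨s, t, ⟨hs1, ht1, hBU s hsU t htU, hs0, ht0, hst⟩, ?_⟩
        intro g hg
        have h2 : ∀ x ∈ U, x ≠ 0 → Q6 x = 0 → InP s t (g • x) := by
          intro x hx hx0 hx1
          have h3 := hUinv g hg x hx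
          rcases ts_two hs1 hs0 ht1 ht0 hst (hBU s hsU t htU) (z := g • x) (by rw [Q_smul]; exact hx1)
            (hBU s hsU _ h3) (hBU t htU _ h3) with h4 | h4
          · exact absurd h4 (hsm g x hx0)
          · exact h4
        exact ⟨h2 s hsU hs0 hs1, h2 t htU ht0 ht1⟩
      · left
        push Not at ht
        exact ⟨s, hs0, fun g hg => (ht _ (hUinv g hg s hsU) (hsm g s hs0) (by rw [Q_smul]; exact hs1)).symm⟩
    · left
      push Not at hs
      refine ⟨u, hu0, fun g hg => ?_⟩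
      have h2 := hUinv g hg u huU
      by_contra h3
      apply hs (u + g • u) (U.add_mem huU h2)
      · intro h4
        exact h3 (eq_of_add_eq_zero' h4).symm
      · rw [Q_add, Q_smul, hBU u huU _ h2, add_zero]
        exact two_self _
  · push Not at hU
    have hnd : ∀ p ∈ W, (∀ q ∈ W, B q p = 0) → p = 0 := by
      intro p hp h2
      by_contra h3
      obtain ⟨w, hw, h4⟩ := hU p hp h3
      exact h4 (h2 w hw)
    have hor : Fix1 M ∨ Fix3 M := by
      rcases Nat.lt_or_ge 3 (finrank (ZMod 2) W) with h3 | h3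
      · refine fix_of_plane hW.orth ?_ ?_ (by rw [finrank_orth]; omega)
        · intro h4
          apply hWt
          rw [← orth_orth W, h4]
          ext v
          constructor
          · intro _
            exact Submodule.mem_top
          · intro _ w hw
            rw [Submodule.mem_bot] at hw
            rw [hw]
            change B 0 v = 0
            rw [map_zero]
            rfl
        · intro p hp h4
          apply hnd p
          · rw [← orth_orth W]
            exact h4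
          · exact hp
      · exact fix_of_plane hW hWb hnd h3
    tauto

end Cfsg.Agent.H104.EP
end

-- part: H104/EP/Act
section
/-!
# Elements of order three acting on an elementary abelian 2-group (helper104)
-/

set_option autoImplicit false

namespace Cfsg.Agent.H104.EP

variable {G W : Type*} [Group G] [AddCommGroup W] [DistribMulAction G W]

theorem smul_ne_zero' {g : G} {x : W} (hx : x ≠ 0) : g • x ≠ 0 := by
  intro h0
  apply hx
  have h2 : g⁻¹ • g • x = 0 := by rw [h0, smul_zero]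
  rwa [← mul_smul, inv_mul_cancel, one_smul] at h2

theorem smul_inj {g : G} {x y : W} (h : g • x = g • y) : x = y := by
  have h2 : g⁻¹ • g • x = g⁻¹ • g • y := by rw [h]
  rwa [← mul_smul, ← mul_smul, inv_mul_cancel, one_smul, one_smul] at h2

/-- the trace of `x` -/
def T (x : G) (v : W) : W := v + x • v + x • x • v

theorem T_add (x : G) (v w : W) : T x (v + w) = T x v + T x w := by
  rw [T, T, T, smul_add, smul_add]
  abel

theorem smul_T {x : G} (h3 : ∀ v : W, x • x • x • v = v) (v : W) : x • T x v = T x v := by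
  rw [T, smul_add, smul_add, h3]
  abel

theorem T_fix (h2 : ∀ v : W, v + v = 0) {x : G} {v : W} (h : x • v = v) : T x v = v := by
  rw [T, h, h, h2, zero_add]

/-- a small Klein argument -/
theorem eq_zero_of_T (h2' : ∀ v : W, v + v = 0) {x y : G} (hc : x * y = y * x) (hy : ∀ v : W, y • y • y • v = v)
    {v : W} (h1 : T x v = 0) (h2 : T y v = 0) (h3 : T (x * y) v = 0) (h4 : T (x * (y * y)) v = 0)
    (h5 : T x (T y v) = 0) : v = 0 := by
  have c1 : ∀ v : W, y • x • v = x • y • v := fun v => by rw [← mul_smul, ← mul_smul, hc]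
  have e3 : T (x * y) v = v + x • y • v + x • x • y • y • v := by
    rw [T, mul_smul, mul_smul, c1]
  have e4 : T (x * (y * y)) v = v + x • y • y • v + x • x • y • v := by
    rw [T, mul_smul, mul_smul, mul_smul, mul_smul, c1, c1, hy]
  have e5 : T x (T y v) = (v + y • v + y • y • v) + (x • v + x • y • v + x • y • y • v) +
      (x • x • v + x • x • y • v + x • x • y • y • v) := by
    rw [T, T]
    simp only [smul_add]
  rw [e3] at h3
  rw [e4] at h4
  rw [e5] at h5
  rw [T] at h1 h2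
  rw [h2, zero_add] at h5
  have k6 : (v + x • v + x • x • v) + (v + x • y • v + x • x • y • y • v) + (v + x • y • y • v + x • x • y • v) = 0 := by
    rw [h1, h3, h4, add_zero, add_zero]
  have k7 : (v + x • v + x • x • v) + (v + x • y • v + x • x • y • y • v) + (v + x • y • y • v + x • x • y • v) =
      (v + v) + v + ((x • v + x • y • v + x • y • y • v) + (x • x • v + x • x • y • v + x • x • y • y • v)) := by
    abel
  rw [k7, h5, h2', zero_add, add_zero] at k6
  exact k6

end Cfsg.Agent.H104.EP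
end

-- part: H104/EP/Three
section
/-!
# Subgroups of `O₆⁻(2)` (helper104): irreducible subgroups with a normal 3-subgroup
-/

set_option autoImplicit false

namespace Cfsg.Agent.H104.EP

open Subgroup Cfsg Cfsg.Agent.H781.U42Num Cfsg.Agent.H781.U42Gam Cfsg.Agent.H845.AutUFour Matrix Module

set_option maxHeartbeats 400000

theorem eq_zero_of_B {p : V} (h : ∀ v, B v p = 0) : p = 0 := by
  have h1 : p ∈ B.orthogonal (⊤ : Submodule (ZMod 2) V) := fun v _ => h v
  have h2 : finrank (ZMod 2) (B.orthogonal (⊤ : Submodule (ZMod 2) V)) = 0 := by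
    rw [finrank_orth, finrank_top, finrank_V]
  rw [Submodule.finrank_eq_zero] at h2
  rw [h2] at h1
  exact (Submodule.mem_bot _).1 h1

/-- the vectors fixed by `X` -/
def CV (X : Subgroup Γ) : Submodule (ZMod 2) V :=
  mkSub (fun v => ∀ x ∈ X, x • v = v) (fun _ _ => smul_zero _) fun v w hv hw x hx => by
    rw [smul_add, hv x hx, hw x hx]

/-- the fixed space of a normal subgroup is invariant -/
theorem inv_CV {M X : Subgroup Γ} (hn : ∀ g ∈ M, ∀ x ∈ X, g * x * g⁻¹ ∈ X) : Inv M (CV X) := by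
  intro g hg v hv x hx
  have h1 := hv _ (hn g⁻¹ (M.inv_mem hg) x hx)
  rw [inv_inv] at h1
  have h2 : x • g • v = g • ((g⁻¹ * x * g) • v) := by
    rw [← mul_smul, ← mul_smul, ← mul_assoc, ← mul_assoc, mul_inv_cancel, one_mul]
  rw [h2, h1]

/-- a nontrivial normal subgroup of an irreducible group has no fixed vectors -/
theorem no_fixed {M X : Subgroup Γ} (hirr : Irr M) (hn : ∀ g ∈ M, ∀ x ∈ X, g * x * g⁻¹ ∈ X) (hX : X ≠ ⊥) {v : V}
    (hv : ∀ x ∈ X, x • v = v) : v = 0 := by
  rcases hirr _ (inv_CV hn) with h | h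
  · have h1 : v ∈ CV X := hv
    rw [h] at h1
    exact (Submodule.mem_bot _).1 h1
  · exfalso
    apply hX
    rw [Subgroup.eq_bot_iff_forall]
    intro x hx
    apply eq_one_of_smul
    intro w
    have h1 : w ∈ CV X := by rw [h]; exact Submodule.mem_top
    exact h1 x hx

end Cfsg.Agent.H104.EP
end

-- part: H104/EP/Frame
section
/-!
# Subgroups of `O₆⁻(2)` (helper104): the frame of a noncyclic abelian 3-subgroup
-/

set_option autoImplicit false

namespace Cfsg.Agent.H104.EP

open Subgroup Cfsg Cfsg.Agent.H781.U42Num Cfsg.Agent.H781.U42Gam Cfsg.Agent.H845.AutUFour Matrix Module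

set_option maxHeartbeats 400000

/-- commutative groups of exponent three without fixed vectors -/
structure EX (X : Subgroup Γ) : Prop where
  comm : ∀ x ∈ X, ∀ y ∈ X, x * y = y * x
  three : ∀ x ∈ X, x * (x * x) = 1
  fix : ∀ v : V, (∀ x ∈ X, x • v = v) → v = 0

namespace EX

variable {X : Subgroup Γ} (h : EX X)

include h

theorem smul3 {x : Γ} (hx : x ∈ X) (v : V) : x • x • x • v = v := by
  rw [← mul_smul, ← mul_smul, mul_assoc, h.three x hx, one_smul]

theorem smul_comm' {x y : Γ} (hx : x ∈ X) (hy : y ∈ X) (v : V) : x • y • v = y • x • v := by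
  rw [← mul_smul, h.comm x hx y hy, mul_smul]

theorem exists_move {v : V} (hv : v ≠ 0) : ∃ x ∈ X, x • v ≠ v := by
  by_contra hcon
  push Not at hcon
  exact hv (h.fix v hcon)

/-- an invariant plane -/
theorem exists_plane {x : Γ} (hx : x ∈ X) (hx1 : x ≠ 1) {d : V} (hd0 : d ≠ 0) (hxd : x • d = d) :
    ∃ P : Submodule (ZMod 2) V, Inv X P ∧ ∃ u ∈ P, ∃ w ∈ P, B u w = 1 ∧ ∀ p ∈ P, p = 0 ∨ p = u ∨ p = w ∨ p = u + w := by
  let D : Submodule (ZMod 2) V := mkSub (fun v => x • v = v) (smul_zero _) fun v w hv hw => by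
    rw [smul_add, hv, hw]
  have hmem : ∀ v, v ∈ D ↔ x • v = v := fun v => Iff.rfl
  have hD : Inv X D := by
    intro y hy v hv
    rw [hmem] at hv ⊢
    rw [h.smul_comm' hx hy, hv]
  have hb : D ≠ ⊥ := by
    intro e
    have h1 : d ∈ D := (hmem d).2 hxd
    rw [e] at h1
    exact hd0 ((Submodule.mem_bot _).1 h1)
  have ht : D ≠ ⊤ := by
    intro e
    apply hx1
    apply eq_one_of_smul
    intro v
    exact (hmem v).1 (by rw [e]; exact Submodule.mem_top)
  have hnd : ∀ p ∈ D, (∀ q ∈ D, B q p = 0) → p = 0 := by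
    intro p hp h1
    apply eq_zero_of_B
    intro v
    have h2 : T x v ∈ D := (hmem _).2 (smul_T (h.smul3 hx) v)
    have h3 := h1 _ h2
    have h4 : ∀ w : V, B (x • w) p = B w p := by
      intro w
      have h5 := B_smul x w p
      rw [(hmem p).1 hp] at h5
      exact h5
    rw [T, map_add, map_add, LinearMap.add_apply, LinearMap.add_apply, h4, h4, h4] at h3
    rw [two_self, zero_add] at h3
    exact h3
  rcases Nat.lt_or_ge 3 (finrank (ZMod 2) D) with h3 | h3
  · refine ⟨_, hD.orth, Cfsg.Agent.H104.EP.exists_plane ?_ ?_ (by rw [finrank_orth]; omega)⟩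
    · intro h4
      apply ht
      rw [← orth_orth D, h4]
      ext v
      constructor
      · intro _
        exact Submodule.mem_top
      · intro _ w hw
        rw [Submodule.mem_bot] at hw
        rw [hw]
        change B 0 v = 0
        rw [map_zero]
        rfl
    · intro p hp h4
      apply hnd p
      · rw [← orth_orth D]
        exact h4
      · exact hp
  · exact ⟨_, hD, Cfsg.Agent.H104.EP.exists_plane hb hnd h3⟩

/-- a minus plane moved by an element of `X` -/
theorem exists_mp {x : Γ} (hx : x ∈ X) (hx1 : x ≠ 1) {d : V} (hd0 : d ≠ 0) (hxd : x • d = d) :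
    ∃ u q : V, MP u q ∧ (∀ y ∈ X, InP u q (y • u) ∧ InP u q (y • q)) ∧ ∃ y ∈ X, y • u = q ∧ y • q = u + q := by
  obtain ⟨P, hP, u, hu, w, hw, huw, hall⟩ := h.exists_plane hx hx1 hd0 hxd
  have hu0 : u ≠ 0 := by
    intro e
    rw [e, map_zero] at huw
    exact absurd huw (by change ¬ ((0 : ZMod 2) = 1); decide)
  obtain ⟨y, hy, hyu⟩ := h.exists_move hu0
  have hq : y • u ∈ P := hP y hy u hu
  have hq0 : y • u ≠ 0 := smul_ne_zero' hu0
  have hc : y • u = w ∨ y • u = u + w := by
    rcases hall _ hq with e | e | e | e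
    · exact absurd e hq0
    · exact absurd e hyu
    · exact Or.inl e
    · exact Or.inr e
  have huq : B u (y • u) = 1 := by
    rcases hc with e | e
    · rw [e, huw]
    · rw [e, map_add, B_self, huw, zero_add]
  have hall' : ∀ p ∈ P, p = 0 ∨ p = u ∨ p = y • u ∨ p = u + y • u := by
    intro p hp
    rcases hc with e | e
    · rw [e]
      exact hall p hp
    · rw [e, ← add_assoc, add_self, zero_add]
      rcases hall p hp with e | e | e | e
      · exact Or.inl e
      · exact Or.inr (Or.inl e)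
      · exact Or.inr (Or.inr (Or.inr e))
      · exact Or.inr (Or.inr (Or.inl e))
  have hyq : y • y • u = u + y • u := by
    rcases hall' _ (hP y hy _ hq) with e | e | e | e
    · exact absurd e (smul_ne_zero' hq0)
    · exfalso
      have h1 := h.smul3 hy u
      rw [e] at h1
      exact hyu h1
    · exfalso
      exact hyu (smul_inj e)
    · exact e
  have hQ1 : Q6 (y • u) = Q6 u := Q_smul y u
  have hQ2 : Q6 (u + y • u) = Q6 u := by
    rw [← hyq]
    exact (Q_smul y (y • u)).trans hQ1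
  have hQ3 : Q6 u = 1 := by
    have h1 := Q_add u (y • u)
    rw [hQ2, hQ1, huq, two_self, zero_add] at h1
    exact h1
  refine ⟨u, y • u, ⟨hQ3, hQ1.trans hQ3, huq⟩, ?_, y, hy, rfl, hyq⟩
  intro z hz
  have h1 : ∀ p ∈ P, p ≠ 0 → InP u (y • u) (z • p) := by
    intro p hp hp0
    rcases hall' _ (hP z hz p hp) with e | e
    · exact absurd e (smul_ne_zero' hp0)
    · exact e
  exact ⟨h1 u hu hu0, h1 _ hq hq0⟩

end EX

end Cfsg.Agent.H104.EP
end

-- part: H104/EP/Frame2
section
/-!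
# Subgroups of `O₆⁻(2)` (helper104): the frame of a noncyclic abelian 3-subgroup, II
-/

set_option autoImplicit false

namespace Cfsg.Agent.H104.EP

open Subgroup Cfsg Cfsg.Agent.H781.U42Num Cfsg.Agent.H781.U42Gam Cfsg.Agent.H845.AutUFour Matrix Module

set_option maxHeartbeats 400000

namespace MP

variable {u q : V} (m : MP u q)

include m

theorem inP_Q {a : V} (h : InP u q a) : Q6 a = 1 := by
  rcases h with rfl | rfl | rfl
  · exact m.q1
  · exact m.q2
  · exact m.q3

theorem sum_of {a b c : V} (ha : InP u q a) (hb : InP u q b) (hc : InP u q c) (hab : a ≠ b) (hbc : b ≠ c)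
    (hac : a ≠ c) : a + b + c = 0 := by
  have h1 : u + q + (u + q) = 0 := add_self _
  rcases ha with rfl | rfl | rfl <;> rcases hb with hb | hb | hb <;> rcases hc with hc | hc | hc
  all_goals
    first
    | exact absurd hb.symm hab
    | exact absurd hc.symm hac
    | exact absurd (hb.trans hc.symm) hbc
    | (rw [hb, hc]
       first
       | exact h1
       | (rw [← h1]; abel))

theorem not_pp {a : V} (h : InP u q a) (hp : Pp u q a) : False := by
  have h10 : (1 : ZMod 2) ≠ 0 := by decide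
  rcases h with rfl | rfl | rfl
  · have h2 := hp.2
    rw [B_comm, m.b] at h2
    exact h10 h2
  · have h2 := hp.1
    rw [m.b] at h2
    exact h10 h2
  · have h2 := hp.1
    rw [map_add, B_self, m.b, zero_add] at h2
    exact h10 h2

end MP

namespace EX

variable {X : Subgroup Γ} (h : EX X)

include h

theorem three_distinct {x : Γ} (hx : x ∈ X) {v : V} (hv : x • v ≠ v) : v ≠ x • v ∧ x • v ≠ x • x • v ∧ v ≠ x • x • v := by
  refine ⟨hv.symm, fun e => hv (smul_inj e).symm, fun e => ?_⟩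
  have h1 := h.smul3 hx v
  rw [← e] at h1
  exact hv h1

theorem inP_smul {u q : V} (hP : ∀ y ∈ X, InP u q (y • u) ∧ InP u q (y • q)) {y : Γ} (hy : y ∈ X) {a : V}
    (m : MP u q) (ha : InP u q a) : InP u q (y • a) := by
  rcases ha with rfl | rfl | rfl
  · exact (hP y hy).1
  · exact (hP y hy).2
  · obtain ⟨h1, h2⟩ := hP y hy
    have h3 : y • u ≠ y • q := fun e => m.ne (smul_inj e)
    rw [smul_add]
    have e1 : u + (u + q) = q := by rw [← add_assoc, add_self, zero_add]
    have e2 : q + (u + q) = u := by rw [add_comm u q, ← add_assoc, add_self, zero_add]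
    have e3 : u + q + u = q := by rw [add_comm (u + q) u, e1]
    have e4 : u + q + q = u := by rw [add_comm (u + q) q, e2]
    rcases h1 with h1 | h1 | h1 <;> rcases h2 with h2 | h2 | h2 <;> rw [h1, h2] at h3 ⊢
    · exact absurd rfl h3
    · exact Or.inr (Or.inr rfl)
    · exact Or.inr (Or.inl e1)
    · exact Or.inr (Or.inr (add_comm _ _))
    · exact absurd rfl h3
    · exact Or.inl e2
    · exact Or.inr (Or.inl e3)
    · exact Or.inl e4
    · exact absurd rfl h3

theorem pp_smul {u q : V} (hP : ∀ y ∈ X, InP u q (y • u) ∧ InP u q (y • q)) {y : Γ} (hy : y ∈ X) {a : V}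
    (ha : Pp u q a) : Pp u q (y • a) := by
  have h1 : ∀ b, InP u q b → B b a = 0 := by
    intro b hb
    rcases hb with rfl | rfl | rfl
    · exact ha.1
    · exact ha.2
    · rw [map_add, LinearMap.add_apply, ha.1, ha.2, add_zero]
  obtain ⟨h2, h3⟩ := hP y⁻¹ (X.inv_mem hy)
  constructor
  · have h4 := h1 _ h2
    rw [← B_smul y, ← mul_smul, mul_inv_cancel, one_smul] at h4
    exact h4
  · have h4 := h1 _ h3
    rw [← B_smul y, ← mul_smul, mul_inv_cancel, one_smul] at h4
    exact h4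

/-- vectors of the frame -/
theorem T_of_frame {u q : V} (m : MP u q) (hP : ∀ y ∈ X, InP u q (y • u) ∧ InP u q (y • q)) {v : V} (hv : Fr u q v)
    {x : Γ} (hx : x ∈ X) : x • v = v ∨ T x v = 0 := by
  by_cases e : x • v = v
  · exact Or.inl e
  right
  obtain ⟨d1, d2, d3⟩ := h.three_distinct hx e
  rcases hv.2 with h1 | h1
  · have h2 := h.inP_smul hP hx m h1
    exact m.sum_of h1 h2 (h.inP_smul hP hx m h2) d1 d2 d3
  · have h2 := h.pp_smul hP hx h1
    have h3 := h.pp_smul hP hx h2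
    have e1 : B (x • v) (x • x • v) = B v (x • v) := B_smul x _ _
    have e2 : B v (x • x • v) = B v (x • v) := by
      have h4 := B_smul x v (x • x • v)
      rw [h.smul3 hx, B_comm (x • v) v] at h4
      exact h4.symm
    have h4 := three_perp m hv.1 h1 ((Q_smul x v).trans hv.1) h2
      ((Q_smul x (x • v)).trans ((Q_smul x v).trans hv.1)) h3 d1 d3 d2 e2 e1
    rw [T, h4]
    exact add_self _

/-- **The frame.** -/
theorem frame {u q : V} (m : MP u q) (hP : ∀ y ∈ X, InP u q (y • u) ∧ InP u q (y • q)) {y : Γ} (hy : y ∈ X)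
    (hyu : y • u = q) (hyq : y • q = u + q) {x : Γ} (hx : x ∈ X) (hx1 : x ≠ 1) {d₀ : V} (hd₀ : d₀ ≠ 0)
    (hxd : x • d₀ = d₀) {v : V} (hv : Q6 v = 1) (hvX : ∀ x ∈ X, x • v = v ∨ T x v = 0) : Fr u q v := by
  by_contra hcon
  have c1 : ¬ InP u q v := fun h1 => hcon ⟨hv, Or.inl h1⟩
  have c2 : ¬ Pp u q v := fun h1 => hcon ⟨hv, Or.inr h1⟩
  have hqu : B q u = 1 := by rw [B_comm]; exact m.b
  -- the decomposition `v = p + d`
  obtain ⟨p, hpdef⟩ : ∃ p : V, p = B q v • u + B u v • q := ⟨_, rfl⟩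
  have hup : B u p = B u v := by
    rw [hpdef, map_add, map_smul, map_smul, B_self, m.b, smul_zero, zero_add, smul_eq_mul, mul_one]
  have hqp : B q p = B q v := by
    rw [hpdef, map_add, map_smul, map_smul, B_self, hqu, smul_zero, add_zero, smul_eq_mul, mul_one]
  have hp0 : p ≠ 0 := by
    intro e
    rw [e, map_zero] at hup hqp
    exact c2 ⟨hup.symm, hqp.symm⟩
  have hpP : InP u q p := by
    rcases zmod_cases (B q v) with e1 | e1 <;> rcases zmod_cases (B u v) with e2 | e2 <;> rw [e1, e2] at hpdef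
    · exfalso
      apply hp0
      rw [hpdef, zero_smul, zero_smul, add_zero]
    · exact Or.inr (Or.inl (by rw [hpdef, zero_smul, one_smul, zero_add]))
    · exact Or.inl (by rw [hpdef, zero_smul, one_smul, add_zero])
    · exact Or.inr (Or.inr (by rw [hpdef, one_smul, one_smul]))
  obtain ⟨d, hd⟩ : ∃ d : V, d = v + p := ⟨_, rfl⟩
  have hdP : Pp u q d := by
    constructor
    · rw [hd, map_add, hup]
      exact two_self _
    · rw [hd, map_add, hqp]
      exact two_self _
  have hvpd : v = p + d := by rw [hd, add_comm v p, ← add_assoc, add_self, zero_add]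
  have hd0 : d ≠ 0 := by
    intro e
    rw [e, add_zero] at hvpd
    exact c1 (by rw [hvpd]; exact hpP)
  have hBp : ∀ a, InP u q a → ∀ b, Pp u q b → B a b = 0 := by
    intro a ha b hb
    rcases ha with rfl | rfl | rfl
    · exact hb.1
    · exact hb.2
    · rw [map_add, LinearMap.add_apply, hb.1, hb.2, add_zero]
  have hQd : Q6 d = 0 := by
    have h1 := Q_add p d
    rw [← hvpd, hv, m.inP_Q hpP, hBp p hpP d hdP, add_zero] at h1
    have h2 : ∀ z : ZMod 2, 1 = 1 + z → z = 0 := by decide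
    exact h2 _ h1
  have hadd : ∀ {a b : V}, Pp u q a → Pp u q b → Pp u q (a + b) := by
    intro a b ha hb
    exact ⟨by rw [map_add, ha.1, hb.1, add_zero], by rw [map_add, ha.2, hb.2, add_zero]⟩
  -- the elements of `P`
  have hall : ∀ {z : Γ}, z ∈ X → z • p ≠ p → ∀ {a : V}, InP u q a → a = p ∨ a = z • p ∨ a = z • z • p := by
    intro z hz hzp a ha
    by_contra h1
    push Not at h1
    obtain ⟨n1, n2, n3⟩ := h1
    obtain ⟨d1, d2, d3⟩ := h.three_distinct hz hzp
    have i1 := h.inP_smul hP hz m hpP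
    have i2 := h.inP_smul hP hz m i1
    have s1 := m.sum_of hpP i1 i2 d1 d2 d3
    have s2 := m.sum_of hpP i1 ha d1 (Ne.symm n2) (Ne.symm n1)
    exact n3 (add_left_cancel (s2.trans s1.symm))
  -- `y` moves `p`
  have hyp : y • p ≠ p := by
    have e2 : y • (u + q) = u := by
      rw [smul_add, hyu, hyq, add_comm u q, ← add_assoc, add_self, zero_add]
    rcases hpP with e | e | e <;> rw [e]
    · rw [hyu]
      exact m.ne.symm
    · rw [hyq]
      intro e3
      apply m.u_ne
      exact add_eq_right.1 e3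
    · rw [e2]
      intro e3
      apply m.swap.u_ne
      exact left_eq_add.1 e3
  have hsplit : ∀ {a b : V}, InP u q a → Pp u q b → a + b ≠ 0 := by
    intro a b ha hb e
    rw [← eq_of_add_eq_zero' e] at hb
    exact m.not_pp ha hb
  -- fixed elements
  have hfixv : ∀ {z : Γ}, z ∈ X → z • v = v → z • p = p ∧ z • d = d := by
    intro z hz e
    rw [hvpd, smul_add] at e
    have i1 := h.inP_smul hP hz m hpP
    have i2 := h.pp_smul hP hz hdP
    have e1 : z • p = p := by
      by_contra hne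
      have s1 : InP u q (z • p + p) := by
        obtain ⟨d1, d2, d3⟩ := h.three_distinct hz hne
        have i3 := h.inP_smul hP hz m i1
        have s2 := m.sum_of hpP i1 i3 d1 d2 d3
        have s3 : z • p + p = z • z • p := by
          rw [add_comm]
          exact eq_of_add_eq_zero' s2
        rw [s3]
        exact i3
      apply hsplit s1 (hadd i2 hdP)
      have e2 : z • p + p + (z • d + d) = (z • p + z • d) + (p + d) := by abel
      rw [e2, e]
      exact add_self _
    refine ⟨e1, ?_⟩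
    rw [e1] at e
    exact add_left_cancel e
  have hyT : T y d = 0 := by
    rcases hvX y hy with e | e
    · exact absurd (hfixv hy e).1 hyp
    · rw [hvpd, T_add] at e
      obtain ⟨d1, d2, d3⟩ := h.three_distinct hy hyp
      have i1 := h.inP_smul hP hy m hpP
      have s1 : T y p = 0 := m.sum_of hpP i1 (h.inP_smul hP hy m i1) d1 d2 d3
      rw [s1, zero_add] at e
      exact e
  obtain ⟨e, he⟩ : ∃ e : V, e = y • d := ⟨_, rfl⟩
  have heP : Pp u q e := by rw [he]; exact h.pp_smul hP hy hdP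
  have he0 : e ≠ 0 := by rw [he]; exact smul_ne_zero' hd0
  have hQe : Q6 e = 0 := by rw [he]; exact (Q_smul y d).trans hQd
  have hde : d ≠ e := by
    intro e1
    rw [he] at e1
    rw [T_fix add_self e1.symm] at hyT
    exact hd0 hyT
  have hyye : y • e = d + e := by
    rw [T, ← he] at hyT
    exact (eq_of_add_eq_zero' hyT).symm
  have hBde : B d e = 0 := by
    have h1 := Q_add d e
    have h2 : Q6 (d + e) = 0 := by rw [← hyye]; exact (Q_smul y e).trans hQe
    rw [h2, hQd, hQe, zero_add, zero_add] at h1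
    exact h1.symm
  -- the element `k`
  obtain ⟨k, hk, hk1, hkp⟩ : ∃ k ∈ X, k ≠ 1 ∧ k • p = p := by
    by_cases hxp : x • p = p
    · exact ⟨x, hx, hx1, hxp⟩
    obtain ⟨z, hz, hzd⟩ := h.exists_move hd₀
    rcases hall hx hxp (h.inP_smul hP hz m hpP) with e1 | e1 | e1
    · refine ⟨z, hz, ?_, e1⟩
      rintro rfl
      exact hzd (one_smul _ _)
    · refine ⟨x⁻¹ * z, X.mul_mem (X.inv_mem hx) hz, ?_, ?_⟩
      · intro e2
        have e3 : z = x := (inv_mul_eq_one.1 e2).symm
        rw [e3] at hzd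
        exact hzd hxd
      · rw [mul_smul, e1, ← mul_smul, inv_mul_cancel, one_smul]
    · refine ⟨(x * x)⁻¹ * z, X.mul_mem (X.inv_mem (X.mul_mem hx hx)) hz, ?_, ?_⟩
      · intro e2
        have e3 : z = x * x := (inv_mul_eq_one.1 e2).symm
        rw [e3, mul_smul, hxd] at hzd
        exact hzd hxd
      · rw [mul_smul, e1, ← mul_smul x x, ← mul_smul, inv_mul_cancel, one_smul]
  have hkv : k • v = v := by
    rcases hvX k hk with e1 | e1
    · exact e1
    · exfalso
      rw [hvpd, T_add, T_fix add_self hkp] at e1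
      have i1 := h.pp_smul hP hk hdP
      exact hsplit hpP (hadd (hadd hdP i1) (h.pp_smul hP hk i1)) e1
  have hkd : k • d = d := (hfixv hk hkv).2
  have hke : k • e = e := by rw [he, h.smul_comm' hk hy, hkd]
  have hkP : ∀ {a : V}, InP u q a → k • a = a := by
    intro a ha
    rcases hall hy hyp ha with e1 | e1 | e1 <;> rw [e1]
    · exact hkp
    · rw [h.smul_comm' hk hy, hkp]
    · rw [h.smul_comm' hk hy, h.smul_comm' hk hy, hkp]
  apply hk1
  apply eq_one_of_smul
  intro z
  have hperp : ∀ c : V, k • c = c → B c (z + k • z) = 0 := by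
    intro c hc
    have h1 := B_smul k c z
    rw [hc] at h1
    rw [map_add, h1]
    exact two_self _
  have hfix : k • (z + k • z) = z + k • z := by
    rcases line_perp m hQd hd0 hdP hQe he0 heP hde hBde (y := z + k • z)
      ⟨hperp u (hkP (Or.inl rfl)), hperp q (hkP (Or.inr (Or.inl rfl)))⟩ ⟨hperp d hkd, hperp e hke⟩ with e1 | e1 | e1 | e1
    · rw [e1, smul_zero]
    · rw [e1, hkd]
    · rw [e1, hke]
    · rw [e1, smul_add, hkd, hke]
  have h1 : k • k • z = z := by
    rw [smul_add, add_comm] at hfix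
    exact add_right_cancel hfix
  have h2 := h.smul3 hk z
  rw [h1] at h2
  exact h2

end EX

end Cfsg.Agent.H104.EP
end

-- part: H104/EP/Norm
section
/-!
# Subgroups of `O₆⁻(2)` (helper104): normal elementary abelian subgroups of irreducible groups
-/

set_option autoImplicit false

namespace Cfsg.Agent.H104.EP

open Subgroup Cfsg Cfsg.Agent.H781.U42Num Cfsg.Agent.H781.U42Gam Cfsg.Agent.H845.AutUFour Matrix Module

set_option maxHeartbeats 400000

theorem exists_vec : ∃ v : V, v ≠ 0 := by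
  refine ⟨toV 1, ?_⟩
  intro h
  have h1 := congrArg ofV h
  rw [ofV_toV 1 (by norm_num), ofV_zero] at h1
  exact one_ne_zero h1

/-- a normal elementary abelian 3-subgroup -/
theorem three {M X : Subgroup Γ} (hirr : Irr M) (hn : ∀ g ∈ M, ∀ x ∈ X, g * x * g⁻¹ ∈ X)
    (hc : ∀ x ∈ X, ∀ y ∈ X, x * y = y * x) (h3 : ∀ x ∈ X, x * (x * x) = 1) (hX : X ≠ ⊥) : Fix3 M ∨ Fix4 M := by
  have h : EX X := ⟨hc, h3, fun v hv => no_fixed hirr hn hX hv⟩
  by_cases hA : ∃ x ∈ X, x ≠ 1 ∧ ∃ d : V, d ≠ 0 ∧ x • d = d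
  · left
    obtain ⟨x, hx, hx1, d, hd, hxd⟩ := hA
    obtain ⟨u, q, m, hP, y, hy, hyu, hyq⟩ := h.exists_mp hx hx1 hd hxd
    refine ⟨u, q, m, fun g hg v hv => ?_⟩
    refine h.frame m hP hy hyu hyq hx hx1 hd hxd ((Q_smul g v).trans hv.1) fun z hz => ?_
    have hz' : g⁻¹ * z * g ∈ X := by
      have h1 := hn g⁻¹ (M.inv_mem hg) z hz
      rwa [inv_inv] at h1
    have e1 : ∀ w : V, z • g • w = g • ((g⁻¹ * z * g) • w) := by
      intro w
      rw [← mul_smul, ← mul_smul, ← mul_assoc, ← mul_assoc, mul_inv_cancel, one_mul]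
    have e3 : T z (g • v) = g • T (g⁻¹ * z * g) v := by
      rw [T, T, e1, e1, smul_add, smul_add]
    rcases h.T_of_frame m hP hv hz' with e2 | e2
    · left
      exact (e1 v).trans (congrArg (fun w : V => g • w) e2)
    · right
      exact e3.trans ((congrArg (fun w : V => g • w) e2).trans (smul_zero g))
  · right
    push Not at hA
    have hT : ∀ x ∈ X, x ≠ 1 → ∀ v : V, T x v = 0 := by
      intro x hx hx1 v
      by_contra hne
      exact hA x hx hx1 _ hne (smul_T (h.smul3 hx) v)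
    obtain ⟨v, hv⟩ := exists_vec
    obtain ⟨x, hx, hx1⟩ := (Subgroup.ne_bot_iff_exists_ne_one.1 hX : ∃ a : X, a ≠ 1) |>.elim
      (fun a ha => (⟨a.1, a.2, fun e => ha (Subtype.ext e)⟩ : ∃ x, x ∈ X ∧ x ≠ 1))
    have hall : ∀ y ∈ X, y ≠ 1 → y = x ∨ y = x * x := by
      intro y hy hy1
      by_contra hcon
      push Not at hcon
      obtain ⟨n1, n2⟩ := hcon
      apply hv
      have i3 : ∀ z ∈ X, z⁻¹ = z * z := fun z hz => inv_eq_of_mul_eq_one_right (h3 z hz)
      have hyy : y * y ∈ X := X.mul_mem hy hy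
      refine eq_zero_of_T add_self (hc x hx y hy) (h.smul3 hy) (hT x hx hx1 v) (hT y hy hy1 v)
        (hT _ (X.mul_mem hx hy) ?_ v) (hT _ (X.mul_mem hx hyy) ?_ v) ?_
      · intro e
        apply n2
        rw [← i3 x hx]
        exact eq_inv_of_mul_eq_one_right e
      · intro e
        apply n1
        have e1 : y * y = x⁻¹ := eq_inv_of_mul_eq_one_right e
        rw [← i3 y hy] at e1
        exact inv_injective e1
      · rw [hT y hy hy1 v, T, smul_zero, smul_zero, add_zero, add_zero]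
    refine ⟨x, hT x hx hx1, fun g hg => ?_⟩
    apply hall _ (hn g hg x hx)
    intro e
    apply hx1
    rw [mul_inv_eq_one] at e
    exact mul_left_cancel (e.trans (mul_one g).symm)

/-- a normal elementary abelian 2-subgroup -/
theorem two {M X : Subgroup Γ} (hirr : Irr M) (hn : ∀ g ∈ M, ∀ x ∈ X, g * x * g⁻¹ ∈ X)
    (h2 : ∀ x ∈ X, x ^ 2 = 1) (hX : X ≠ ⊥) : False := by
  have hfin : Finite Γ := Nat.finite_of_card_ne_zero (by rw [card_isometry]; norm_num)
  have hp : Fact (Nat.Prime 2) := ⟨Nat.prime_two⟩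
  have hpg : IsPGroup 2 X := fun x => ⟨1, Subtype.ext (h2 x x.2)⟩
  have h1 := hpg.card_modEq_card_fixedPoints V
  rw [card_V] at h1
  have h0 : (0 : V) ∈ MulAction.fixedPoints X V := fun x => smul_zero x
  obtain ⟨v, hv, hv0⟩ : ∃ v ∈ MulAction.fixedPoints X V, v ≠ 0 := by
    by_contra hcon
    push Not at hcon
    have h3 : MulAction.fixedPoints X V = {0} := by
      ext v
      exact ⟨fun hv => hcon v hv, fun hv => by rw [Set.mem_singleton_iff.1 hv]; exact h0⟩
    have h4 : Nat.card (MulAction.fixedPoints X V) = 1 := by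
      rw [h3]
      exact Nat.card_unique
    rw [h4] at h1
    exact absurd h1 (by decide)
  exact hv0 (no_fixed hirr hn hX fun x hx => hv ⟨x, hx⟩)

end Cfsg.Agent.H104.EP
end

private theorem dce_69a3d6be7d0f : _root_.True := by
  try have : _root_.True := by simp only [_root_.Cfsg.Agent.H104.EP.pl.eq_1]
  try have : _root_.True := by simp only [_root_.Cfsg.Agent.H104.EP.Pp.eq_1]
  try have : _root_.True := by simp only [_root_.Cfsg.Agent.H104.EP.InP.eq_1]
  try have : _root_.True := by simp only [_root_.Cfsg.Agent.H104.EP.B.eq_1]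
  try have : _root_.True := by simp only [_root_.Cfsg.Agent.H104.EP.T.eq_1]
  try have : _root_.True := by simp only [_root_.Cfsg.Agent.H781.U42Num.pol.eq_1]
  exact _root_.True.intro
end

-- part: H104/EP/U42
section
prune_inst 0x464102c440b62020000008002c02004348e00042000030800d96103000286fe630982ae40fc000b03430aa02500390028130804794000000000000400413d07a99082c604b348a10ca6009f802884000000000000000000000000000000051004000400000
set_option linter.all false
open scoped Cfsg.Agent.FastGrp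

-- part: H104/EP/FiveNum
section
/-!
# Subgroups of `O₆⁻(2)` (helper104): unions of orbits of an element of order five
-/

set_option autoImplicit false

namespace Cfsg.Agent.H104.EP

open Cfsg Cfsg.Agent.H781.U42Num

/-- the element of order five, its inverse, its cube and the inverse of the cube -/
def yl : List ℕ := [19, 44, 27, 23, 34, 3]
def yil : List ℕ := [62, 30, 9, 5, 33, 14]

/-- iterates -/
def it : ℕ → ℕ → ℕ
  | 0, n => n
  | k + 1, n => ap yl (it k n)

/-- sums -/
def sm : ℕ → (ℕ → ℕ) → ℕ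
  | 0, _ => 0
  | n + 1, f => Nat.add (sm n f) (f n)

/-- digits -/
def ix (t n : ℕ) : ℕ := Nat.land (Nat.shiftRight t (4 * n)) 15
def rp (t i : ℕ) : ℕ := Nat.land (Nat.shiftRight t (6 * i)) 63

/-- a union of orbits -/
def FF (P : ℕ → Bool) (t b n : ℕ) : Bool := Bool.and (P n) (Nat.testBit b (ix t n))

/-- the degree -/
def dg (F : ℕ → Bool) (v : ℕ) : ℕ := sm 64 fun w => bif Bool.and (F w) (pol v w) then 1 else 0

/-- twice the number of triangles -/
def tr (F : ℕ → Bool) (v : ℕ) : ℕ :=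
  sm 64 fun w => bif Bool.and (F w) (pol v w) then
    (sm 64 fun x => bif Bool.and (F x) (Bool.and (pol v x) (pol w x)) then 1 else 0) else 0

/-- `pol z` is constant on the set -/
def cs (F : ℕ → Bool) (m z : ℕ) : Bool := allB 64 fun w => im' (F w) (Bool.not (Bool.xor (pol z w) (pol z m)))

def chkA (P : ℕ → Bool) (t r K : ℕ) : Bool :=
  allB 64 fun n => im' (P n) (Bool.and (lt' (ix t n) K) (Bool.and (P (rp r (ix t n)))
    (Bool.or (Nat.beq (it 0 (rp r (ix t n))) n) (Bool.or (Nat.beq (it 1 (rp r (ix t n))) n)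
    (Bool.or (Nat.beq (it 2 (rp r (ix t n))) n) (Bool.or (Nat.beq (it 3 (rp r (ix t n))) n)
      (Nat.beq (it 4 (rp r (ix t n))) n)))))))

def chkB (P : ℕ → Bool) (t r K : ℕ) : Bool :=
  allB (2 ^ K) fun b => im' (Nat.testBit b 0)
    (im' (allB K fun i => im' (Nat.testBit b i) (Nat.beq (dg (FF P t b) (rp r i)) (dg (FF P t b) (rp r 0))))
      (im' (allB K fun i => im' (Nat.testBit b i) (Nat.beq (tr (FF P t b) (rp r i)) (tr (FF P t b) (rp r 0))))
        (im' (Bool.and (Bool.not (cs (FF P t b) (rp r 0) 12)) (Bool.and (Bool.not (cs (FF P t b) (rp r 0) 39))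
          (Bool.not (cs (FF P t b) (rp r 0) 43)))) (Nat.beq b (2 ^ K - 1)))))

def tN : ℕ := 7237055346041734056333265763461927288629628125793798796118313913116518256640
def tS : ℕ := 972207605819366444020516691543407030083622263052965787665081483746006532896
def rN : ℕ := 111411672674508
def rS : ℕ := 1929581697767

set_option maxRecDepth 100000 in
theorem chkA_N : chkA qf tN rN 8 = true := by decide +kernel

set_option maxRecDepth 100000 in
theorem chkA_S : chkA sg tS rS 7 = true := by decide +kernel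

private noncomputable def _root_.Cfsg.Agent.KO048ed42.oEq.{ku} (α : Sort ku) (a b : Nat) (f t : α) : α := @Decidable.rec (a = b) (fun _ => α) (fun _ => f) (fun _ => t) (Nat.decEq a b)
private noncomputable def _root_.Cfsg.Agent.KO048ed42.k0.{ku} (α : Sort ku) (a b : Nat) (f t : α) : α := @Bool.rec (fun _ => α) f t (Nat.beq a b)
private theorem _root_.Cfsg.Agent.KO048ed42.e0.{ku} : @_root_.Cfsg.Agent.KO048ed42.oEq.{ku} = @_root_.Cfsg.Agent.KO048ed42.k0.{ku} := funext fun α => funext fun a => funext fun b => funext fun f => funext fun t => by delta _root_.Cfsg.Agent.KO048ed42.oEq _root_.Cfsg.Agent.KO048ed42.k0; cases h : Nat.beq a b <;> cases Nat.decEq a b <;> rename_i g <;> first | rfl | exact absurd g (Nat.ne_of_beq_eq_false h) | exact absurd (Nat.eq_of_beq_eq_true h) g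
private theorem _root_.Cfsg.Agent.KO048ed42.e1.{ku} {M : Nat → Sort ku} (φ : ∀ n, M n) {z : M Nat.zero} {s : ∀ n, M n → M (Nat.succ n)} (h0 : φ Nat.zero = z) (hs : ∀ n, φ (Nat.succ n) = s n (φ n)) (n : Nat) : φ n = @Nat.rec M z s n := Nat.rec h0 (fun n ih => (hs n).trans (congrArg (s n) ih)) n
private noncomputable def _root_.Cfsg.Agent.KO048ed42.k2 : (by first | exact type_of% @Cfsg.Agent.H781.U42Num.allB | exact Unit : Sort _) := by first | (refine @Subtype.val _ (fun g => @Cfsg.Agent.H781.U42Num.allB = @g) (@Subtype.mk _ _ (@(fun x0 x1 => @Nat.rec.{1} @(fun x2 => (ℕ → @Bool) → @Bool) @(fun x2 => @Bool.true) @(fun x2 x3 x4 => @Bool.rec.{1} @(fun x5 => @Bool) @Bool.false (@x3 @x4) (@x4 @x2)) @x0 @x1)) ?_); funext a0 a1; refine (congrFun (_root_.Cfsg.Agent.KO048ed42.e1 (fun a0 a1 => @Cfsg.Agent.H781.U42Num.allB a0 a1) ?_ (fun c0 => ?_) a0) a1 :) <;> (rfl')) | exact @Cfsg.Agent.H781.U42Num.allB | exact ()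
private theorem _root_.Cfsg.Agent.KO048ed42.e2 : (by first | exact @Cfsg.Agent.H781.U42Num.allB = @_root_.Cfsg.Agent.KO048ed42.k2 | exact True : Prop) := by first | (delta _root_.Cfsg.Agent.KO048ed42.k2; exact @Subtype.property _ (fun g => @Cfsg.Agent.H781.U42Num.allB = @g) _) | rfl | trivial
private noncomputable def _root_.Cfsg.Agent.KO048ed42.k3 : type_of% @Bool.decEq := @(fun x0 x1 => @Bool.rec.{1} @(fun x2 => @Decidable (@Eq.{1} _ @x2 @x1)) (@Bool.rec.{1} @(fun x2 => @Decidable (@Eq.{1} _ @Bool.false @x2)) (@Decidable.isTrue _ (@rfl.{1} _ _)) (@Decidable.isFalse _ @(fun x2 => @Bool.noConfusion.{0} _ _ _ @x2)) @x1) (@Bool.rec.{1} @(fun x2 => @Decidable (@Eq.{1} _ @Bool.true @x2)) (@Decidable.isFalse _ @(fun x2 => @Bool.noConfusion.{0} _ _ _ @x2)) (@Decidable.isTrue _ (@rfl.{1} _ _)) @x1) @x0)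
private theorem _root_.Cfsg.Agent.KO048ed42.e3 : @Bool.decEq = @_root_.Cfsg.Agent.KO048ed42.k3 := by delta _root_.Cfsg.Agent.KO048ed42.k3; rfl'
private noncomputable def _root_.Cfsg.Agent.KO048ed42.k5 : (by first | exact type_of% @Cfsg.Agent.H104.EP.cs | exact Unit : Sort _) := by first | (refine @Subtype.val _ (fun g => @Cfsg.Agent.H104.EP.cs = @g) (@Subtype.mk _ _ (@(fun x0 x1 x2 => @Cfsg.Agent.KO048ed42.k2 (nat_lit 64) @(fun x3 => @Bool.rec.{1} @(fun x4 => @Bool) (@Bool.rec.{1} @(fun x4 => @Bool) @Bool.true @Bool.false (@Bool.rec.{1} @(fun x4 => @Bool) @Bool.true @Bool.false (@Decidable.rec.{1} _ @(fun x4 => @Bool) @(fun x4 => @Bool.false) @(fun x4 => @Bool.true) (@Cfsg.Agent.KO048ed42.k3 (@Cfsg.Agent.H781.U42Num.pol @x2 @x3) (@Cfsg.Agent.H781.U42Num.pol @x2 @x1))))) @Bool.true (@Bool.rec.{1} @(fun x4 => @Bool) @Bool.true @Bool.false (@x0 @x3))))) ?_); rewrite [← Cfsg.Agent.KO048ed42.e3, ← Cfsg.Agent.KO048ed42.e2]; (try delta Cfsg.Agent.H104.EP.cs Cfsg.Agent.H104.EP.im');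 (try generalize @Cfsg.Agent.H781.U42Num.allB = g0); (try generalize @Cfsg.Agent.H781.U42Num.pol = g1); rfl') | exact @Cfsg.Agent.H104.EP.cs | exact ()
private theorem _root_.Cfsg.Agent.KO048ed42.e5 : (by first | exact @Cfsg.Agent.H104.EP.cs = @_root_.Cfsg.Agent.KO048ed42.k5 | exact True : Prop) := by first | (delta _root_.Cfsg.Agent.KO048ed42.k5; exact @Subtype.property _ (fun g => @Cfsg.Agent.H104.EP.cs = @g) _) | rfl | trivial
private noncomputable def _root_.Cfsg.Agent.KO048ed42.k6 : (by first | exact type_of% @Cfsg.Agent.H104.EP.ix | exact Unit : Sort _) := by first | (refine @Subtype.val _ (fun g => @Cfsg.Agent.H104.EP.ix = @g) (@Subtype.mk _ _ (@(fun x0 x1 => @Nat.land (@Nat.shiftRight @x0 (@Nat.mul (nat_lit 4) @x1)) (nat_lit 15))) ?_); rfl') | exact @Cfsg.Agent.H104.EP.ix | exact ()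
private theorem _root_.Cfsg.Agent.KO048ed42.e6 : (by first | exact @Cfsg.Agent.H104.EP.ix = @_root_.Cfsg.Agent.KO048ed42.k6 | exact True : Prop) := by first | (delta _root_.Cfsg.Agent.KO048ed42.k6; exact @Subtype.property _ (fun g => @Cfsg.Agent.H104.EP.ix = @g) _) | rfl | trivial
private noncomputable def _root_.Cfsg.Agent.KO048ed42.k7 : (by first | exact type_of% @Cfsg.Agent.H104.EP.FF | exact Unit : Sort _) := by first | (refine @Subtype.val _ (fun g => @Cfsg.Agent.H104.EP.FF = @g) (@Subtype.mk _ _ (@(fun x0 x1 x2 x3 => @Bool.rec.{1} @(fun x4 => @Bool) @Bool.false (@Bool.rec.{1} @(fun x4 => @Bool) @Bool.true @Bool.false (@Cfsg.Agent.KO048ed42.k0.{1} @Bool (@Nat.land (nat_lit 1) (@Nat.shiftRight @x2 (@Cfsg.Agent.KO048ed42.k6 @x1 @x3))) (nat_lit 0) @Bool.false @Bool.true)) (@x0 @x3))) ?_); rewrite [← Cfsg.Agent.KO048ed42.e6, ← Cfsg.Agent.KO048ed42.e0.{1}]; (try delta Cfsg.Agent.H104.EP.FF); (try generalize @Cfsg.Agent.H104.EP.ix = g0); rfl') | exact @Cfsg.Agent.H104.EP.FF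 | exact ()
private theorem _root_.Cfsg.Agent.KO048ed42.e7 : (by first | exact @Cfsg.Agent.H104.EP.FF = @_root_.Cfsg.Agent.KO048ed42.k7 | exact True : Prop) := by first | (delta _root_.Cfsg.Agent.KO048ed42.k7; exact @Subtype.property _ (fun g => @Cfsg.Agent.H104.EP.FF = @g) _) | rfl | trivial
private noncomputable def _root_.Cfsg.Agent.KO048ed42.k8 : (by first | exact type_of% @Cfsg.Agent.H104.EP.rp | exact Unit : Sort _) := by first | (refine @Subtype.val _ (fun g => @Cfsg.Agent.H104.EP.rp = @g) (@Subtype.mk _ _ (@(fun x0 x1 => @Nat.land (@Nat.shiftRight @x0 (@Nat.mul (nat_lit 6) @x1)) (nat_lit 63))) ?_); rfl') | exact @Cfsg.Agent.H104.EP.rp | exact ()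
private theorem _root_.Cfsg.Agent.KO048ed42.e8 : (by first | exact @Cfsg.Agent.H104.EP.rp = @_root_.Cfsg.Agent.KO048ed42.k8 | exact True : Prop) := by first | (delta _root_.Cfsg.Agent.KO048ed42.k8; exact @Subtype.property _ (fun g => @Cfsg.Agent.H104.EP.rp = @g) _) | rfl | trivial
private noncomputable def _root_.Cfsg.Agent.KO048ed42.k9 : (by first | exact type_of% @Cfsg.Agent.H104.EP.sm | exact Unit : Sort _) := by first | (refine @Subtype.val _ (fun g => @Cfsg.Agent.H104.EP.sm = @g) (@Subtype.mk _ _ (@(fun x0 x1 => @Nat.rec.{1} @(fun x2 => (ℕ → ℕ) → ℕ) @(fun x2 => nat_lit 0) @(fun x2 x3 x4 => @Nat.add (@x3 @x4) (@x4 @x2)) @x0 @x1)) ?_); funext a0 a1; refine (congrFun (_root_.Cfsg.Agent.KO048ed42.e1 (fun a0 a1 => @Cfsg.Agent.H104.EP.sm a0 a1) ?_ (fun c0 => ?_) a0) a1 :) <;> (rfl')) | exact @Cfsg.Agent.H104.EP.sm | exact ()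
private theorem _root_.Cfsg.Agent.KO048ed42.e9 : (by first | exact @Cfsg.Agent.H104.EP.sm = @_root_.Cfsg.Agent.KO048ed42.k9 | exact True : Prop) := by first | (delta _root_.Cfsg.Agent.KO048ed42.k9; exact @Subtype.property _ (fun g => @Cfsg.Agent.H104.EP.sm = @g) _) | rfl | trivial
private noncomputable def _root_.Cfsg.Agent.KO048ed42.k10 : (by first | exact type_of% @Cfsg.Agent.H104.EP.tr | exact Unit : Sort _) := by first | (refine @Subtype.val _ (fun g => @Cfsg.Agent.H104.EP.tr = @g) (@Subtype.mk _ _ (@(fun x0 x1 => @Cfsg.Agent.KO048ed42.k9 (nat_lit 64) @(fun x2 => @Bool.rec.{1} @(fun x3 => ℕ) (nat_lit 0) (@Cfsg.Agent.KO048ed42.k9 (nat_lit 64) @(fun x3 => @Bool.rec.{1} @(fun x4 => ℕ) (nat_lit 0) (nat_lit 1) (@Bool.rec.{1} @(fun x4 => @Bool) @Bool.false (@Bool.rec.{1} @(fun x4 => @Bool) @Bool.false (@Cfsg.Agent.H781.U42Num.pol @x2 @x3) (@Cfsg.Agent.H781.U42Num.pol @x1 @x3)) (@x0 @x3)))) (@Bool.rec.{1} @(fun x3 => @Bool) @Bool.false (@Cfsg.Agent.H781.U42Num.pol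 @x1 @x2) (@x0 @x2))))) ?_); rewrite [← Cfsg.Agent.KO048ed42.e9]; (try delta Cfsg.Agent.H104.EP.tr); (try generalize @Cfsg.Agent.H104.EP.sm = g0); (try generalize @Cfsg.Agent.H781.U42Num.pol = g1); rfl') | exact @Cfsg.Agent.H104.EP.tr | exact ()
private theorem _root_.Cfsg.Agent.KO048ed42.e10 : (by first | exact @Cfsg.Agent.H104.EP.tr = @_root_.Cfsg.Agent.KO048ed42.k10 | exact True : Prop) := by first | (delta _root_.Cfsg.Agent.KO048ed42.k10; exact @Subtype.property _ (fun g => @Cfsg.Agent.H104.EP.tr = @g) _) | rfl | trivial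
private noncomputable def _root_.Cfsg.Agent.KO048ed42.k11 : (by first | exact type_of% @Cfsg.Agent.H104.EP.dg | exact Unit : Sort _) := by first | (refine @Subtype.val _ (fun g => @Cfsg.Agent.H104.EP.dg = @g) (@Subtype.mk _ _ (@(fun x0 x1 => @Cfsg.Agent.KO048ed42.k9 (nat_lit 64) @(fun x2 => @Bool.rec.{1} @(fun x3 => ℕ) (nat_lit 0) (nat_lit 1) (@Bool.rec.{1} @(fun x3 => @Bool) @Bool.false (@Cfsg.Agent.H781.U42Num.pol @x1 @x2) (@x0 @x2))))) ?_); rewrite [← Cfsg.Agent.KO048ed42.e9]; (try delta Cfsg.Agent.H104.EP.dg); (try generalize @Cfsg.Agent.H104.EP.sm = g0); (try generalize @Cfsg.Agent.H781.U42Num.pol = g1); rfl') | exact @Cfsg.Agent.H104.EP.dg | exact ()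
private theorem _root_.Cfsg.Agent.KO048ed42.e11 : (by first | exact @Cfsg.Agent.H104.EP.dg = @_root_.Cfsg.Agent.KO048ed42.k11 | exact True : Prop) := by first | (delta _root_.Cfsg.Agent.KO048ed42.k11; exact @Subtype.property _ (fun g => @Cfsg.Agent.H104.EP.dg = @g) _) | rfl | trivial
private noncomputable def _root_.Cfsg.Agent.KO048ed42.k12 : (by first | exact type_of% @Cfsg.Agent.H104.EP.chkB | exact Unit : Sort _) := by first | (refine @Subtype.val _ (fun g => @Cfsg.Agent.H104.EP.chkB = @g) (@Subtype.mk _ _ (@(fun x0 x1 x2 x3 => @Cfsg.Agent.KO048ed42.k2 (@Nat.pow (nat_lit 2) @x3) @(fun x4 => @Bool.rec.{1} @(fun x5 => @Bool) (@Bool.rec.{1} @(fun x5 => @Bool) (@Bool.rec.{1} @(fun x5 => @Bool) (@Bool.rec.{1} @(fun x5 => @Bool) (@Nat.beq @x4 (@Nat.sub (@Nat.pow (nat_lit 2) @x3) (nat_lit 1))) @Bool.true (@Bool.rec.{1} @(fun x5 => @Bool) @Bool.true @Bool.false (@Bool.rec.{1} @(fun x5 => @Bool) @Bool.false (@Bool.rec.{1} @(fun x5 => @Bool) @Bool.false (@Bool.rec.{1}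 @(fun x5 => @Bool) @Bool.true @Bool.false (@Cfsg.Agent.KO048ed42.k5 (@Cfsg.Agent.KO048ed42.k7 @x0 @x1 @x4) (@Cfsg.Agent.KO048ed42.k8 @x2 (nat_lit 0)) (nat_lit 43))) (@Bool.rec.{1} @(fun x5 => @Bool) @Bool.true @Bool.false (@Cfsg.Agent.KO048ed42.k5 (@Cfsg.Agent.KO048ed42.k7 @x0 @x1 @x4) (@Cfsg.Agent.KO048ed42.k8 @x2 (nat_lit 0)) (nat_lit 39)))) (@Bool.rec.{1} @(fun x5 => @Bool) @Bool.true @Bool.false (@Cfsg.Agent.KO048ed42.k5 (@Cfsg.Agent.KO048ed42.k7 @x0 @x1 @x4) (@Cfsg.Agent.KO048ed42.k8 @x2 (nat_lit 0)) (nat_lit 12)))))) @Bool.true (@Bool.rec.{1} @(fun x5 => @Bool) @Bool.true @Bool.false (@Cfsg.Agent.KO048ed42.k2 @x3 @(fun x5 => @Bool.rec.{1} @(fun x6 => @Bool) (@Nat.beq (@Cfsg.Agent.KO048ed42.k10 (@Cfsg.Agent.KO048ed42.k7 @x0 @x1 @x4) (@Cfsg.Agent.KO048ed42.k8 @x2 @x5)) (@Cfsg.Agent.KO048ed42.k10 (@Cfsg.Agent.KO048ed42.k7 @x0 @x1 @x4) (@Cfsg.Agent.KO048ed42.k8 @x2 (nat_lit 0)))) @Bool.true (@Bool.rec.{1} @(fun x6 => @Bool) @Bool.true @Bool.false (@Bool.rec.{1}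 @(fun x6 => @Bool) @Bool.true @Bool.false (@Cfsg.Agent.KO048ed42.k0.{1} @Bool (@Nat.land (nat_lit 1) (@Nat.shiftRight @x4 @x5)) (nat_lit 0) @Bool.false @Bool.true))))))) @Bool.true (@Bool.rec.{1} @(fun x5 => @Bool) @Bool.true @Bool.false (@Cfsg.Agent.KO048ed42.k2 @x3 @(fun x5 => @Bool.rec.{1} @(fun x6 => @Bool) (@Nat.beq (@Cfsg.Agent.KO048ed42.k11 (@Cfsg.Agent.KO048ed42.k7 @x0 @x1 @x4) (@Cfsg.Agent.KO048ed42.k8 @x2 @x5)) (@Cfsg.Agent.KO048ed42.k11 (@Cfsg.Agent.KO048ed42.k7 @x0 @x1 @x4) (@Cfsg.Agent.KO048ed42.k8 @x2 (nat_lit 0)))) @Bool.true (@Bool.rec.{1} @(fun x6 => @Bool) @Bool.true @Bool.false (@Bool.rec.{1} @(fun x6 => @Bool) @Bool.true @Bool.false (@Cfsg.Agent.KO048ed42.k0.{1} @Bool (@Nat.land (nat_lit 1) (@Nat.shiftRight @x4 @x5)) (nat_lit 0) @Bool.false @Bool.true))))))) @Bool.true (@Bool.rec.{1} @(fun x5 => @Bool) @Bool.true @Bool.false (@Bool.rec.{1} @(fun x5 => @Bool) @Bool.true @Bool.false (@Cfsg.Agent.KO048ed42.k0.{1} @Bool (@Nat.land (nat_lit 1)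 (@Nat.shiftRight @x4 (nat_lit 0))) (nat_lit 0) @Bool.false @Bool.true)))))) ?_); rewrite [← Cfsg.Agent.KO048ed42.e11, ← Cfsg.Agent.KO048ed42.e0.{1}, ← Cfsg.Agent.KO048ed42.e10, ← Cfsg.Agent.KO048ed42.e8, ← Cfsg.Agent.KO048ed42.e7, ← Cfsg.Agent.KO048ed42.e5, ← Cfsg.Agent.KO048ed42.e2]; (try delta Cfsg.Agent.H104.EP.chkB Cfsg.Agent.H104.EP.im'); (try generalize @Cfsg.Agent.H781.U42Num.allB = g0); (try generalize @Cfsg.Agent.H104.EP.cs = g1); (try generalize @Cfsg.Agent.H104.EP.FF = g2); (try generalize @Cfsg.Agent.H104.EP.rp = g3); (try generalize @Cfsg.Agent.H104.EP.tr = g4); (try generalize @Cfsg.Agent.H104.EP.dg = g5); rfl') | exact @Cfsg.Agent.H104.EP.chkB | exact ()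
private theorem _root_.Cfsg.Agent.KO048ed42.e12 : (by first | exact @Cfsg.Agent.H104.EP.chkB = @_root_.Cfsg.Agent.KO048ed42.k12 | exact True : Prop) := by first | (delta _root_.Cfsg.Agent.KO048ed42.k12; exact @Subtype.property _ (fun g => @Cfsg.Agent.H104.EP.chkB = @g) _) | rfl | trivial
private noncomputable def _root_.Cfsg.Agent.KO048ed42.k13 : (by first | exact type_of% @Cfsg.Agent.H781.U42Num.qf | exact Unit : Sort _) := by first | (refine @Subtype.val _ (fun g => @Cfsg.Agent.H781.U42Num.qf = @g) (@Subtype.mk _ _ (@(fun x0 => @Bool.rec.{1} @(fun x1 => @Bool) @Bool.true @Bool.false (@Cfsg.Agent.KO048ed42.k0.{1} @Bool (@Nat.land (nat_lit 1) (@Nat.shiftRight (nat_lit 9761419664792451208) @x0)) (nat_lit 0) @Bool.false @Bool.true))) ?_); rewrite [← Cfsg.Agent.KO048ed42.e0.{1}]; rfl') | exact @Cfsg.Agent.H781.U42Num.qf | exact ()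
private theorem _root_.Cfsg.Agent.KO048ed42.e13 : (by first | exact @Cfsg.Agent.H781.U42Num.qf = @_root_.Cfsg.Agent.KO048ed42.k13 | exact True : Prop) := by first | (delta _root_.Cfsg.Agent.KO048ed42.k13; exact @Subtype.property _ (fun g => @Cfsg.Agent.H781.U42Num.qf = @g) _) | rfl | trivial

set_option maxRecDepth 100000 in
theorem chkB_N : chkB qf tN rN 8 = true := by (first | (rewrite [Cfsg.Agent.KO048ed42.e12, Cfsg.Agent.KO048ed42.e13]; decide +kernel) | decide +kernel)

private noncomputable def _root_.Cfsg.Agent.KO048ed42.k14 : (by first | exact type_of% @Cfsg.Agent.H104.EP.sg | exact Unit : Sort _) := by first | (refine @Subtype.val _ (fun g => @Cfsg.Agent.H104.EP.sg = @g) (@Subtype.mk _ _ (@(fun x0 => @Bool.rec.{1} @(fun x1 => @Bool) @Bool.false (@Bool.rec.{1} @(fun x1 => @Bool) @Bool.true @Bool.false (@Nat.beq @x0 (nat_lit 0))) (@Bool.rec.{1} @(fun x1 => @Bool) @Bool.true @Bool.false (@Bool.rec.{1} @(fun x1 => @Bool) @Bool.true @Bool.false (@Cfsg.Agent.KO048ed42.k0.{1}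 @Bool (@Nat.land (nat_lit 1) (@Nat.shiftRight (nat_lit 9761419664792451208) @x0)) (nat_lit 0) @Bool.false @Bool.true))))) ?_); rewrite [← Cfsg.Agent.KO048ed42.e0.{1}]; rfl') | exact @Cfsg.Agent.H104.EP.sg | exact ()
private theorem _root_.Cfsg.Agent.KO048ed42.e14 : (by first | exact @Cfsg.Agent.H104.EP.sg = @_root_.Cfsg.Agent.KO048ed42.k14 | exact True : Prop) := by first | (delta _root_.Cfsg.Agent.KO048ed42.k14; exact @Subtype.property _ (fun g => @Cfsg.Agent.H104.EP.sg = @g) _) | rfl | trivial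

set_option maxRecDepth 100000 in
theorem chkB_S : chkB sg tS rS 7 = true := by (first | (rewrite [Cfsg.Agent.KO048ed42.e12, Cfsg.Agent.KO048ed42.e14]; decide +kernel) | decide +kernel)

end Cfsg.Agent.H104.EP
end

-- part: H104/EP/Five
section
/-!
# Subgroups of `O₆⁻(2)` (helper104): irreducible subgroups containing an element of order five
-/

set_option autoImplicit false

namespace Cfsg.Agent.H104.EP

open Subgroup Cfsg Cfsg.Agent.H781.U42Num Cfsg.Agent.H781.U42Gam Cfsg.Agent.H845.AutUFour Matrix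

set_option maxHeartbeats 400000

def yG : Γ := _root_.Cfsg.Agent.H781.U42Gam.mk yl yil (by decide +kernel) (by decide +kernel) (by decide +kernel)

theorem a_yG : ∀ n < 64, a yG n = ap yl n := by decide +kernel

theorem a_one {n : ℕ} (hn : n < 64) : a 1 n = n := by
  rw [a]
  have : ((1 : Γ) : GL I (ZMod 2)).1 = 1 := rfl
  rw [this, one_mulVec, ofV_toV n hn]

theorem yG5 : yG * (yG * (yG * (yG * yG))) = 1 := ext_basis (by decide +kernel)

theorem yG_ne : yG ≠ 1 := by
  intro h
  have h1 := congrArg (fun g => a g 1) h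
  revert h1
  decide +kernel

theorem yG_mem : yG ∈ Omega (ZMod 2) Q6 := by
  have h1 : yG = (yG * (yG * yG)) * (yG * (yG * yG)) := by
    calc yG = (yG * (yG * (yG * (yG * yG)))) * yG := by rw [yG5, one_mul]
      _ = _ := by group
  rw [h1]
  exact sq_mem _

theorem a_inv_a (g : Γ) {n : ℕ} (hn : n < 64) : a g⁻¹ (a g n) = n := by
  rw [← a_mul, inv_mul_cancel, a_one hn]

theorem a_a_inv (g : Γ) {n : ℕ} (hn : n < 64) : a g (a g⁻¹ n) = n := by
  rw [← a_mul, mul_inv_cancel, a_one hn]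

theorem sm_eq (n : ℕ) (f : ℕ → ℕ) : sm n f = ∑ w ∈ Finset.range n, f w := by
  induction n with
  | zero => rfl
  | succ n ih =>
    rw [sm, Finset.sum_range_succ, ← ih]
    rfl

theorem sm_congr {f g : ℕ → ℕ} (h : ∀ w < 64, f w = g w) : sm 64 f = sm 64 g := by
  rw [sm_eq, sm_eq]
  exact Finset.sum_congr rfl fun w hw => h w (Finset.mem_range.1 hw)

theorem sm_perm (g : Γ) (f : ℕ → ℕ) : sm 64 (fun w => f (a g w)) = sm 64 f := by
  rw [sm_eq, sm_eq]
  refine Finset.sum_nbij (a g) ?_ ?_ ?_ ?_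
  · intro w _
    exact Finset.mem_range.2 (a_lt g w)
  · intro v hv w hw e
    have h1 := congrArg (a g⁻¹) e
    have hv' : v < 64 := Finset.mem_range.1 hv
    have hw' : w < 64 := Finset.mem_range.1 hw
    rwa [a_inv_a g hv', a_inv_a g hw'] at h1
  · intro w hw
    have hw' : w < 64 := Finset.mem_range.1 hw
    exact ⟨a g⁻¹ w, Finset.mem_coe.2 (Finset.mem_range.2 (a_lt _ _)), a_a_inv g hw'⟩
  · intro w _
    rfl

/-- `F` is invariant under `g` -/
def InvF (F : ℕ → Bool) (g : Γ) : Prop := ∀ n < 64, F (a g n) = F n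

theorem dg_inv {F : ℕ → Bool} {g : Γ} (h : InvF F g) {v : ℕ} (hv : v < 64) : dg F (a g v) = dg F v := by
  rw [dg, dg, ← sm_perm g]
  apply sm_congr
  intro w hw
  rw [h w hw, pol_a g hv hw]

theorem tr_inv {F : ℕ → Bool} {g : Γ} (h : InvF F g) {v : ℕ} (hv : v < 64) : tr F (a g v) = tr F v := by
  rw [tr, tr, ← sm_perm g]
  apply sm_congr
  intro w hw
  rw [h w hw, pol_a g hv hw]
  (with_reducible congr 1)
  rw [← sm_perm g]
  apply sm_congr
  intro x hx
  rw [h x hx, pol_a g hv hx, pol_a g hw hx]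

theorem exists_bits (f : ℕ → Bool) (K : ℕ) : ∃ b < 2 ^ K, ∀ i < K, Nat.testBit b i = f i := by
  refine ⟨Nat.ofBits fun i : Fin K => f i, Nat.ofBits_lt_two_pow _, fun i hi => ?_⟩
  exact Nat.testBit_ofBits_lt _ i hi

theorem rp_lt (t i : ℕ) : rp t i < 64 := by
  have h : rp t i ≤ 63 := Nat.and_le_right
  omega

theorem it_lt (k : ℕ) {n : ℕ} (hn : n < 64) : it k n < 64 := by
  induction k with
  | zero => exact hn
  | succ k ih =>
    rw [it, ← a_yG _ ih]
    exact a_lt _ _

theorem B_inv_smul (g : Γ) (z w : V) : B z (g⁻¹ • w) = B (g • z) w := by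
  have h2 : g • g⁻¹ • w = w := by rw [← mul_smul, mul_inv_cancel, one_smul]
  exact (B_smul g z (g⁻¹ • w)).symm.trans (congrArg (fun x : V => B (g • z) x) h2)

/-- an orbit of an irreducible group containing `y` -/
theorem orb_full {M : Subgroup Γ} (hirr : Irr M) (hy : yG ∈ M) {P : ℕ → Bool} {t r K : ℕ}
    (hA : chkA P t r K = true) (hB : chkB P t r K = true) (hP : ∀ g : Γ, ∀ n < 64, P (a g n) = P n)
    (hPm : P (rp r 0) = true) (hK : 0 < K) (hm : rp r 0 ≠ 0) :
    ∀ n < 64, P n = true → ∃ g ∈ M, a g (rp r 0) = n := by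
  classical
  set m := rp r 0 with hmdef
  have hm64 : m < 64 := rp_lt r 0
  obtain ⟨f, hf⟩ : ∃ f : ℕ → Bool, ∀ n, f n = true ↔ ∃ g ∈ M, a g m = n :=
    ⟨fun n => decide (∃ g ∈ M, a g m = n), fun n => decide_eq_true_iff⟩
  have fP : ∀ n, f n = true → P n = true := by
    intro n hn
    obtain ⟨g, -, rfl⟩ := (hf n).1 hn
    rw [hP g m hm64]
    exact hPm
  have finv : ∀ g ∈ M, ∀ n < 64, f (a g n) = f n := by
    intro g hg n hn
    rw [Bool.eq_iff_iff, hf, hf]
    constructor
    · rintro ⟨h, hh, e⟩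
      refine ⟨g⁻¹ * h, M.mul_mem (M.inv_mem hg) hh, ?_⟩
      rw [a_mul, e, a_inv_a g hn]
    · rintro ⟨h, hh, e⟩
      refine ⟨g * h, M.mul_mem hg hh, ?_⟩
      rw [a_mul, e]
  have fit : ∀ k, ∀ n < 64, f (it k n) = f n := by
    intro k n hn
    induction k with
    | zero => rfl
    | succ k ih =>
      have h1 := finv yG hy (it k n) (it_lt k hn)
      rw [a_yG _ (it_lt k hn)] at h1
      rw [it, h1, ih]
  obtain ⟨b, hb, hbi⟩ := exists_bits (fun i => f (rp r i)) K
  have hF : ∀ n < 64, FF P t b n = f n := by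
    intro n hn
    by_cases hPn : P n = true
    · have h1 := im'_spec (allB_spec hA hn) hPn
      rw [Bool.and_eq_true] at h1
      obtain ⟨h2, h3⟩ := h1
      have h4 : ix t n < K := Nat.le_of_ble_eq_true h2
      rw [Bool.and_eq_true] at h3
      have h5 : ∃ k, it k (rp r (ix t n)) = n := by
        rcases bor_elim h3.2 with h | h
        · exact ⟨0, Nat.eq_of_beq_eq_true h⟩
        rcases bor_elim h with h | h
        · exact ⟨1, Nat.eq_of_beq_eq_true h⟩
        rcases bor_elim h with h | h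
        · exact ⟨2, Nat.eq_of_beq_eq_true h⟩
        rcases bor_elim h with h | h
        · exact ⟨3, Nat.eq_of_beq_eq_true h⟩
        · exact ⟨4, Nat.eq_of_beq_eq_true h⟩
      obtain ⟨k, hk⟩ := h5
      have h6 := fit k _ (rp_lt r (ix t n))
      rw [hk] at h6
      rw [FF, hPn, hbi _ h4, h6]
      rfl
    · have h1 : f n = false := by
        rw [← Bool.not_eq_true]
        exact fun h => hPn (fP n h)
      rw [Bool.not_eq_true] at hPn
      rw [FF, hPn, h1]
      rfl
  have hFinv : ∀ g ∈ M, InvF (FF P t b) g := by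
    intro g hg n hn
    rw [hF n hn, hF _ (a_lt g n), finv g hg n hn]
  have hb0 : Nat.testBit b 0 = true := by
    rw [hbi 0 hK, hf]
    exact ⟨1, M.one_mem, a_one hm64⟩
  have k1 := im'_spec (allB_spec hB hb) hb0
  have horb : ∀ i < K, Nat.testBit b i = true → ∃ g ∈ M, a g m = rp r i := by
    intro i hi h
    rw [hbi i hi, hf] at h
    exact h
  have hall : ∀ (n : ℕ) (f : ℕ → Bool), (∀ i < n, f i = true) → allB n f = true := by
    intro n f h
    induction n with
    | zero => rfl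
    | succ n ih =>
      rw [allB, Bool.and_eq_true]
      exact ⟨h n (Nat.lt_succ_self n), ih fun i hi => h i (hi.trans (Nat.lt_succ_self n))⟩
  have him : ∀ a b : Bool, (a = true → b = true) → im' a b = true := by decide
  have k2 := im'_spec k1 (hall K _ fun i hi => him _ _ fun h => by
    obtain ⟨g, hg, e⟩ := horb i hi h
    rw [← e, dg_inv (hFinv g hg) hm64]
    exact Nat.beq_refl _)
  have k3 := im'_spec k2 (hall K _ fun i hi => him _ _ fun h => by
    obtain ⟨g, hg, e⟩ := horb i hi h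
    rw [← e, tr_inv (hFinv g hg) hm64]
    exact Nat.beq_refl _)
  -- the third condition
  have hcs : ∀ z < 64, z ≠ 0 → Bool.not (cs (FF P t b) m z) = true := by
    intro z hz hz0
    apply bnot_intro
    rw [← Bool.not_eq_true]
    intro hcon
    have hpol : ∀ w < 64, f w = true → pol z w = pol z m := by
      intro w hw hfw
      have h1 := im'_spec (allB_spec hcon hw) (by rw [hF w hw]; exact hfw)
      revert h1
      cases pol z w <;> cases pol z m <;> decide
    let R : Submodule (ZMod 2) V := mkSub (fun z => ∀ w w' : V, f (ofV w) = true → f (ofV w') = true → B z w = B z w')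
      (fun w w' _ _ => by rw [map_zero]; rfl) fun z z' hz hz' w w' hw hw' => by
        rw [map_add, LinearMap.add_apply, LinearMap.add_apply, hz w w' hw hw', hz' w w' hw hw']
    have hfV : ∀ g ∈ M, ∀ w : V, f (ofV (g • w)) = f (ofV w) := by
      intro g hg w
      have h1 := finv g hg (ofV w) (ofV_lt w)
      rw [a, toV_ofV] at h1
      exact h1
    have hRinv : Inv M R := by
      intro g hg z hz w w' hw hw'
      have h1 := hz (g⁻¹ • w) (g⁻¹ • w') (by rw [hfV _ (M.inv_mem hg)]; exact hw)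
        (by rw [hfV _ (M.inv_mem hg)]; exact hw')
      exact (B_inv_smul g z w).symm.trans (h1.trans (B_inv_smul g z w'))
    have hzR : toV z ∈ R := by
      have h1 : ∀ w : V, f (ofV w) = true → B (toV z) w = B (toV z) (toV m) := by
        intro w hw
        have h2 := hpol (ofV w) (ofV_lt w) hw
        have h3 := pol_ofV (toV z) w
        have h4 := pol_ofV (toV z) (toV m)
        rw [ofV_toV z hz, h2] at h3
        rw [ofV_toV z hz, ofV_toV m hm64] at h4
        have h5 : ∀ x y : ZMod 2, (x = 1 ↔ y = 1) → x = y := by decide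
        exact h5 _ _ (h3.symm.trans h4)
      intro w w' hw hw'
      rw [h1 w hw, h1 w' hw']
    rcases hirr R hRinv with h1 | h1
    · rw [h1] at hzR
      apply hz0
      have h2 := congrArg ofV ((Submodule.mem_bot _).1 hzR)
      rw [ofV_toV z hz, ofV_zero] at h2
      exact h2
    · have h2 : ∀ w w' : V, f (ofV w) = true → f (ofV w') = true → w = w' := by
        intro w w' hw hw'
        apply eq_of_add_eq_zero'
        apply eq_zero_of_B
        intro v
        have h3 : v ∈ R := by rw [h1]; exact Submodule.mem_top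
        rw [map_add, h3 w w' hw hw']
        exact two_self _
      have h3 : f m = true := (hf m).2 ⟨1, M.one_mem, a_one hm64⟩
      have h4 : ∀ g ∈ M, g • toV m = toV m := by
        intro g hg
        apply h2
        · rw [hfV g hg, ofV_toV m hm64]
          exact h3
        · rw [ofV_toV m hm64]
          exact h3
      have h5 := no_fixed hirr (X := M) (fun g hg x hx => M.mul_mem (M.mul_mem hg hx) (M.inv_mem hg))
        (fun e => yG_ne (by rw [e] at hy; exact Subgroup.mem_bot.1 hy)) h4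
      apply hm
      have h6 := congrArg ofV h5
      rw [ofV_toV m hm64, ofV_zero] at h6
      exact h6
  have k4 := im'_spec k3 (band_intro (hcs 12 (by norm_num) (by norm_num)) (band_intro
    (hcs 39 (by norm_num) (by norm_num)) (hcs 43 (by norm_num) (by norm_num))))
  have k5 : b = 2 ^ K - 1 := Nat.eq_of_beq_eq_true k4
  intro n hn hPn
  rw [← hf, ← hF n hn, FF, hPn, k5, Nat.testBit_two_pow_sub_one]
  have h1 := im'_spec (allB_spec hA hn) hPn
  rw [Bool.and_eq_true] at h1
  have h4 : ix t n < K := Nat.le_of_ble_eq_true h1.1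
  rw [decide_eq_true h4]
  rfl

end Cfsg.Agent.H104.EP
end

-- part: H104/EP/Five2
section
/-!
# Subgroups of `O₆⁻(2)` (helper104): irreducible subgroups of order divisible by five
-/

set_option autoImplicit false

namespace Cfsg.Agent.H104.EP

open Subgroup Cfsg Cfsg.Agent.H781.U42Num Cfsg.Agent.H781.U42Gam Cfsg.Agent.H845.AutUFour MulAction

set_option maxHeartbeats 400000

theorem card_cases {n : ℕ} (h1 : n ≡ 1 [MOD 5]) (h : n ∣ 4 ∨ n ∣ 8 ∨ n ∣ 9) : n = 1 := by
  have h2 : n ≤ 9 := by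
    rcases h with h | h | h
    · exact (Nat.le_of_dvd (by norm_num) h).trans (by norm_num)
    · exact (Nat.le_of_dvd (by norm_num) h).trans (by norm_num)
    · exact Nat.le_of_dvd (by norm_num) h
  rw [Nat.ModEq] at h1
  interval_cases n <;> revert h1 h <;> decide

theorem norm5 {H : Type*} [Group H] [Finite H] {y : H} (hy : orderOf y = 5)
    (hc : Nat.card H = 20 ∨ Nat.card H = 40 ∨ Nat.card H = 45) (h : H) : h * y * h⁻¹ ∈ zpowers y := by
  have hp : Fact (Nat.Prime 5) := ⟨by norm_num⟩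
  have h1 : IsPGroup 5 (zpowers y) := IsPGroup.of_card (n := 1) (by rw [Nat.card_zpowers, hy, pow_one])
  obtain ⟨P, hP⟩ := h1.exists_le_sylow
  have hcP : Nat.card P = 5 := by
    obtain ⟨k, hk⟩ := IsPGroup.iff_card.1 P.isPGroup'
    have h3 : Nat.card P ∣ Nat.card H := card_subgroup_dvd_card (P : Subgroup H)
    have h4 : 5 ∣ Nat.card P := by
      have h5 := card_dvd_of_le hP
      rw [Nat.card_zpowers, hy] at h5
      exact h5
    rw [hk] at h3 h4 ⊢
    rcases Nat.lt_or_ge k 2 with h5 | h5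
    · interval_cases k
      · norm_num at h4
      · norm_num
    · exfalso
      have h6 : 5 ^ 2 ∣ Nat.card H := (pow_dvd_pow 5 h5).trans h3
      rcases hc with h | h | h <;> rw [h] at h6 <;> norm_num at h6
  have hPy : (P : Subgroup H) = zpowers y := by
    symm
    apply Subgroup.eq_of_le_of_card_ge hP
    rw [Nat.card_zpowers, hy]
    exact hcP.le
  have hn : Nat.card (Sylow 5 H) = 1 := by
    apply card_cases (card_sylow_modEq_one 5 H)
    have h3 := P.card_dvd_index
    have h4 := (P : Subgroup H).card_mul_index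
    have h5 : Nat.card (P : Subgroup H) = 5 := hcP
    rw [h5] at h4
    rcases hc with h | h | h
    · left
      have h6 : (P : Subgroup H).index = 4 := by omega
      rwa [h6] at h3
    · right; left
      have h6 : (P : Subgroup H).index = 8 := by omega
      rwa [h6] at h3
    · right; right
      have h6 : (P : Subgroup H).index = 9 := by omega
      rwa [h6] at h3
  have hsub : Subsingleton (Sylow 5 H) := (Nat.card_eq_one_iff_unique.1 hn).1
  have hnorm : (P : Subgroup H).Normal := inferInstance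
  rw [← hPy]
  exact hnorm.conj_mem y (by rw [hPy]; exact mem_zpowers y) h


/-! ### orbits -/

/-- the action on numbers -/
instance actF : MulAction Γ (Fin 64) where
  smul g n := ⟨a g n, a_lt g n⟩
  one_smul n := Fin.ext (a_one n.2)
  mul_smul g h n := Fin.ext (a_mul g h n)

/-- the index of a stabiliser -/
theorem index_stab {M : Subgroup Γ} {P : ℕ → Bool} {m : Fin 64} (hP : ∀ g : Γ, P (a g m) = true)
    (h : ∀ n < 64, P n = true → ∃ g ∈ M, a g m = n) :
    (stabilizer M m).index = (Finset.univ.filter fun n : Fin 64 => P n = true).card := by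
  rw [index_stabilizer]
  have h1 : orbit M m = ((Finset.univ.filter fun n : Fin 64 => P n = true : Finset (Fin 64)) : Set (Fin 64)) := by
    ext n
    rw [Finset.coe_filter, Set.mem_ofPred_eq]
    constructor
    · rintro ⟨g, rfl⟩
      exact ⟨Finset.mem_univ _, hP g⟩
    · rintro ⟨-, hn⟩
      obtain ⟨g, hg, e⟩ := h n n.2 hn
      exact ⟨⟨g, hg⟩, Fin.ext e⟩
  rw [h1, Set.ncard_coe_finset]

theorem count_N : (Finset.univ.filter fun n : Fin 64 => qf n = true).card = 36 := by decide +kernel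
theorem count_S : (Finset.univ.filter fun n : Fin 64 => sg n = true).card = 27 := by decide +kernel

theorem sg_a (g : Γ) {n : ℕ} (hn : n < 64) : sg (a g n) = sg n := by
  rw [sg, sg, qf_a g hn]
  (with_reducible congr 2)
  rw [Bool.eq_iff_iff]
  constructor
  · intro h
    have h1 := congrArg (a g⁻¹) (Nat.eq_of_beq_eq_true h)
    rw [a_inv_a g hn, a_zero] at h1
    rw [h1]
    rfl
  · intro h
    rw [Nat.eq_of_beq_eq_true h, a_zero]
    rfl

theorem rp_N : rp rN 0 = 12 := by decide +kernel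
theorem rp_S : rp rS 0 = 39 := by decide +kernel

theorem index_12 {M : Subgroup Γ} (hirr : Irr M) (hy : yG ∈ M) : (stabilizer M (12 : Fin 64)).index = 36 := by
  rw [index_stab (P := qf), count_N]
  · intro g
    rw [qf_a g (12 : Fin 64).2]
    decide +kernel
  · have h := orb_full hirr hy chkA_N chkB_N (fun g n hn => qf_a g hn) (by rw [rp_N]; decide +kernel) (by norm_num)
      (by rw [rp_N]; norm_num)
    rw [rp_N] at h
    exact h

theorem index_39 {M : Subgroup Γ} (hirr : Irr M) (hy : yG ∈ M) : (stabilizer M (39 : Fin 64)).index = 27 := by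
  rw [index_stab (P := sg), count_S]
  · intro g
    rw [sg_a g (39 : Fin 64).2]
    decide +kernel
  · have h := orb_full hirr hy chkA_S chkB_S (fun g n hn => sg_a g hn) (by rw [rp_S]; decide +kernel) (by norm_num)
      (by rw [rp_S]; norm_num)
    rw [rp_S] at h
    exact h

theorem fix_y : ∀ n < 64, ap yl n = n → n = 0 ∨ n = 12 ∨ n = 39 ∨ n = 43 := by decide +kernel

/-- elements normalising `⟨y⟩` permute the fixed vectors -/
theorem fix_of_norm {g : Γ} (h : g⁻¹ * yG * g ∈ zpowers yG) {n : ℕ} (hn : n < 64) (hy : a yG n = n) :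
    a yG (a g n) = a g n := by
  have h1 : ∀ k ∈ zpowers yG, a k n = n := by
    intro k hk
    have h2 : zpowers yG ≤ stabilizer Γ (⟨n, hn⟩ : Fin 64) := by
      rw [zpowers_le, mem_stabilizer_iff]
      exact Fin.ext hy
    have h3 := h2 hk
    rw [mem_stabilizer_iff] at h3
    exact (congrArg Fin.val h3 :)
  have h2 := h1 _ h
  have h3 : yG * g = g * (g⁻¹ * yG * g) := by group
  rw [← a_mul, h3, a_mul, h2]

theorem order_y : orderOf yG = 5 := by
  have hp : Fact (Nat.Prime 5) := ⟨by norm_num⟩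
  apply orderOf_eq_prime
  · have h : yG ^ 5 = yG * (yG * (yG * (yG * yG))) := by
      simp only [pow_succ, pow_zero, one_mul, mul_assoc]
    rw [h, yG5]
  · exact yG_ne

seal _root_.Finset.sum _root_.dotProduct in
/-- a stabiliser of order 20, 40 or 45 -/
theorem norm_stab {M : Subgroup Γ} (hy : yG ∈ M) {n : Fin 64} (hyn : a yG n = n)
    (hc : Nat.card (stabilizer M n) = 20 ∨ Nat.card (stabilizer M n) = 40 ∨ Nat.card (stabilizer M n) = 45)
    {g : M} (hg : g ∈ stabilizer M n) : (g : Γ)⁻¹ * yG * g ∈ zpowers yG := by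
  have hfin : Finite Γ := Nat.finite_of_card_ne_zero (by rw [card_isometry]; norm_num)
  have hy' : (⟨yG, hy⟩ : M) ∈ stabilizer M n := by
    rw [mem_stabilizer_iff]
    exact Fin.ext hyn
  have ho : orderOf (⟨⟨yG, hy⟩, hy'⟩ : stabilizer M n) = 5 := by
    rw [← orderOf_injective (M.subtype.comp (stabilizer M n).subtype)
      (M.subtype_injective.comp (stabilizer M n).subtype_injective)]
    exact order_y
  have h1 := norm5 ho hc (⟨g, hg⟩⁻¹ : stabilizer M n)
  rw [inv_inv, mem_zpowers_iff] at h1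
  obtain ⟨k, hk⟩ := h1
  have h2 := congrArg (fun x : stabilizer M n => ((x : M) : Γ)) hk
  rw [mem_zpowers_iff]
  exact ⟨k, h2⟩

end Cfsg.Agent.H104.EP
end

-- part: H104/EP/Five3
section
/-!
# Subgroups of `O₆⁻(2)` (helper104): irreducible subgroups of order divisible by five contain `Ω`
-/

set_option autoImplicit false

namespace Cfsg.Agent.H104.EP

open Subgroup Cfsg Cfsg.Agent.H781.U42Num Cfsg.Agent.H781.U42Gam Cfsg.Agent.H845.AutUFour MulAction

set_option maxHeartbeats 400000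

/-- a subgroup not containing `Ω` is small -/
theorem card_le {M : Subgroup Γ} (h : ¬ Omega (ZMod 2) Q6 ≤ M) : Nat.card M ≤ 1920 := by
  have hfin : Finite Γ := Nat.finite_of_card_ne_zero (by rw [card_isometry]; norm_num)
  have hp : Fact (Nat.Prime 2) := ⟨Nat.prime_two⟩
  have : Fintype (GaloisField 2 2) := Fintype.ofFinite _
  have hF : Fintype.card (GaloisField 2 2) = 4 := by
    have h := GaloisField.card 2 2 (by norm_num)
    rw [Nat.card_eq_fintype_card] at h
    rw [h]
    norm_num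
  obtain ⟨e⟩ := H781.U42Act.exists_omega hF
  have h1 : (M.subgroupOf (Omega (ZMod 2) Q6)).comap e.toMonoidHom ≠ ⊤ := by
    intro h2
    apply h
    intro x hx
    have h3 : e.symm ⟨x, hx⟩ ∈ (M.subgroupOf (Omega (ZMod 2) Q6)).comap e.toMonoidHom := by
      rw [h2]
      exact Subgroup.mem_top _
    have h4 : e (e.symm ⟨x, hx⟩) ∈ M.subgroupOf (Omega (ZMod 2) Q6) := h3
    rw [e.apply_symm_apply] at h4
    exact h4
  have h2 := H76.PsuFour.psu_four_two hF _ h1
  rw [Subgroup.index_comap_of_surjective _ e.surjective] at h2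
  have h3 := (M.subgroupOf (Omega (ZMod 2) Q6)).card_mul_index
  rw [card_omega] at h3
  have h4 : Nat.card (M.subgroupOf (Omega (ZMod 2) Q6)) * 27 ≤ 25920 := by
    rw [← h3]
    exact Nat.mul_le_mul_left _ h2
  have h5 : Nat.card (M.subgroupOf (Omega (ZMod 2) Q6)) = Nat.card ((Omega (ZMod 2) Q6).subgroupOf M) := by
    rw [Nat.card_congr ((M.subgroupOf (Omega (ZMod 2) Q6)).equivMapOfInjective _ (Subgroup.subtype_injective _)).toEquiv,
      Nat.card_congr (((Omega (ZMod 2) Q6).subgroupOf M).equivMapOfInjective _ (Subgroup.subtype_injective _)).toEquiv,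
      Subgroup.subgroupOf_map_subtype, Subgroup.subgroupOf_map_subtype, inf_comm]
  have h6 := ((Omega (ZMod 2) Q6).subgroupOf M).card_mul_index
  have h7 : ((Omega (ZMod 2) Q6).subgroupOf M).index ≤ 2 := by
    have h8 := Subgroup.relIndex_dvd_index_of_normal (Omega (ZMod 2) Q6) M
    rw [index_omega] at h8
    exact Nat.le_of_dvd (by norm_num) h8
  rw [← h6, ← h5]
  calc _ ≤ Nat.card (M.subgroupOf (Omega (ZMod 2) Q6)) * 2 := Nat.mul_le_mul_left _ h7
    _ ≤ _ := by omega

theorem omega_le {M : Subgroup Γ} (hirr : Irr M) (hy : yG ∈ M) : Omega (ZMod 2) Q6 ≤ M := by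
  by_contra hcon
  have hfin : Finite Γ := Nat.finite_of_card_ne_zero (by rw [card_isometry]; norm_num)
  have h1 := card_le hcon
  have h12 := (stabilizer M (12 : Fin 64)).card_mul_index
  have h39 := (stabilizer M (39 : Fin 64)).card_mul_index
  rw [index_12 hirr hy] at h12
  rw [index_39 hirr hy] at h39
  have h5 : 5 ∣ Nat.card M := by
    have h6 : zpowers yG ≤ M := by rwa [zpowers_le]
    have h7 := card_dvd_of_le h6
    rw [Nat.card_zpowers, order_y] at h7
    exact h7
  have y12 : a yG ((12 : Fin 64) : ℕ) = ((12 : Fin 64) : ℕ) := by decide +kernel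
  have y39 : a yG ((39 : Fin 64) : ℕ) = ((39 : Fin 64) : ℕ) := by decide +kernel
  -- the case of a stabiliser of 39 of order 20 or 40
  have c39 : Nat.card (stabilizer M (39 : Fin 64)) = 20 ∨ Nat.card (stabilizer M (39 : Fin 64)) = 40 →
      Nat.card (stabilizer M (39 : Fin 64)) ∣ Nat.card (stabilizer M (12 : Fin 64)) := by
    intro hc
    apply card_dvd_of_le
    intro g hg
    have h6 := norm_stab hy y39 (by (clear * - hc; itauto)) hg
    have h7 := fix_of_norm h6 (n := 12) (by norm_num) y12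
    have h8 : a g 12 < 64 := a_lt _ _
    rw [a_yG _ h8] at h7
    have h9 : qf (a g 12) = true := by
      rw [qf_a _ (by norm_num)]
      decide +kernel
    rw [mem_stabilizer_iff]
    apply Fin.ext
    change a g 12 = 12
    rcases fix_y _ h8 h7 with e | e | e | e
    · rw [e] at h9
      exact absurd h9 (by decide +kernel)
    · exact e
    · rw [e] at h9
      exact absurd h9 (by decide +kernel)
    · rw [e] at h9
      exact absurd h9 (by decide +kernel)
  have c12 : Nat.card (stabilizer M (12 : Fin 64)) = 45 →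
      Nat.card (stabilizer M (12 : Fin 64)) ∣ Nat.card (stabilizer M (39 : Fin 64)) := by
    intro hc
    apply card_dvd_of_le
    have hsq : ∀ g ∈ stabilizer M (12 : Fin 64), g * g ∈ stabilizer M (39 : Fin 64) := by
      intro g hg
      have h6 := norm_stab hy y12 (by (clear * - hc; tauto)) hg
      have h8 : ∀ n, n = 39 ∨ n = 43 → a g n = 39 ∨ a g n = 43 := by
        intro n hn
        have hn64 : n < 64 := by omega
        have h7 := fix_of_norm h6 hn64 (by
          rcases hn with rfl | rfl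
          · decide +kernel
          · decide +kernel)
        have h8 : a g n < 64 := a_lt _ _
        rw [a_yG _ h8] at h7
        have h9 : sg (a g n) = true := by
          rw [sg_a _ hn64]
          rcases hn with rfl | rfl
          · decide +kernel
          · decide +kernel
        rcases fix_y _ h8 h7 with e | e | e | e
        · rw [e] at h9
          exact absurd h9 (by decide +kernel)
        · rw [e] at h9
          exact absurd h9 (by decide +kernel)
        · exact Or.inl e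
        · exact Or.inr e
      rw [mem_stabilizer_iff]
      apply Fin.ext
      change a ((g : Γ) * g) 39 = 39
      rw [a_mul]
      rcases h8 39 (Or.inl rfl) with e | e
      · rw [e, e]
      · rw [e]
        rcases h8 43 (Or.inr rfl) with e' | e'
        · exact e'
        · exfalso
          have h9 := congrArg (a (g : Γ)⁻¹) (e.trans e'.symm)
          rw [a_inv_a _ (by norm_num), a_inv_a _ (by norm_num)] at h9
          exact absurd h9 (by norm_num)
    intro g hg
    have h6 := (stabilizer M (39 : Fin 64)).pow_mem (hsq g hg) 23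
    have h7 : g ^ 45 = 1 := by
      have h8 : (⟨g, hg⟩ : stabilizer M (12 : Fin 64)) ^ Nat.card (stabilizer M (12 : Fin 64)) = 1 := pow_card_eq_one'
      rw [hc] at h8
      exact congrArg Subtype.val h8
    have h8 : (g * g) ^ 23 = g := by
      rw [← pow_two, ← pow_mul]
      calc g ^ (2 * 23) = g ^ 45 * g := by rw [← pow_succ]
        _ = g := by rw [h7, one_mul]
    rwa [h8] at h6
  have hpos : 0 < Nat.card M := Nat.card_pos
  generalize Nat.card (stabilizer M (39 : Fin 64)) = s at *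
  generalize Nat.card (stabilizer M (12 : Fin 64)) = t at *
  generalize Nat.card M = m at *
  obtain ⟨k, rfl⟩ : 540 ∣ m := by (clear * - h5 h39 h12; solve | lia | omega)
  have hk : k ≤ 3 := by omega
  interval_cases k
  · omega
  · have e1 : s = 20 := by omega
    have e2 : t = 15 := by omega
    have h2 := c39 (Or.inl e1)
    rw [e1, e2] at h2
    exact absurd h2 (by norm_num)
  · have e1 : s = 40 := by omega
    have e2 : t = 30 := by omega
    have h2 := c39 (Or.inr e1)
    rw [e1, e2] at h2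
    exact absurd h2 (by norm_num)
  · have e1 : s = 60 := by omega
    have e2 : t = 45 := by omega
    have h2 := c12 e2
    rw [e1, e2] at h2
    exact absurd h2 (by norm_num)

end Cfsg.Agent.H104.EP
end

-- part: H104/EP/Solv
section
/-!
# Subgroups of `O₆⁻(2)` (helper104): irreducible subgroups of order prime to 5
-/

set_option autoImplicit false

namespace Cfsg.Agent.H104.EP

open Subgroup Cfsg Cfsg.Agent.H781.U42Num Cfsg.Agent.H781.U42Gam Cfsg.Agent.H845.AutUFour

set_option maxHeartbeats 400000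

theorem finite_Γ : Finite Γ := Nat.finite_of_card_ne_zero (by rw [card_isometry]; norm_num)

/-- **Irreducible subgroups of order prime to 5.** -/
theorem of_solvable {M : Subgroup Γ} (hirr : Irr M) (h5 : ¬ 5 ∣ Nat.card M) (hM : M ≠ ⊥) : Fix3 M ∨ Fix4 M := by
  have hfin : Finite Γ := finite_Γ
  have h2 : Nat.card M ∣ 2 ^ 7 * 3 ^ 4 := by
    have h1 : Nat.card M ∣ 51840 := by
      rw [← card_isometry]
      exact card_subgroup_dvd_card M
    have h3 : Nat.Coprime (Nat.card M) 5 := ((Nat.Prime.coprime_iff_not_dvd (by norm_num)).2 h5).symm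
    have h4 : (51840 : ℕ) = 5 * (2 ^ 7 * 3 ^ 4) := by norm_num
    rw [h4] at h1
    exact h3.dvd_of_dvd_mul_left h1
  have hsol : Group.IsSolvable M := GH.C2SevenTop.solvable_of_dvd Nat.prime_two Nat.prime_three h2
  have ht : (⊤ : Subgroup M) ≠ ⊥ := by
    intro e
    apply hM
    rw [Subgroup.eq_bot_iff_forall]
    intro x hx
    have h3 : (⟨x, hx⟩ : M) ∈ (⊤ : Subgroup M) := Subgroup.mem_top _
    rw [e, Subgroup.mem_bot] at h3
    exact congrArg Subtype.val h3
  obtain ⟨K, hKn, -, hK1, hKmin⟩ := H692.NSyl.exists_minimal_normal (⊤ : Subgroup M) inferInstance ht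
  have hKs : Group.IsSolvable K := inferInstance
  obtain ⟨hKc, r, hr, hKr⟩ := H692.NSyl.elementary_of_minimal K hKn hK1 hKmin hKs
  have hn : ∀ g ∈ M, ∀ x ∈ K.map M.subtype, g * x * g⁻¹ ∈ K.map M.subtype := by
    rintro g hg _ ⟨k, hk, rfl⟩
    have h6 : M.subtype ((⟨g, hg⟩ : M) * k * (⟨g, hg⟩ : M)⁻¹) = g * M.subtype k * g⁻¹ := by
      rw [map_mul, map_mul, map_inv]
      rfl
    exact ⟨(⟨g, hg⟩ : M) * k * (⟨g, hg⟩ : M)⁻¹, hKn.conj_mem k hk (⟨g, hg⟩ : M), h6⟩
  have hX : K.map M.subtype ≠ ⊥ := by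
    intro e
    rw [Subgroup.map_eq_bot_iff_of_injective _ M.subtype_injective] at e
    exact hK1 e
  have hc : ∀ x ∈ K.map M.subtype, ∀ y ∈ K.map M.subtype, x * y = y * x := by
    rintro _ ⟨a, ha, rfl⟩ _ ⟨b, hb, rfl⟩
    have h6 := congrArg M.subtype (hKc a ha b hb)
    rwa [map_mul, map_mul] at h6
  have hp : ∀ x ∈ K.map M.subtype, x ^ r = 1 := by
    rintro _ ⟨a, ha, rfl⟩
    have h6 := congrArg M.subtype (hKr a ha)
    rwa [map_pow, map_one] at h6
  have hr23 : r = 2 ∨ r = 3 := by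
    obtain ⟨k, hk⟩ := Subgroup.ne_bot_iff_exists_ne_one.1 hK1
    have h3 : orderOf (k : M) = r := by
      have h4 : orderOf (k : M) ∣ r := orderOf_dvd_of_pow_eq_one (hKr k k.2)
      rcases (Nat.dvd_prime hr).1 h4 with h5 | h5
      · exfalso
        rw [orderOf_eq_one_iff] at h5
        exact hk (Subtype.ext h5)
      · exact h5
    have h4 : r ∣ 2 ^ 7 * 3 ^ 4 := by
      rw [← h3]
      exact (_root_.orderOf_dvd_natCard _).trans h2
    rcases (Nat.Prime.dvd_mul hr).1 h4 with h5 | h5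
    · left
      exact (Nat.prime_dvd_prime_iff_eq hr Nat.prime_two).1 (hr.dvd_of_dvd_pow h5)
    · right
      exact (Nat.prime_dvd_prime_iff_eq hr Nat.prime_three).1 (hr.dvd_of_dvd_pow h5)
  rcases hr23 with rfl | rfl
  · exact (two hirr hn hp hX).elim
  · refine three hirr hn hc (fun x hx => ?_) hX
    have h3 := hp x hx
    rw [pow_succ, pow_two, mul_assoc] at h3
    exact h3

end Cfsg.Agent.H104.EP
end

-- part: H104/EP/Count
section
/-!
# Subgroups of `O₆⁻(2)` (helper104): the number of the structures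
-/

set_option autoImplicit false

namespace Cfsg.Agent.H104.EP

open Subgroup Cfsg Cfsg.Agent.H781.U42Num Cfsg.Agent.H781.U42Gam Cfsg.Agent.H845.AutUFour

set_option maxHeartbeats 400000

/-- filtered numbers -/
def flt : ℕ → (ℕ → Bool) → List ℕ
  | 0, _ => []
  | n + 1, f => bif f n then n :: flt n f else flt n f

theorem mem_flt {n : ℕ} {f : ℕ → Bool} {x : ℕ} (hx : x < n) (hf : f x = true) : x ∈ flt n f := by
  induction n with
  | zero => omega
  | succ n ih =>
    rw [flt]
    rcases Nat.lt_succ_iff_lt_or_eq.1 hx with h | rfl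
    · have h1 := ih h
      cases f n
      · exact h1
      · exact List.mem_cons_of_mem _ h1
    · rw [hf]
      exact List.mem_cons_self

/-- equality of booleans -/
def be (a b : Bool) : Bool := Bool.not (Bool.xor a b)

theorem be_of_eq {a b : Bool} (h : a = b) : be a b = true := by
  subst h
  cases a <;> rfl

/-- the conditions on the image `x` of `e` with the earlier basis vectors `es` and their images `ts` -/
def okp (e x : ℕ) : List ℕ → List ℕ → Bool
  | ej :: es, tj :: ts => Bool.and (Bool.and (be (pol tj x) (pol ej e)) (be (Bool.xor (pol e tj) (pol ej x)) (pol ej e)))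
      (okp e x es ts)
  | _, _ => true

def ok1 (e x : ℕ) (es ts : List ℕ) : Bool := Bool.and (be (qf x) (qf e)) (Bool.and (be (pol e x) (qf e)) (okp e x es ts))

def grow (e : ℕ) (es : List ℕ) : List (List ℕ) → List (List ℕ)
  | [] => []
  | ts :: L => (flt 64 fun x => ok1 e x es ts).map (fun x => x :: ts) ++ grow e es L

theorem mem_grow {e : ℕ} {es : List ℕ} {L : List (List ℕ)} {ts : List ℕ} (hts : ts ∈ L) {x : ℕ} (hx : x < 64)
    (h : ok1 e x es ts = true) : x :: ts ∈ grow e es L := by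
  induction L with
  | nil => simp at hts
  | cons t L ih =>
    rw [grow, List.mem_append]
    rcases List.mem_cons.1 hts with rfl | h1
    · left
      exact List.mem_map.2 ⟨x, mem_flt hx h, rfl⟩
    · right
      exact ih h1

def leaves : List (List ℕ) :=
  grow 32 [16, 8, 4, 2, 1] (grow 16 [8, 4, 2, 1] (grow 8 [4, 2, 1] (grow 4 [2, 1] (grow 2 [1] (grow 1 [] [[]])))))

set_option maxRecDepth 100000 in
theorem leaves_le : leaves.length ≤ 80 := by decide +kernel

/-- fixed point free elements of order three -/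
def Fpf (x : Γ) : Prop := ∀ v : V, v + x • v + x • x • v = 0

theorem Fpf.B_eq {x : Γ} (h : Fpf x) (v : V) : B v (x • v) = Q6 v := by
  have h1 : v + x • v = x • x • v := eq_of_add_eq_zero' (h v)
  have h2 : Q6 (v + x • v) = Q6 v := by
    rw [h1]
    exact (Q_smul x (x • v)).trans (Q_smul x v)
  have h3 := Q_add v (x • v)
  have h4 : Q6 (x • v) = Q6 v := Q_smul x v
  rw [h2, h4, two_self, zero_add] at h3
  exact h3.symm

theorem Fpf.B_add {x : Γ} (h : Fpf x) (v w : V) : B v (x • w) + B w (x • v) = B v w := by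
  have h1 := h.B_eq (v + w)
  have h2 : x • (v + w) = x • v + x • w := smul_add x v w
  rw [h2, map_add, map_add, LinearMap.add_apply, LinearMap.add_apply, h.B_eq, h.B_eq, Q_add] at h1
  have h3 : ∀ a b c d e : ZMod 2, a + c + (d + b) = a + b + e → d + c = e := by decide +kernel
  exact h3 _ _ _ _ _ h1

theorem iff_be {a b : Bool} (h : a = true ↔ b = true) : be a b = true := be_of_eq (by rwa [← Bool.eq_iff_iff] at h)

theorem Fpf.ok_one {x : Γ} (h : Fpf x) {e : ℕ} (he : e < 64) : be (pol e (a x e)) (qf e) = true := by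
  apply iff_be
  have h1 := pol_ofV (toV e) (x • toV e)
  have h2 : ofV (x • toV e) = a x e := rfl
  rw [ofV_toV e he] at h1
  have h3 := h.B_eq (toV e)
  have h4 := qf_spec e he
  rw [← h2, h1, h4]
  exact ⟨fun h5 => h3.symm.trans h5, fun h5 => h3.trans h5⟩

theorem Fpf.ok_two {x : Γ} (h : Fpf x) {e e' : ℕ} (he : e < 64) (he' : e' < 64) :
    be (Bool.xor (pol e (a x e')) (pol e' (a x e))) (pol e' e) = true := by
  apply iff_be
  have h1 := pol_ofV (toV e) (x • toV e')
  have h2 := pol_ofV (toV e') (x • toV e)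
  have h3 := pol_ofV (toV e') (toV e)
  have k1 : ofV (x • toV e') = a x e' := rfl
  have k2 : ofV (x • toV e) = a x e := rfl
  rw [ofV_toV e he] at h1 h3
  rw [ofV_toV e' he'] at h2 h3
  rw [k1] at h1
  rw [k2] at h2
  have h4 := bxor_iff _ _ _ _ h1 h2
  have h5 := h.B_add (toV e) (toV e')
  rw [h4, h3, B_comm (toV e') (toV e)]
  exact ⟨fun h6 => h5.symm.trans h6, fun h6 => h5.trans h6⟩

theorem Fpf.mem_leaves {x : Γ} (h : Fpf x) : [a x 32, a x 16, a x 8, a x 4, a x 2, a x 1] ∈ leaves := by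
  have hq : ∀ e < 64, be (qf (a x e)) (qf e) = true := fun e he => be_of_eq (qf_a x he)
  have hp : ∀ e < 64, ∀ e' < 64, be (pol (a x e') (a x e)) (pol e' e) = true := fun e he e' he' =>
    be_of_eq (pol_a x he' he)
  have l1 : 1 < 64 := by norm_num
  have l2 : 2 < 64 := by norm_num
  have l4 : 4 < 64 := by norm_num
  have l8 : 8 < 64 := by norm_num
  have l16 : 16 < 64 := by norm_num
  have l32 : 32 < 64 := by norm_num
  have st : ∀ e < 64, ∀ e' < 64, ∀ {es ts : List ℕ}, okp e (a x e) es ts = true →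
      okp e (a x e) (e' :: es) (a x e' :: ts) = true := by
    intro e he e' he' es ts h1
    exact band_intro (band_intro (hp e he e' he') (h.ok_two he he')) h1
  have fin : ∀ e < 64, ∀ {es ts : List ℕ}, okp e (a x e) es ts = true → ok1 e (a x e) es ts = true := by
    intro e he es ts h1
    exact band_intro (hq e he) (band_intro (h.ok_one he) h1)
  refine mem_grow ?_ (a_lt x 32) (fin 32 l32 (st _ l32 _ l16 (st _ l32 _ l8 (st _ l32 _ l4 (st _ l32 _ l2
    (st _ l32 _ l1 rfl))))))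
  refine mem_grow ?_ (a_lt x 16) (fin 16 l16 (st _ l16 _ l8 (st _ l16 _ l4 (st _ l16 _ l2 (st _ l16 _ l1 rfl)))))
  refine mem_grow ?_ (a_lt x 8) (fin 8 l8 (st _ l8 _ l4 (st _ l8 _ l2 (st _ l8 _ l1 rfl))))
  refine mem_grow ?_ (a_lt x 4) (fin 4 l4 (st _ l4 _ l2 (st _ l4 _ l1 rfl)))
  refine mem_grow ?_ (a_lt x 2) (fin 2 l2 (st _ l2 _ l1 rfl))
  refine mem_grow ?_ (a_lt x 1) (fin 1 l1 rfl)
  exact List.mem_singleton.2 rfl

theorem ncard_fpf : {x : Γ | Fpf x}.ncard ≤ 80 := by
  classical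
  have h1 : {x : Γ | Fpf x}.ncard ≤ (leaves.toFinset : Set (List ℕ)).ncard := by
    refine Set.ncard_le_ncard_of_injOn (fun x => [a x 32, a x 16, a x 8, a x 4, a x 2, a x 1]) ?_ ?_ (Set.toFinite _)
    · intro x hx
      rw [Finset.mem_coe, List.mem_toFinset]
      exact Fpf.mem_leaves hx
    · intro x _ y _ e
      simp only [List.cons.injEq, and_true] at e
      obtain ⟨e1, e2, e3, e4, e5, e6⟩ := e
      apply ext_basis
      intro m hm
      simp only [basis, List.mem_cons, List.not_mem_nil, or_false] at hm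
      rcases hm with rfl | rfl | rfl | rfl | rfl | rfl
      · exact e6
      · exact e5
      · exact e4
      · exact e3
      · exact e2
      · exact e1
  rw [Set.ncard_coe_finset] at h1
  exact h1.trans ((List.toFinset_card_le _).trans leaves_le)

end Cfsg.Agent.H104.EP
end

-- part: H104/EP/Str
section
/-!
# Subgroups of `O₆⁻(2)` (helper104): the structure theorem and the list of the stabilisers
-/

set_option autoImplicit false

namespace Cfsg.Agent.H104.EP

open Subgroup Cfsg Cfsg.Agent.H781.U42Num Cfsg.Agent.H781.U42Gam Cfsg.Agent.H845.AutUFour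
open scoped Pointwise

set_option maxHeartbeats 400000

theorem exists_sylow5 {H : Subgroup Γ} (hc : Nat.card H = 5) : ∃ P : Sylow 5 Γ, (P : Subgroup Γ) = H := by
  have hfin : Finite Γ := Nat.finite_of_card_ne_zero (by rw [card_isometry]; norm_num)
  have hp : Fact (Nat.Prime 5) := ⟨by norm_num⟩
  have h1 : IsPGroup 5 H := IsPGroup.of_card (n := 1) (by rw [hc, pow_one])
  obtain ⟨P, hP⟩ := h1.exists_le_sylow
  refine ⟨P, ?_⟩
  symm
  apply Subgroup.eq_of_le_of_card_ge hP
  obtain ⟨k, hk⟩ := IsPGroup.iff_card.1 P.isPGroup'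
  have h3 : Nat.card P ∣ 51840 := by
    rw [← card_isometry]
    exact card_subgroup_dvd_card (P : Subgroup Γ)
  have h4 : Nat.card (P : Subgroup Γ) = 5 ^ k := hk
  rw [h4, hc]
  rw [hk] at h3
  rcases Nat.lt_or_ge k 2 with h5 | h5
  · interval_cases k <;> norm_num
  · exfalso
    have h6 : 5 ^ 2 ∣ 51840 := (pow_dvd_pow 5 h5).trans h3
    norm_num at h6

/-- conjugates of irreducible groups are irreducible -/
theorem Irr.conj {M : Subgroup Γ} (h : Irr M) (g : Γ) : Irr (M.map (MulAut.conj g).toMonoidHom) := by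
  intro W hW
  let W' : Submodule (ZMod 2) V := mkSub (fun v => g • v ∈ W) (by rw [smul_zero]; exact W.zero_mem)
    fun v w hv hw => by rw [smul_add]; exact W.add_mem hv hw
  have hmem : ∀ v, v ∈ W' ↔ g • v ∈ W := fun _ => Iff.rfl
  have h1 : Inv M W' := by
    intro m hm v hv
    rw [hmem] at hv ⊢
    have h2 := hW (g * m * g⁻¹) ⟨m, hm, rfl⟩ _ hv
    have h3 : (g * m * g⁻¹) • g • v = g • m • v := by
      rw [← mul_smul, ← mul_smul, inv_mul_cancel_right]
    exact h3 ▸ h2
  have h4 : ∀ v : V, g • g⁻¹ • v = v := fun v => by rw [← mul_smul, mul_inv_cancel, one_smul]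
  rcases h W' h1 with h2 | h2
  · left
    rw [Submodule.eq_bot_iff]
    intro v hv
    have h3 : g⁻¹ • v ∈ W' := (hmem _).2 ((h4 v).symm ▸ hv)
    rw [h2, Submodule.mem_bot] at h3
    have h5 := h4 v
    rw [h3, smul_zero] at h5
    exact h5.symm
  · right
    rw [Submodule.eq_top_iff']
    intro v
    have h3 : g⁻¹ • v ∈ W' := by rw [h2]; exact Submodule.mem_top
    exact h4 v ▸ (hmem _).1 h3

/-- **The structure theorem.** -/
theorem fix_cases {M : Subgroup Γ} (h1 : M ≠ ⊥) (hO : ¬ Omega (ZMod 2) Q6 ≤ M) : Fix1 M ∨ Fix2 M ∨ Fix3 M ∨ Fix4 M := by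
  have hfin : Finite Γ := Nat.finite_of_card_ne_zero (by rw [card_isometry]; norm_num)
  by_cases hirr : Irr M
  · by_cases h5 : 5 ∣ Nat.card M
    · exfalso
      have hp : Fact (Nat.Prime 5) := ⟨by norm_num⟩
      obtain ⟨y, hy⟩ := exists_prime_orderOf_dvd_card' (G := M) 5 h5
      have hy' : orderOf (y : Γ) = 5 := by rw [Subgroup.orderOf_coe]; exact hy
      obtain ⟨P, hP⟩ := exists_sylow5 (H := zpowers (y : Γ)) (by rw [Nat.card_zpowers, hy'])
      obtain ⟨P', hP'⟩ := exists_sylow5 (H := zpowers yG) (by rw [Nat.card_zpowers, order_y])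
      obtain ⟨g, hg⟩ := MulAction.exists_smul_eq Γ P P'
      have h2 : yG ∈ M.map (MulAut.conj g).toMonoidHom := by
        have h3 : yG ∈ (P' : Subgroup Γ) := by rw [hP']; exact mem_zpowers _
        rw [← hg, Sylow.coe_subgroup_smul, hP] at h3
        have h4 : zpowers (y : Γ) ≤ M := by rw [zpowers_le]; exact y.2
        obtain ⟨z, hz, e⟩ := h3
        exact ⟨z, h4 hz, e⟩
      apply hO
      intro w hw
      have h3 := omega_le (hirr.conj g) h2 (show g * w * g⁻¹ ∈ Omega (ZMod 2) Q6 from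
        (inferInstance : (Omega (ZMod 2) Q6).Normal).conj_mem w hw g)
      obtain ⟨m, hm, e⟩ := h3
      have h4 : g * m * g⁻¹ = g * w * g⁻¹ := e
      have h5 : m = w := mul_left_cancel (mul_right_cancel h4)
      rw [← h5]
      exact hm
    · exact Or.inr (Or.inr (of_solvable hirr h5 h1))
  · have := fix_of_not_irr hirr
    (clear * - this; itauto)

/-! ### the stabilisers -/

/-- the stabiliser of a set of vectors -/
def StS (S : V → Prop) : Subgroup Γ where
  carrier := {g | ∀ v, S (g • v) ↔ S v}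
  one_mem' v := by rw [one_smul]
  mul_mem' {g h} hg hh v := by
    rw [mul_smul]
    exact (hg _).trans (hh v)
  inv_mem' {g} hg v := by
    have h1 := hg (g⁻¹ • v)
    rw [← mul_smul, mul_inv_cancel, one_smul] at h1
    exact h1.symm

theorem le_StS {M : Subgroup Γ} {S : V → Prop} (h : ∀ g ∈ M, ∀ v, S v → S (g • v)) : M ≤ StS S := by
  intro g hg v
  refine ⟨fun h1 => ?_, h g hg v⟩
  have h2 := h g⁻¹ (M.inv_mem hg) _ h1
  have h3 : g⁻¹ • g • v = v := by rw [← mul_smul, inv_mul_cancel, one_smul]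
  exact h3 ▸ h2

/-- the stabilisers of the structures -/
def Tset : Set (Subgroup Γ) :=
  {K | (∃ v : V, v ≠ 0 ∧ K = StS (fun w => w = v)) ∨ (∃ s t : V, TL s t ∧ K = StS (InP s t)) ∨
    (∃ u w : V, MP u w ∧ K = StS (Fr u w)) ∨ ∃ x : Γ, Fpf x ∧ K = normalizer (zpowers x : Set Γ)}

theorem TL.three_mem {s t : V} (_ : TL s t) {g : Γ} (h1 : InP s t (g • s)) (h2 : InP s t (g • t)) {v : V}
    (hv : InP s t v) (hst : s ≠ t) : InP s t (g • v) := by
  rcases hv with rfl | rfl | rfl
  · exact h1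
  · exact h2
  · have h3 : g • s ≠ g • t := fun e => hst (smul_inj e)
    have h4 : g • (s + t) = g • s + g • t := smul_add g s t
    have e1 : s + (s + t) = t := by rw [← add_assoc, add_self, zero_add]
    have e2 : t + (s + t) = s := by rw [add_comm s t, ← add_assoc, add_self, zero_add]
    have e3 : s + t + s = t := by rw [add_comm (s + t) s, e1]
    have e4 : s + t + t = s := by rw [add_comm (s + t) t, e2]
    rw [h4]
    generalize g • s = p at *
    generalize g • t = q at *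
    rcases h1 with rfl | rfl | rfl <;> rcases h2 with h2 | h2 | h2 <;> rw [h2] at h3 ⊢
    · exact absurd rfl h3
    · exact Or.inr (Or.inr rfl)
    · exact Or.inr (Or.inl e1)
    · exact Or.inr (Or.inr (add_comm _ _))
    · exact absurd rfl h3
    · exact Or.inl e2
    · exact Or.inr (Or.inl e3)
    · exact Or.inl e4
    · exact absurd rfl h3

/-- every proper subgroup is contained in one of the stabilisers -/
theorem exists_le_T {M : Subgroup Γ} (h1 : M ≠ ⊥) (hO : ¬ Omega (ZMod 2) Q6 ≤ M) : ∃ K ∈ Tset, M ≤ K := by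
  rcases fix_cases h1 hO with ⟨v, hv, h⟩ | ⟨s, t, hst, h⟩ | ⟨u, w, huw, h⟩ | ⟨x, hx, h⟩
  · refine ⟨_, Or.inl ⟨v, hv, rfl⟩, le_StS fun g hg w hw => ?_⟩
    rw [hw]
    exact h g hg
  · exact ⟨_, Or.inr (Or.inl ⟨s, t, hst, rfl⟩), le_StS fun g hg v hv =>
      hst.three_mem (h g hg).1 (h g hg).2 hv hst.st⟩
  · exact ⟨_, Or.inr (Or.inr (Or.inl ⟨u, w, huw, rfl⟩)), le_StS h⟩
  · refine ⟨_, Or.inr (Or.inr (Or.inr ⟨x, hx, rfl⟩)), ?_⟩
    have h2 : ∀ g ∈ M, ∀ y ∈ zpowers x, g * y * g⁻¹ ∈ zpowers x := by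
      intro g hg y hy
      obtain ⟨k, rfl⟩ := mem_zpowers_iff.1 hy
      rw [← conj_zpow]
      apply (zpowers x).zpow_mem
      rcases h g hg with e | e <;> rw [e]
      · exact mem_zpowers x
      · exact (zpowers x).mul_mem (mem_zpowers x) (mem_zpowers x)
    intro g hg
    rw [mem_normalizer_iff]
    intro y
    refine ⟨h2 g hg y, fun h3 => ?_⟩
    have h4 := h2 g⁻¹ (M.inv_mem hg) _ h3
    have h5 : g⁻¹ * (g * y * g⁻¹) * g⁻¹⁻¹ = y := by group
    rwa [h5] at h4

end Cfsg.Agent.H104.EP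
end

-- part: H104/EP/Tset
section
/-!
# Subgroups of `O₆⁻(2)` (helper104): at most 398 stabilisers, none contains `Ω`
-/

set_option autoImplicit false

namespace Cfsg.Agent.H104.EP

open Subgroup Cfsg Cfsg.Agent.H781.U42Num Cfsg.Agent.H781.U42Gam Cfsg.Agent.H845.AutUFour

set_option maxHeartbeats 400000

/-! ### counting -/

def c2 (p : Fin 64 × Fin 64) : Bool :=
  Bool.and (lt' p.1 p.2) (Bool.and (sg p.1) (Bool.and (sg p.2) (Bool.not (pol p.1 p.2))))

def c3 (p : Fin 64 × Fin 64) : Bool := pl p.1 p.2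

def flF {α : Type} [Fintype α] (c : α → Bool) : Finset α := Finset.univ.filter fun p => c p = true

theorem mem_flF {α : Type} [Fintype α] {c : α → Bool} {p : α} (h : c p = true) : p ∈ (flF c : Set α) :=
  Finset.mem_coe.2 (Finset.mem_filter.2 ⟨Finset.mem_univ _, h⟩)

set_option maxRecDepth 100000 in
theorem card_N2 : (flF c2).card = 135 := by decide +kernel

set_option maxRecDepth 100000 in
theorem card_N3 : (flF c3).card = 120 := by decide +kernel

theorem InP_comm (s t : V) : InP s t = InP t s := by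
  funext v
  apply propext
  exact (Sm.swap s t).1 v

theorem Fr_congr {u w u' w' : V} (h : Sm u w u' w') : Fr u w = Fr u' w' := by
  funext v
  apply propext
  exact and_congr_right fun _ => or_congr (h.1 v) (h.2 v)

theorem ncard_ne_zero : {v : V | v ≠ 0}.ncard = 63 := by
  have h : {v : V | v ≠ 0} = (Finset.univ.filter (fun v : V => v ≠ 0) : Finset V) := by
    ext v
    simp
  rw [h, Set.ncard_coe_finset]
  decide +kernel

set_option maxRecDepth 100000 in
theorem ncard_Tset : Tset.ncard ≤ 398 := by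
  have hfin : Finite Γ := Nat.finite_of_card_ne_zero (by rw [card_isometry]; norm_num)
  have hsub : Tset ⊆ ((fun v : V => StS (fun w => w = v)) '' {v | v ≠ 0} ∪
      (fun p : Fin 64 × Fin 64 => StS (InP (toV p.1) (toV p.2))) '' (flF c2 : Set (Fin 64 × Fin 64))) ∪
      ((fun p : Fin 64 × Fin 64 => StS (Fr (toV p.1) (toV p.2))) '' (flF c3 : Set (Fin 64 × Fin 64)) ∪
      (fun x : Γ => normalizer (zpowers x : Set Γ)) '' {x | Fpf x}) := by
    rintro K (⟨v, hv, rfl⟩ | ⟨s, t, h, rfl⟩ | ⟨u, w, h, rfl⟩ | ⟨x, hx, rfl⟩)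
    · exact Or.inl (Or.inl ⟨v, hv, rfl⟩)
    · refine Or.inl (Or.inr ?_)
      have key : ∀ s t : V, TL s t → ofV s < ofV t → StS (InP s t) ∈
          (fun p : Fin 64 × Fin 64 => StS (InP (toV p.1) (toV p.2))) '' (flF c2 : Set (Fin 64 × Fin 64)) := by
        intro s t h hlt
        refine ⟨(⟨ofV s, ofV_lt s⟩, ⟨ofV t, ofV_lt t⟩), ?_, ?_⟩
        · refine mem_flF ?_
          exact band_intro (Nat.ble_eq_true_of_le hlt) (band_intro (sg_ofV h.s0 h.sn)
            (band_intro (sg_ofV h.t0 h.tn) (bnot_intro ((pol_ofV_false s t).2 h.b))))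
        · change StS (InP (toV (ofV s)) (toV (ofV t))) = _
          rw [toV_ofV, toV_ofV]
      rcases lt_or_gt_of_ne (fun e => h.st (ofV_inj e) : ofV s ≠ ofV t) with h1 | h1
      · exact key s t h h1
      · rw [InP_comm]
        exact key t s ⟨h.t0, h.s0, by rw [B_comm]; exact h.b, h.tn, h.sn, h.st.symm⟩ h1
    · refine Or.inr (Or.inl ?_)
      obtain ⟨u', w', h', hp, hs⟩ := h.exists_pl
      refine ⟨(⟨ofV u', ofV_lt u'⟩, ⟨ofV w', ofV_lt w'⟩), ?_, ?_⟩
      · exact mem_flF hp
      · change StS (Fr (toV (ofV u')) (toV (ofV w'))) = _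
        rw [toV_ofV, toV_ofV, Fr_congr hs]
    · exact Or.inr (Or.inr ⟨x, hx, rfl⟩)
  have h1 := Set.ncard_le_ncard hsub (Set.toFinite _)
  refine h1.trans ((Set.ncard_union_le _ _).trans ?_)
  have k1 := Set.ncard_union_le ((fun v : V => StS (fun w => w = v)) '' {v | v ≠ 0})
      ((fun p : Fin 64 × Fin 64 => StS (InP (toV p.1) (toV p.2))) '' (flF c2 : Set (Fin 64 × Fin 64)))
  have k2 := Set.ncard_union_le ((fun p : Fin 64 × Fin 64 => StS (Fr (toV p.1) (toV p.2))) '' (flF c3 : Set (Fin 64 × Fin 64)))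
      ((fun x : Γ => normalizer (zpowers x : Set Γ)) '' {x | Fpf x})
  have k3 := Set.ncard_image_le (f := fun v : V => StS (fun w => w = v)) (s := {v | v ≠ 0}) (Set.toFinite _)
  have k4 := Set.ncard_image_le (f := fun p : Fin 64 × Fin 64 => StS (InP (toV p.1) (toV p.2)))
    (s := (flF c2 : Set (Fin 64 × Fin 64))) (Set.toFinite _)
  have k5 := Set.ncard_image_le (f := fun p : Fin 64 × Fin 64 => StS (Fr (toV p.1) (toV p.2)))
    (s := (flF c3 : Set (Fin 64 × Fin 64))) (Set.toFinite _)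
  have k6 := Set.ncard_image_le (f := fun x : Γ => normalizer (zpowers x : Set Γ)) (s := {x | Fpf x}) (Set.toFinite _)
  rw [ncard_ne_zero] at k3
  rw [Set.ncard_coe_finset, card_N2] at k4
  rw [Set.ncard_coe_finset, card_N3] at k5
  have k7 := ncard_fpf
  omega

/-! ### `Ω` is not contained in the stabilisers -/

def in3 (s t v : ℕ) : Bool := Bool.or (Nat.beq v s) (Bool.or (Nat.beq v t) (Nat.beq v (Nat.xor s t)))

def chk3 : Bool := allB 64 fun s => im' (sg s) (allB 64 fun t => im' (Bool.and (sg t) (Bool.and (Bool.not (Nat.beq s t))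
  (Bool.not (pol s t)))) (Bool.not (Bool.and (in3 s t (ap yl s)) (in3 s t (ap yl t)))))

set_option maxRecDepth 100000 in
theorem chk3_true : chk3 = true := by decide +kernel

def fr (u w v : ℕ) : Bool := Bool.and (qf v) (Bool.or (in3 u w v) (pp u w v))

def chk4 : Bool := allB 64 fun u => im' (qf u) (allB 64 fun w => im' (pl u w)
  (Bool.not (allB 64 fun v => im' (fr u w v) (fr u w (ap yl v)))))

set_option maxRecDepth 100000 in
theorem chk4_true : chk4 = true := by decide +kernel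

theorem in3_iff (s t v : V) : in3 (ofV s) (ofV t) (ofV v) = true ↔ InP s t v := by
  have h : ∀ m n : ℕ, Nat.beq m n = true ↔ m = n := fun m n => ⟨Nat.eq_of_beq_eq_true, fun h => by rw [h]; exact Nat.beq_refl n⟩
  have h1 : ∀ a b : Bool, Bool.or a b = true ↔ a = true ∨ b = true := by decide
  rw [in3, h1, h1, h, h, h, ← ofV_add]
  exact or_congr ⟨ofV_inj, congrArg _⟩ (or_congr ⟨ofV_inj, congrArg _⟩ ⟨ofV_inj, congrArg _⟩)

theorem pp_iff (u w v : V) : pp (ofV u) (ofV w) (ofV v) = true ↔ Pp u w v := by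
  refine ⟨fun h => ?_, pp_of⟩
  have h1 : ∀ a b : Bool, Bool.and (Bool.not a) (Bool.not b) = true → a = false ∧ b = false := by decide
  obtain ⟨h2, h3⟩ := h1 _ _ h
  exact ⟨(pol_ofV_false u v).1 h2, (pol_ofV_false w v).1 h3⟩

theorem fr_iff (u w v : V) : fr (ofV u) (ofV w) (ofV v) = true ↔ Fr u w v := by
  have h1 : ∀ a b : Bool, Bool.or a b = true ↔ a = true ∨ b = true := by decide
  have h2 : ∀ a b : Bool, Bool.and a b = true ↔ a = true ∧ b = true := by decide
  rw [fr, h2, h1, qf_ofV, in3_iff, pp_iff]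
  exact Iff.rfl

theorem ofV_y (v : V) : ofV (yG • v) = ap yl (ofV v) := by
  rw [← a_yG _ (ofV_lt v), a, toV_ofV]
  rfl

theorem fixV_y {v : V} (h : yG • v = v) : ofV v = 0 ∨ ofV v = 12 ∨ ofV v = 39 ∨ ofV v = 43 := by
  apply fix_y _ (ofV_lt v)
  rw [← ofV_y, h]

theorem z_moves : a zG 12 ≠ 12 ∧ a zG 39 ≠ 39 ∧ a zG 43 ≠ 43 := by decide +kernel

theorem Fpf.cube {x : Γ} (h : Fpf x) : x * x * x = 1 := by
  apply eq_one_of_smul
  intro v
  have h1 := h v
  have h2 := h (x • v)
  have h3 : v + (x • v + x • x • v) = 0 := by rw [← add_assoc]; exact h1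
  have h4 : x • x • x • v + (x • v + x • x • v) = 0 := by
    rw [add_comm]
    exact h2
  have h5 : x • x • x • v = v := (eq_of_add_eq_zero' h4).trans (eq_of_add_eq_zero' h3).symm
  have h6 : (x * x * x) • v = x • x • x • v := by rw [mul_assoc, mul_smul, mul_smul]
  exact h6.trans h5

theorem mem_zpowers_cube {x y : Γ} (h : x * x * x = 1) (hy : y ∈ zpowers x) : y = 1 ∨ y = x ∨ y = x * x := by
  obtain ⟨k, rfl⟩ := mem_zpowers_iff.1 hy
  have h3 : x ^ (3 : ℤ) = 1 := by
    have : x ^ (3 : ℤ) = x * x * x := by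
      rw [show (3 : ℤ) = ((3 : ℕ) : ℤ) from rfl, zpow_natCast, pow_succ, pow_two]
    rw [this, h]
  have h4 : x ^ k = x ^ (k % 3) := by
    conv_lhs => rw [← Int.emod_add_mul_ediv k 3]
    rw [zpow_add, zpow_mul, h3, one_zpow, mul_one]
  rw [h4]
  have h5 : k % 3 = 0 ∨ k % 3 = 1 ∨ k % 3 = 2 := by omega
  rcases h5 with h5 | h5 | h5 <;> rw [h5]
  · left
    exact zpow_zero x
  · right; left
    exact zpow_one x
  · right; right
    exact zpow_two x

theorem comm_y {x : Γ} (h : x * x * x = 1) (hx1 : x ≠ 1) (hn : yG * x * yG⁻¹ ∈ zpowers x) : yG * x = x * yG := by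
  rcases mem_zpowers_cube h hn with e | e | e
  · exfalso
    apply hx1
    rw [mul_inv_eq_one] at e
    exact mul_left_cancel (e.trans (mul_one yG).symm)
  · exact (mul_inv_eq_iff_eq_mul.1 e :)
  · have e1 : yG * x = x * x * yG := (mul_inv_eq_iff_eq_mul.1 e :)
    have e2 : Commute (yG * yG) x := by
      change yG * yG * x = x * (yG * yG)
      calc yG * yG * x = yG * (yG * x) := mul_assoc _ _ _
        _ = yG * (x * x * yG) := by rw [e1]
        _ = (yG * x) * (x * yG) := by simp only [mul_assoc]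
        _ = x * x * yG * (x * yG) := by rw [e1]
        _ = x * x * (yG * x) * yG := by simp only [mul_assoc]
        _ = x * x * (x * x * yG) * yG := by rw [e1]
        _ = x * (x * x * x) * (yG * yG) := by simp only [mul_assoc]
        _ = x * (yG * yG) := by rw [h, mul_one]
    have e3 : (yG * yG) * (yG * yG) * (yG * yG) = yG := by
      calc (yG * yG) * (yG * yG) * (yG * yG) = (yG * (yG * (yG * (yG * yG)))) * yG := by simp only [mul_assoc]
        _ = yG := by rw [yG5, one_mul]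
    have e4 := (e2.mul_left e2).mul_left e2
    rw [e3] at e4
    exact e4

/-- **`Ω` is not contained in a stabiliser.** -/
theorem not_omega_le {K : Subgroup Γ} (hK : K ∈ Tset) : ¬ Omega (ZMod 2) Q6 ≤ K := by
  intro hO
  have hy := hO yG_mem
  rcases hK with ⟨v, hv, rfl⟩ | ⟨s, t, h, rfl⟩ | ⟨u, w, h, rfl⟩ | ⟨x, hx, rfl⟩
  · have h1 : yG • v = v := (hy v).2 rfl
    have h2 : zG • v = v := (hO z_mem v).2 rfl
    have h3 : a zG (ofV v) = ofV v := by
      rw [a, toV_ofV]
      exact congrArg ofV h2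
    obtain ⟨z1, z2, z3⟩ := z_moves
    rcases fixV_y h1 with e | e | e | e <;> rw [e] at h3
    · exact hv (ofV_inj (e.trans ofV_zero.symm))
    · exact z1 h3
    · exact z2 h3
    · exact z3 h3
  · have h1 : InP s t (yG • s) := (hy s).2 (Or.inl rfl)
    have h2 : InP s t (yG • t) := (hy t).2 (Or.inr (Or.inl rfl))
    have k1 := im'_spec (allB_spec chk3_true (ofV_lt s)) (sg_ofV h.s0 h.sn)
    have k2 := im'_spec (allB_spec k1 (ofV_lt t)) (band_intro (sg_ofV h.t0 h.tn) (band_intro
      (bnot_beq fun h3 => h.st (ofV_inj h3)) (bnot_intro ((pol_ofV_false s t).2 h.b))))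
    rw [← ofV_y, ← ofV_y, (in3_iff s t _).2 h1, (in3_iff s t _).2 h2] at k2
    exact absurd k2 (by decide)
  · obtain ⟨u', w', h', hp, hs⟩ := h.exists_pl
    rw [Fr_congr hs] at hy
    have k1 := im'_spec (allB_spec chk4_true (ofV_lt u')) (qf_u_of_pl hp)
    have k2 := im'_spec (allB_spec k1 (ofV_lt w')) hp
    have k3 : (allB 64 fun v => im' (fr (ofV u') (ofV w') v) (fr (ofV u') (ofV w') (ap yl v))) = true := by
      have hall : ∀ (n : ℕ) (f : ℕ → Bool), (∀ i < n, f i = true) → allB n f = true := by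
        intro n f h
        induction n with
        | zero => rfl
        | succ n ih =>
          rw [allB, Bool.and_eq_true]
          exact ⟨h n (Nat.lt_succ_self n), ih fun i hi => h i (hi.trans (Nat.lt_succ_self n))⟩
      have him : ∀ a b : Bool, (a = true → b = true) → im' a b = true := by decide
      apply hall
      intro n hn
      apply him
      intro h1
      have h2 : ofV (toV n) = n := ofV_toV n hn
      rw [← h2] at h1 ⊢
      rw [← ofV_y]
      exact (fr_iff u' w' _).2 ((hy _).2 ((fr_iff u' w' _).1 h1))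
    rw [k3] at k2
    exact absurd k2 (by decide)
  · have hx3 := hx.cube
    obtain ⟨v, hv⟩ : ∃ v : V, v ≠ 0 ∧ yG • v = v ∧ Q6 v = 1 := by
      refine ⟨toV 12, ?_, ?_, ?_⟩
      · intro h
        have h1 := congrArg ofV h
        rw [ofV_toV 12 (by norm_num), ofV_zero] at h1
        exact absurd h1 (by norm_num)
      · apply ofV_inj
        rw [ofV_y, ofV_toV 12 (by norm_num)]
        decide +kernel
      · exact (qf_spec 12 (by norm_num)).1 (by decide +kernel)
    obtain ⟨hv0, hvy, hvQ⟩ := hv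
    have hx1 : x ≠ 1 := by
      rintro rfl
      have h1 := hx v
      have h2 : (1 : Γ) • v = v := one_smul Γ v
      rw [h2, h2, add_self, zero_add] at h1
      exact hv0 h1
    have hc := comm_y hx3 hx1 ((mem_normalizer_iff.1 hy x).1 (mem_zpowers x))
    have h1 : yG • x • v = x • v := by
      rw [← mul_smul, hc, mul_smul, hvy]
    have huniq : ∀ w : V, yG • w = w → Q6 w = 1 → ofV w = 12 := by
      intro w hw hwQ
      have h2 := (qf_ofV w).2 hwQ
      rcases fixV_y hw with e | e | e | e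
      · rw [e] at h2
        exact absurd h2 (by decide +kernel)
      · exact e
      · rw [e] at h2
        exact absurd h2 (by decide +kernel)
      · rw [e] at h2
        exact absurd h2 (by decide +kernel)
    have h2 : x • v = v := ofV_inj ((huniq _ h1 ((Q_smul x v).trans hvQ)).trans (huniq v hvy hvQ).symm)
    have h3 := hx v
    rw [h2, h2, add_self, zero_add] at h3
    exact hv0 h3

end Cfsg.Agent.H104.EP
end

-- part: H104/EP/U42
section
/-!
# S3499, layer IV (helper104, task 5944): the stabilisers `A` with socle `U₄(2)`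

`index_le_u42` : the index of an extremely primitive stabiliser with socle `U₄(2)` is at most `398² ≤ 2¹⁸`.
-/

set_option autoImplicit false

namespace Cfsg.Agent.H104.EP

open Subgroup Cfsg Cfsg.Agent.H284 Cfsg.Agent.H419.EP Cfsg.Agent.H845.AutUFour Cfsg.Agent.H781.U42Gam

set_option maxHeartbeats 400000

variable {Q : Type*} [Group Q] {A : Subgroup Q} {Γq : Subgroup (MulAut Q)}

/-- the socle is invariant -/
theorem soc_inv [Finite Q] (h : EPT A Γq) {N : Subgroup Q} (hNA : N ≤ A) (hNn : ∀ a ∈ A, ∀ n ∈ N, a * n * a⁻¹ ∈ N)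
    (hC : ∀ a ∈ A, (∀ n ∈ N, a * n = n * a) → a = 1) (hs : IsSimpleGroup N) {σ : MulAut Q} (hσ : σ ∈ Γq) {n : Q}
    (hn : n ∈ N) : σ n ∈ N := by
  set N' := N.map σ.toMonoidHom with hN'
  have hN'A : N' ≤ A := by
    rintro _ ⟨n, hn, rfl⟩
    exact (h.inv σ hσ n).2 (hNA hn)
  have hN'n : ∀ a ∈ A, ∀ n ∈ N', a * n * a⁻¹ ∈ N' := by
    rintro a ha _ ⟨n, hn, rfl⟩
    have h1 : σ⁻¹ a ∈ A := (h.inv _ (Γq.inv_mem hσ) a).2 ha
    refine ⟨σ⁻¹ a * n * (σ⁻¹ a)⁻¹, hNn _ h1 n hn, ?_⟩
    change σ (σ⁻¹ a * n * (σ⁻¹ a)⁻¹) = a * σ n * a⁻¹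
    rw [map_mul, map_mul, map_inv, MulAut.apply_inv_self]
  have hnorm : ((N' ⊓ N).subgroupOf N).Normal := ⟨by
    rintro ⟨n, hn'⟩ hn ⟨a, ha⟩
    exact ⟨hN'n a (hNA ha) n hn.1, N.mul_mem (N.mul_mem ha hn') (N.inv_mem ha)⟩⟩
  rcases hnorm.eq_bot_or_eq_top with h4 | h4
  · exfalso
    have h5 : ∀ k ∈ N', k = 1 := by
      intro k hk
      apply hC k (hN'A hk)
      intro n hn
      have h5 : k * n * k⁻¹ * n⁻¹ ∈ N' ⊓ N := by
        refine ⟨?_, N.mul_mem (hNn k (hN'A hk) n hn) (N.inv_mem hn)⟩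
        have e : k * n * k⁻¹ * n⁻¹ = k * (n * k⁻¹ * n⁻¹) := by group
        rw [e]
        exact N'.mul_mem hk (hN'n n (hNA hn) _ (N'.inv_mem hk))
      have h6 : (⟨k * n * k⁻¹ * n⁻¹, h5.2⟩ : N) ∈ (N' ⊓ N).subgroupOf N := h5
      rw [h4, mem_bot] at h6
      have h7 : k * n * k⁻¹ * n⁻¹ = 1 := congrArg Subtype.val h6
      rw [mul_inv_eq_one, mul_inv_eq_iff_eq_mul] at h7
      exact h7
    obtain ⟨x, hx⟩ := exists_ne (1 : N)
    apply hx
    apply Subtype.ext
    apply σ.injective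
    change σ x = σ 1
    rw [map_one]
    exact h5 _ ⟨x, x.2, rfl⟩
  · have h5 : N ≤ N' := by
      intro x hx
      have h6 : (⟨x, hx⟩ : N) ∈ (N' ⊓ N).subgroupOf N := by rw [h4]; exact mem_top _
      exact (mem_inf.1 h6).1
    have h6 : N = N' := by
      apply Subgroup.eq_of_le_of_card_ge h5
      rw [hN']
      exact (Nat.card_congr (N.equivMapOfInjective _ σ.injective).symm.toEquiv).le
    rw [h6]
    exact ⟨n, hn, rfl⟩

/-- **Layer IV, `U₄(2)`.** -/
theorem index_le_u42 [Finite Q] (h : EPT A Γq) {K : Type*} [Field K] [Fintype K] (hK : Fintype.card K = 4)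
    (hsoc : HasSoc A (PSU 4 K 2)) : A.index ≤ 2 ^ 18 := by
  obtain ⟨N, hNA, hNn, hC, ⟨e1⟩⟩ := hsoc
  obtain ⟨e2⟩ := H781.U42Act.exists_omega hK
  have hsimp : IsSimpleGroup (PSU 4 K 2) := Cfsg.Agent.S0283.result (q := 2) (by rw [hK]; norm_num) 4 (by norm_num) (by norm_num)
  have hs : IsSimpleGroup N := e1.isSimpleGroup
  have hinv : ∀ σ ∈ Γq, ∀ n ∈ N, σ n ∈ N := fun σ hσ n hn => soc_inv h hNA hNn hC hs hσ hn
  -- conjugations
  let c : A →* Γq := (MulAut.conj.comp A.subtype).codRestrict Γq fun a => (h.conj a).2 a.2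
  have hc : ∀ a : A, ((c a : Γq) : MulAut Q) = MulAut.conj (a : Q) := fun a => rfl
  have hcinj : Function.Injective c := by
    rw [injective_iff_map_eq_one]
    intro a ha
    apply Subtype.ext
    apply hC a a.2
    intro n _
    have h1 : MulAut.conj (a : Q) = 1 := by rw [← hc, ha]; rfl
    have h2 := DFunLike.congr_fun h1 n
    rw [MulAut.conj_apply, MulAut.one_apply, mul_inv_eq_iff_eq_mul] at h2
    exact h2
  let A' : Subgroup Γq := (N.subgroupOf A).map c
  have hA' : A'.Normal := by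
    constructor
    rintro _ ⟨n, hn, rfl⟩ σ
    have hσn : (σ : MulAut Q) n ∈ N := hinv σ σ.2 n hn
    refine ⟨⟨(σ : MulAut Q) n, hNA hσn⟩, hσn, ?_⟩
    apply Subtype.ext
    change MulAut.conj ((σ : MulAut Q) n) = (σ : MulAut Q) * MulAut.conj (n : Q) * (σ : MulAut Q)⁻¹
    rw [aut_conj]
  let e' : A' ≃* ↥(Omega (ZMod 2) Q6) :=
    (((N.subgroupOf A).equivMapOfInjective c hcinj).symm.trans (Subgroup.subgroupOfEquivOfLe hNA)).trans (e1.trans e2)
  obtain ⟨φ, -, hφ2, hφ3⟩ := H781.U42Act.exists_phi hA' e'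
  have hφinj : Function.Injective φ := by
    rw [injective_iff_map_eq_one]
    intro σ hσ
    have h1 := (hφ3 σ).1 hσ
    rw [mem_centralizer_iff] at h1
    have h2 : ∀ n ∈ N, (σ : MulAut Q) n = n := by
      intro n hn
      have h3 := h1 (c ⟨n, hNA hn⟩) ⟨⟨n, hNA hn⟩, hn, rfl⟩
      have h4 : MulAut.conj n * (σ : MulAut Q) = (σ : MulAut Q) * MulAut.conj n := congrArg Subtype.val h3
      have h5 : MulAut.conj ((σ : MulAut Q) n) = MulAut.conj n := by
        rw [← aut_conj, ← h4, mul_inv_cancel_right]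
      have hσn : (σ : MulAut Q) n ∈ N := hinv σ σ.2 n hn
      have h6 : c ⟨(σ : MulAut Q) n, hNA hσn⟩ = c ⟨n, hNA hn⟩ := Subtype.ext h5
      exact congrArg Subtype.val (hcinj h6)
    apply Subtype.ext
    apply h.cent σ σ.2
    intro a ha
    have ha' : (σ : MulAut Q) a ∈ A := (h.inv σ σ.2 a).2 ha
    have h3 : a⁻¹ * (σ : MulAut Q) a = 1 := by
      apply hC _ (A.mul_mem (A.inv_mem ha) ha')
      intro n hn
      have h4 := h2 _ (hNn a ha n hn)
      rw [map_mul, map_mul, map_inv, h2 n hn] at h4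
      have h5 : (σ : MulAut Q) a * n = a * n * a⁻¹ * (σ : MulAut Q) a := by rw [← h4]; group
      rw [mul_assoc, h5]
      group
    exact (inv_mul_eq_one.1 h3).symm
  have hrange : ∀ w ∈ Omega (ZMod 2) Q6, ∃ y : A', φ y = w := fun w hw =>
    ⟨e'.symm ⟨w, hw⟩, by rw [hφ2, e'.apply_symm_apply]⟩
  -- the point stabilisers
  let F : Subgroup Γ → Subgroup Q := fun K => ((K.comap φ).comap c).map A.subtype
  have hsub : {M : Subgroup Q | ∃ x, x ∉ A ∧ M = A ⊓ cj x A} ⊆ F '' Tset := by
    rintro _ ⟨x, hx, rfl⟩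
    let G : Subgroup Γq :=
      { carrier := {σ | x⁻¹ * (σ : MulAut Q) x ∈ A}
        one_mem' := by
          change x⁻¹ * x ∈ A
          rw [inv_mul_cancel]
          exact A.one_mem
        mul_mem' := by
          intro σ τ hσ hτ
          change x⁻¹ * (σ : MulAut Q) ((τ : MulAut Q) x) ∈ A
          have e : x⁻¹ * (σ : MulAut Q) ((τ : MulAut Q) x) =
              (x⁻¹ * (σ : MulAut Q) x) * (σ : MulAut Q) (x⁻¹ * (τ : MulAut Q) x) := by
            rw [map_mul, map_inv]
            group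
          rw [e]
          exact A.mul_mem hσ ((h.inv _ σ.2 _).2 hτ)
        inv_mem' := by
          intro σ hσ
          change x⁻¹ * ((σ : MulAut Q)⁻¹ : MulAut Q) x ∈ A
          have h3 := (h.inv _ (Γq.inv_mem σ.2) _).2 (A.inv_mem hσ)
          have e4 : ((σ : MulAut Q)⁻¹ : MulAut Q) (x⁻¹ * (σ : MulAut Q) x)⁻¹ = x⁻¹ * ((σ : MulAut Q)⁻¹ : MulAut Q) x := by
            rw [mul_inv_rev, map_mul, map_inv, MulAut.inv_apply_self, inv_inv]
          rwa [e4] at h3 }
    have hG : ∀ σ : Γq, σ ∈ G ↔ x⁻¹ * (σ : MulAut Q) x ∈ A := fun σ => Iff.rfl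
    have hGc : ∀ a : A, c a ∈ G ↔ (a : Q) ∈ cj x A := fun a => h.conj_stab a.2
    have h1 : G.map φ ≠ ⊥ := by
      intro e
      apply h.M0 x hx
      rw [Subgroup.eq_bot_iff_forall]
      intro a ha
      have h2 : c ⟨a, (mem_inf.1 ha).1⟩ ∈ G := (hGc _).2 (mem_inf.1 ha).2
      have h3 : φ (c ⟨a, (mem_inf.1 ha).1⟩) ∈ G.map φ := ⟨_, h2, rfl⟩
      rw [e, mem_bot] at h3
      have h4 : c ⟨a, (mem_inf.1 ha).1⟩ = 1 := hφinj (h3.trans (map_one φ).symm)
      have h5 := hcinj (h4.trans (map_one c).symm)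
      exact congrArg Subtype.val h5
    have hO : ¬ Omega (ZMod 2) Q6 ≤ G.map φ := by
      intro hO
      have h2 : N ≤ cj x A := by
        intro n hn
        have hn' : c ⟨n, hNA hn⟩ ∈ A' := ⟨⟨n, hNA hn⟩, hn, rfl⟩
        have h3 : φ (c ⟨n, hNA hn⟩) ∈ Omega (ZMod 2) Q6 := by
          have h4 := hφ2 ⟨_, hn'⟩
          change φ (c ⟨n, hNA hn⟩) = _ at h4
          rw [h4]
          exact (e' ⟨_, hn'⟩).2
        obtain ⟨σ, hσ, e⟩ := hO h3
        rw [hφinj e] at hσ
        exact (hGc _).1 hσ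
      have h3 := h.F1 x hx N hNA hinv h2
      obtain ⟨y, hy⟩ := exists_ne (1 : N)
      apply hy
      exact Subtype.ext (mem_bot.1 (h3.le y.2))
    obtain ⟨K, hKT, hGK⟩ := exists_le_T h1 hO
    refine ⟨K, hKT, ?_⟩
    have h2 := not_omega_le hKT
    have hL : ∀ σ : Γq, φ σ ∈ K → σ ∈ G := by
      rcases h.two x hx ((K.comap φ).map Γq.subtype) (by
          rintro _ ⟨σ, _, rfl⟩
          exact σ.2) (by
          intro σ hσ hσx
          exact ⟨⟨σ, hσ⟩, hGK ⟨⟨σ, hσ⟩, hσx, rfl⟩, rfl⟩) with h3 | h3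
      · exfalso
        apply h2
        intro w hw
        obtain ⟨y, hy⟩ := hrange w hw
        have h4 : ((y : Γq) : MulAut Q) ∈ (K.comap φ).map Γq.subtype := by
          rw [h3]
          exact (y : Γq).2
        obtain ⟨z, hz, e⟩ := h4
        have h5 : z = (y : Γq) := Subtype.ext e
        rw [h5] at hz
        rw [← hy]
        exact hz
      · intro σ hσ
        exact h3 _ ⟨σ, hσ, rfl⟩
    ext a
    constructor
    · rintro ⟨b, hb, rfl⟩
      exact ⟨b.2, (hGc b).1 (hL _ hb)⟩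
    · intro ha
      exact ⟨⟨a, (mem_inf.1 ha).1⟩, hGK ⟨_, (hGc ⟨a, (mem_inf.1 ha).1⟩).2 (mem_inf.1 ha).2, rfl⟩, rfl⟩
  have hfinG : Finite Γ := Nat.finite_of_card_ne_zero (by rw [card_isometry]; norm_num)
  have h1 := (Set.ncard_le_ncard hsub (Set.toFinite _)).trans ((Set.ncard_image_le (Set.toFinite _)).trans ncard_Tset)
  calc A.index ≤ _ := h.index_le
    _ ≤ 398 ^ 2 := Nat.pow_le_pow_left h1 2
    _ ≤ 2 ^ 18 := by norm_num

end Cfsg.Agent.H104.EP
end

private theorem dce_c12278003ef5 : _root_.True := by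
  try have : _root_.True := by simp only [_root_.Cfsg.Agent.H104.EP.it.eq_2]
  try have : _root_.True := by simp only [_root_.Cfsg.Agent.H104.EP.dg.eq_1]
  try have : _root_.True := by simp only [_root_.Cfsg.Agent.H104.EP.FF.eq_1]
  try have : _root_.True := by simp only [_root_.Cfsg.Agent.H781.U42Num.basis.eq_1]
  try have : _root_.True := by simp only [_root_.Cfsg.Agent.H104.EP.grow.eq_def]
  try have : _root_.True := by simp only [_root_.Cfsg.Agent.H104.EP.flt.eq_2]
  try have : _root_.True := by simp only [_root_.Cfsg.Agent.H104.EP.sm.eq_def]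
  try have : _root_.True := by simp only [_root_.Cfsg.Agent.H104.EP.it.eq_def]
  try have : _root_.True := by simp only [_root_.Cfsg.Agent.H104.EP.it.eq_1]
  try have : _root_.True := by simp only [_root_.Cfsg.Agent.H104.EP.sm.eq_1]
  try have : _root_.True := by simp only [_root_.Cfsg.Agent.H104.EP.tr.eq_1]
  try have : _root_.True := by simp only [_root_.Cfsg.Agent.H104.EP.grow.eq_1]
  try have : _root_.True := by simp only [_root_.Cfsg.Agent.H104.EP.in3.eq_1]
  try have : _root_.True := by simp only [_root_.Cfsg.Agent.H104.EP.fr.eq_1]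
  try have : _root_.True := by simp only [_root_.Cfsg.Agent.H104.EP.flt.eq_1]
  try have : _root_.True := by simp only [_root_.Cfsg.Agent.H104.EP.grow.eq_2]
  try have : _root_.True := by simp only [_root_.Cfsg.Agent.H104.EP.sm.eq_2]
  try have : _root_.True := by simp only [_root_.Cfsg.Agent.H104.EP.flt.eq_def]
  try have : _root_.True := by simp only [_root_.Cfsg.Agent.H104.EP.sg.eq_1]
  exact _root_.True.intro
end

-- part: H901/EP/RowGrp
section
prune_inst 0x4600048000962120000000000c00000008000000000000000000100000000000000008800000000015000000000000020020804200000000000000000002107091000800000000000020008000080000000000000000000000000000000010000000400002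
set_option linter.all false
open scoped Cfsg.Agent.FastGrp

-- part: H901/EP/PS
section
/-!
# S3499: the Sylow criterion (PS) of helper67 in a stronger form (helper901)

`Y ≤ A` a Sylow `s`-subgroup of prime order; `x ∉ A` centralizes `Y`.  Then `A ∩ A^x` contains an element which
normalises but does not centralise `Y`.  Numerical hypothesis for every prime `l ≠ s`: if a power `l ^ j` of `l`
dividing `|A|`, `j ≥ 1`, is congruent mod `s` to a divisor of `|C_A(Y)|` which is a power of `l`, then `l = 2`, and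
`j` is not the full exponent.
-/

set_option autoImplicit false
set_option linter.unusedSectionVars false

namespace Cfsg.Agent.H901.EP

open Subgroup Cfsg.Agent.H284

/-- a normal subgroup of order prime to `s` has a Sylow `l`-subgroup normalised by the element `y` of order `s` -/
theorem exists_inv_sylow {M : Type*} [Group M] [Finite M] {s : ℕ} (hs : s.Prime) {y : M} (hy : orderOf y = s)
    {K : Subgroup M} [K.Normal] (hK : ¬ s ∣ Nat.card K) (l : ℕ) [Fact l.Prime] :
    ∃ R : Sylow l K, ∀ r ∈ (R : Subgroup K), MulAut.conjNormal y r ∈ (R : Subgroup K) := by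
  have : Fact s.Prime := ⟨hs⟩
  -- the action of `⟨y⟩` on the Sylow subgroups of `K`
  let φ : Subgroup.zpowers y →* MulAut K := (MulAut.conjNormal (H := K)).comp (Subgroup.zpowers y).subtype
  let _ : MulDistribMulAction (Subgroup.zpowers y) K := MulDistribMulAction.compHom K φ
  have hpg : IsPGroup s (Subgroup.zpowers y) := by
    apply IsPGroup.of_card (n := 1)
    rw [Nat.card_zpowers, hy, pow_one]
  have h1 : ¬ s ∣ Nat.card (Sylow l K) := by
    intro h
    obtain ⟨R⟩ : Nonempty (Sylow l K) := inferInstance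
    exact hK (h.trans (by rw [R.card_eq_index_normalizer]; exact Subgroup.index_dvd_card _))
  obtain ⟨R, hR⟩ := hpg.nonempty_fixed_point_of_prime_not_dvd_card (Sylow l K) h1
  refine ⟨R, fun r hr => ?_⟩
  have h2 : (⟨y, Subgroup.mem_zpowers y⟩ : Subgroup.zpowers y) • R = R := hR ⟨y, Subgroup.mem_zpowers y⟩
  have h3 : (⟨y, Subgroup.mem_zpowers y⟩ : Subgroup.zpowers y) • r ∈ ((⟨y, Subgroup.mem_zpowers y⟩ : Subgroup.zpowers y) • R : Sylow l K) := by
    exact Subgroup.smul_mem_pointwise_smul r _ _ hr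
  rw [h2] at h3
  exact h3

/-- fixed points of an element of prime order on a subgroup which it normalises -/
theorem card_modEq {Q : Type*} [Group Q] [Finite Q] {s : ℕ} (hs : s.Prime) {y : Q} (hy : y ^ s = 1) {R : Subgroup Q}
    (hR : ∀ r ∈ R, y * r * y⁻¹ ∈ R) : Nat.card R ≡ Nat.card (R ⊓ Subgroup.centralizer {y} : Subgroup Q) [MOD s] := by
  classical
  have : Fact s.Prime := ⟨hs⟩
  have := Fintype.ofFinite R
  let f : Function.End R := fun r => ⟨y * r * y⁻¹, hR r r.2⟩
  have hfn : ∀ (n : ℕ) (r : R), (((f ^ n) r : R) : Q) = y ^ n * r * (y ^ n)⁻¹ := by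
    intro n
    induction n with
    | zero =>
      intro r
      show (r : Q) = y ^ 0 * r * (y ^ 0)⁻¹
      simp
    | succ n ih =>
      intro r
      rw [pow_succ]
      show (((f ^ n) (f r) : R) : Q) = _
      rw [ih]
      show y ^ n * (y * r * y⁻¹) * (y ^ n)⁻¹ = _
      rw [pow_succ]
      group
  have hf : f ^ s ^ 1 = 1 := by
    funext r
    apply Subtype.ext
    rw [hfn, pow_one, hy]
    show (1 : Q) * r * 1⁻¹ = r
    simp
  have h1 := Equiv.Perm.card_fixedPoints_modEq hf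
  rw [← Nat.card_eq_fintype_card, ← Nat.card_eq_fintype_card] at h1
  have h2 : Nat.card (Function.fixedPoints f) = Nat.card (R ⊓ Subgroup.centralizer {y} : Subgroup Q) := by
    refine Nat.card_congr ⟨fun r => ⟨r.1, r.1.2, ?_⟩, fun r => ⟨⟨r.1, r.2.1⟩, ?_⟩, fun r => rfl, fun r => rfl⟩
    · have h3 : y * (r.1 : Q) * y⁻¹ = r.1 := congrArg Subtype.val r.2
      rw [mul_inv_eq_iff_eq_mul] at h3
      exact Subgroup.mem_centralizer_singleton_iff.2 h3.symm
    · apply Subtype.ext
      show y * (r.1 : Q) * y⁻¹ = r.1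
      rw [mul_inv_eq_iff_eq_mul]
      exact (Subgroup.mem_centralizer_singleton_iff.1 r.2.2).symm
  rw [← h2]
  exact h1

/-- **(PS)** -/
theorem ps {Q : Type*} [Group Q] [Finite Q] {A : Subgroup Q} {Γ : Subgroup (MulAut Q)} (h : EPT A Γ)
    (hab : ∀ K : Subgroup Q, K ≤ A → (∀ a ∈ A, ∀ k ∈ K, a * k * a⁻¹ ∈ K) → (∀ a ∈ K, ∀ b ∈ K, a * b = b * a) → K = ⊥)
    {s e : ℕ} (hs : s.Prime) (he : e.Prime) (hes : e ≠ s) {y : Q} (hy : orderOf y = s) (hyA : y ∈ A)
    (hs2 : ¬ s ^ 2 ∣ Nat.card A)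
    (h1 : ∀ l j c : ℕ, l.Prime → l ≠ s → l ≠ e → 1 ≤ j → l ^ j ∣ Nat.card A →
      l ^ c ∣ Nat.card (A ⊓ Subgroup.centralizer {y} : Subgroup Q) → ¬ l ^ j ≡ l ^ c [MOD s])
    (h2 : ∀ j c : ℕ, e ^ j ∣ Nat.card A → ¬ e ^ (j + 1) ∣ Nat.card A →
      e ^ c ∣ Nat.card (A ⊓ Subgroup.centralizer {y} : Subgroup Q) → ¬ e ^ j ≡ e ^ c [MOD s])
    {x : Q} (hx : x ∉ A) (hxy : x * y = y * x) :
    ∃ u ∈ A, x⁻¹ * u * x ∈ A ∧ (∃ k : ℕ, u * y * u⁻¹ = y ^ k) ∧ u * y ≠ y * u := by
  classical
  by_contra hcon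
  push Not at hcon
  have hsf : Fact s.Prime := ⟨hs⟩
  have hef : Fact e.Prime := ⟨he⟩
  -- the two point stabiliser
  let M : Subgroup Q := A ⊓ cj x A
  have hMA : M ≤ A := inf_le_left
  have hyM : y ∈ M := ⟨hyA, mem_cj.2 (by
    have : x⁻¹ * y * x = y := by rw [mul_assoc, ← hxy, inv_mul_cancel_left]
    rw [this]; exact hyA)⟩
  have hys : y ^ s = 1 := by rw [← hy]; exact pow_orderOf_eq_one y
  have hMdvd : Nat.card M ∣ Nat.card A := Subgroup.card_dvd_of_le hMA
  let y' : M := ⟨y, hyM⟩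
  have hy' : orderOf y' = s := by rw [← hy]; exact Subgroup.orderOf_mk y hyM
  have hZc : Nat.card (Subgroup.zpowers y') = s := by rw [Nat.card_zpowers, hy']
  have hsM : s ∣ Nat.card M := by rw [← hy']; exact _root_.orderOf_dvd_natCard y'
  have hfac : (Nat.card M).factorization s = 1 := by
    have hne : Nat.card M ≠ 0 := Nat.card_pos.ne'
    have h3 : 1 ≤ (Nat.card M).factorization s := (hs.dvd_iff_one_le_factorization hne).1 hsM
    by_contra h4
    apply hs2
    exact (((hs.pow_dvd_iff_le_factorization hne).2 (by omega : 2 ≤ (Nat.card M).factorization s)).trans hMdvd)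
  let P : Sylow s M := Sylow.ofCard (Subgroup.zpowers y') (by rw [hZc, hfac, pow_one])
  have hPz : (P : Subgroup M) = Subgroup.zpowers y' := rfl
  have hP : Subgroup.normalizer (P : Set M) ≤ Subgroup.centralizer (P : Set M) := by
    intro n hn
    have h3 : n * y' * n⁻¹ ∈ Subgroup.zpowers y' := by
      have := (Subgroup.mem_normalizer_iff.1 hn y').1 (by
        show y' ∈ (P : Subgroup M)
        rw [hPz]; exact Subgroup.mem_zpowers y')
      exact this
    obtain ⟨k, hk⟩ := (Subgroup.mem_zpowers_iff.1 h3)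
    have h4 : (n : Q) * y = y * n := by
      apply hcon n (hMA n.2) (mem_cj.1 (mem_inf.1 n.2).2)
      obtain ⟨k', hk'⟩ : ∃ k' : ℕ, y' ^ k = y' ^ k' := by
        have h5 : y' ^ k ∈ Submonoid.powers y' := by
          rw [mem_powers_iff_mem_zpowers]
          exact ⟨k, rfl⟩
        obtain ⟨k', hk'⟩ := h5
        exact ⟨k', hk'.symm⟩
      exact ⟨k', by
        have := congrArg (Subtype.val : M → Q) (hk.symm.trans hk')
        exact this⟩
    rw [Subgroup.mem_centralizer_iff]
    intro g hg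
    obtain ⟨j, rfl⟩ := Subgroup.mem_zpowers_iff.1 (show g ∈ Subgroup.zpowers y' from hg)
    have h5 : Commute y' n := Subtype.ext h4.symm
    exact (h5.zpow_left j).eq
  obtain ⟨K, hKdef⟩ : ∃ K, K = (MonoidHom.transferSylow P hP).ker := ⟨_, rfl⟩
  have hKn : K.Normal := by rw [hKdef]; infer_instance
  have hKs : ¬ s ∣ Nat.card K := by rw [hKdef]; exact MonoidHom.not_dvd_card_ker_transferSylow P hP
  have hKmem : ∀ g : M, g ∈ K ↔ ¬ s ∣ orderOf g := by
    intro g
    constructor
    · intro hg hd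
      apply hKs
      exact hd.trans (by rw [← Subgroup.orderOf_mk g hg]; exact _root_.orderOf_dvd_natCard _)
    · intro hg
      rw [hKdef, MonoidHom.mem_ker, ← orderOf_eq_one_iff]
      have h3 : orderOf (MonoidHom.transferSylow P hP g) ∣ orderOf g := orderOf_map_dvd _ g
      have h4 : orderOf (MonoidHom.transferSylow P hP g) ∣ s := by
        exact (_root_.orderOf_dvd_natCard (MonoidHom.transferSylow P hP g)).trans (dvd_of_eq hZc)
      rcases (Nat.dvd_prime hs).1 h4 with h5 | h5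
      · exact h5
      · exact absurd (h5 ▸ h3) hg
  have hKc : K.Characteristic := by
    rw [Subgroup.characteristic_iff_comap_eq]
    intro φ
    ext g
    rw [Subgroup.mem_comap, hKmem, hKmem]
    have : orderOf (φ g) = orderOf g := MulEquiv.orderOf_eq φ g
    show ¬ s ∣ orderOf (φ g) ↔ _
    rw [this]
  have hcompl : Nat.card K * s = Nat.card M := by
    have h3 := (MonoidHom.ker_transferSylow_isComplement' P hP).card_mul_card
    rw [← hKdef] at h3
    rw [← h3]
    congr 1
    exact hZc.symm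
  -- the subgroups normalised by `y`
  have hcount : ∀ (l : ℕ) (hl : l.Prime) (L : Subgroup Q), L ≤ M → IsPGroup l L → (∀ r ∈ L, y * r * y⁻¹ ∈ L) →
      ∃ j c : ℕ, Nat.card L = l ^ j ∧ l ^ j ∣ Nat.card A ∧
        l ^ c ∣ Nat.card (A ⊓ Subgroup.centralizer {y} : Subgroup Q) ∧ l ^ j ≡ l ^ c [MOD s] := by
    intro l hl L hLM hLp hLy
    have : Fact l.Prime := ⟨hl⟩
    obtain ⟨j, hj⟩ := IsPGroup.iff_card.1 hLp
    have h3 := card_modEq hs hys hLy
    obtain ⟨c, hc⟩ := IsPGroup.iff_card.1 (hLp.to_le (inf_le_left : L ⊓ Subgroup.centralizer {y} ≤ L))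
    refine ⟨j, c, hj, by rw [← hj]; exact Subgroup.card_dvd_of_le (hLM.trans hMA), ?_, ?_⟩
    · rw [← hc]
      exact Subgroup.card_dvd_of_le (inf_le_inf_right _ (hLM.trans hMA))
    · rw [hj, hc] at h3
      exact h3
  have hKQ : Nat.card (K.map M.subtype) = Nat.card K := (Nat.card_congr
    (K.equivMapOfInjective M.subtype M.subtype_injective).toEquiv).symm
  by_cases hK1 : K = ⊥
  · -- `M0 = Y` is abelian
    rw [hK1, Subgroup.card_bot, one_mul] at hcompl
    have h3 : ∀ g : M, g ∈ Subgroup.zpowers y' := by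
      intro g
      have h4 : Subgroup.zpowers y' = ⊤ := Subgroup.eq_top_of_card_eq _ (by rw [hZc, hcompl])
      rw [h4]; trivial
    obtain ⟨K', hK'A, hK'Γ, hK'1, hK'ab⟩ := h.abM0 x hx (by
      intro a ha b hb
      obtain ⟨i, hi⟩ := Subgroup.mem_zpowers_iff.1 (h3 ⟨a, ha⟩)
      obtain ⟨j, hj⟩ := Subgroup.mem_zpowers_iff.1 (h3 ⟨b, hb⟩)
      have h5 : (⟨a, ha⟩ : M) * ⟨b, hb⟩ = ⟨b, hb⟩ * ⟨a, ha⟩ := by
        rw [← hi, ← hj, ← zpow_add, ← zpow_add, add_comm]
      exact congrArg Subtype.val h5)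
    apply hK'1
    apply hab K' hK'A _ hK'ab
    intro a ha k hk
    have := hK'Γ (MulAut.conj a) ((h.conj a).2 ha) k hk
    rwa [MulAut.conj_apply] at this
  · -- `K` is an `e`-group
    have hKe : ∀ l : ℕ, l.Prime → l ∣ Nat.card K → l = e := by
      intro l hl hlK
      by_contra hle
      have : Fact l.Prime := ⟨hl⟩
      have hls : l ≠ s := fun h => hKs (h ▸ hlK)
      obtain ⟨R, hR⟩ := exists_inv_sylow hs hy' hKs l
      obtain ⟨j, c, hj, hjA, hcA, hjc⟩ := hcount l hl (((R : Subgroup K).map K.subtype).map M.subtype) (by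
        rintro _ ⟨g, _, rfl⟩; exact g.2) ((R.2.map K.subtype).map M.subtype) (by
        rintro _ ⟨_, ⟨r, hr, rfl⟩, rfl⟩
        exact ⟨_, ⟨_, hR r hr, rfl⟩, rfl⟩)
      have hj' : Nat.card (R : Subgroup K) = l ^ j := by
        rw [← hj, Subgroup.card_map_of_injective (Subgroup.subtype_injective _), Subgroup.card_map_of_injective (Subgroup.subtype_injective _)]
      have hj1 : 1 ≤ j := by
        by_contra hj0
        have : j = 0 := by omega
        rw [this, pow_zero] at hj'
        have h6 := R.card_eq_multiplicity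
        rw [hj'] at h6
        have h7 := (hl.dvd_iff_one_le_factorization Nat.card_pos.ne').1 hlK
        have h8 := Nat.one_lt_pow (by omega : (Nat.card K).factorization l ≠ 0) hl.one_lt
        omega
      exact h1 l j c hl hls hle hj1 hjA hcA hjc
    have hKp : IsPGroup e K := by
      apply IsPGroup.of_card (n := (Nat.card K).primeFactorsList.length)
      exact Nat.eq_prime_pow_of_unique_prime_dvd Nat.card_pos.ne' (fun {d} hd hdK => hKe d hd hdK)
    have hK1' : K.map M.subtype ≠ ⊥ := by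
      rw [Ne, Subgroup.map_eq_bot_iff_of_injective _ M.subtype_injective]
      exact hK1
    have hKyn : ∀ r ∈ K.map M.subtype, y * r * y⁻¹ ∈ K.map M.subtype := by
      rintro _ ⟨r, hr, rfl⟩
      exact ⟨y' * r * y'⁻¹, hKn.conj_mem r hr y', rfl⟩
    obtain ⟨j, c, hj, hjA, hcA, hjc⟩ := hcount e he (K.map M.subtype) (by
      rintro _ ⟨g, _, rfl⟩; exact g.2) (hKp.map M.subtype) hKyn
    refine h2 j c hjA ?_ hcA hjc
    intro hj1
    -- a larger `e`-subgroup
    have hcardA : Nat.card ((K.map M.subtype).subgroupOf A) = e ^ j := by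
      rw [← hj]
      exact Nat.card_congr (Subgroup.subgroupOfEquivOfLe (by
        rintro _ ⟨g, _, rfl⟩; exact hMA g.2)).toEquiv
    obtain ⟨T, hT, hTle⟩ := Sylow.exists_subgroup_card_pow_succ (G := A) hj1 hcardA
    have h9 := h.sylow hx he (R := K.map M.subtype) (P := T.map A.subtype) (by
      intro g
      constructor
      · rintro ⟨r, hr, rfl⟩
        refine ⟨r.2, ?_⟩
        obtain ⟨k, hk⟩ := hKp ⟨r, hr⟩
        exact ⟨k, congrArg (fun z : K => ((z : M) : Q)) hk⟩
      · rintro ⟨hg, k, hk⟩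
        refine ⟨⟨g, hg⟩, ?_, rfl⟩
        rw [SetLike.mem_coe, hKmem]
        intro hd
        have h10 : orderOf (⟨g, hg⟩ : M) ∣ e ^ k := by
          rw [Subgroup.orderOf_mk]
          exact orderOf_dvd_of_pow_eq_one hk
        exact hes ((Nat.prime_dvd_prime_iff_eq he hs).1 (by
          have h11 := (Nat.Prime.dvd_of_dvd_pow hs (hd.trans h10))
          rw [(Nat.prime_dvd_prime_iff_eq hs he).1 h11]))) hK1' (by
      rintro _ ⟨g, _, rfl⟩; exact g.2) ((IsPGroup.of_card hT).map A.subtype) (by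
      rintro _ ⟨r, hr, rfl⟩
      have h12 : (⟨r, hMA r.2⟩ : A) ∈ T := hTle (Subgroup.mem_subgroupOf.2 ⟨r, hr, rfl⟩)
      exact ⟨_, h12, rfl⟩)
    have h13 : Nat.card T = Nat.card (T.map A.subtype) :=
      (Subgroup.card_map_of_injective (Subgroup.subtype_injective _)).symm
    rw [h9, hT, hj] at h13
    have h14 := Nat.pow_right_injective he.two_le h13
    omega

end Cfsg.Agent.H901.EP
end

-- part: H901/EP/J2Facts
section
/-!
# S3499, row `J2` in `Sp6(q)`: facts on a group `A` with socle `J2` (helper901)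
-/

set_option autoImplicit false
set_option linter.unusedSectionVars false

namespace Cfsg.Agent.H901.EP

open Subgroup Cfsg.Agent.H284

theorem card_j2 {S : Type*} [Group S] (h : Cfsg.Spor.IsoJ2 S) : Nat.card S = 604800 := by
  obtain ⟨e⟩ := h
  rw [Nat.card_congr e.toEquiv]
  exact Cfsg.Agent.H109.Cov.card_j2

theorem conj_class {G : Type*} [Group G] [Finite G] {D : Subgroup G} {y : G} (hD : Nat.card D = 7)
    (hy : orderOf y = 7) (hyD : y ∈ D) (hc : ∀ g : G, g * y = y * g → g ∈ D)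
    (hN : Nat.card (normalizer (D : Set G)) = 42) : ∃ u : G, u * y * u⁻¹ = y ^ 3 := by
  classical
  have hz : Subgroup.zpowers y = D := by
    apply Subgroup.eq_of_le_of_card_ge
    · rw [Subgroup.zpowers_le]; exact hyD
    · rw [Nat.card_zpowers, hy, hD]
  let N := normalizer (D : Set G)
  let f : N → G := fun n => n * y * (n : G)⁻¹
  let O : Set G := Set.range f
  -- the fibres
  have hfib : ∀ n n' : N, f n = f n' → (n' : G)⁻¹ * n ∈ D := by
    intro n n' h
    apply hc
    have h1 : (n : G) * y * (n : G)⁻¹ = n' * y * (n' : G)⁻¹ := h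
    calc (n' : G)⁻¹ * n * y = (n' : G)⁻¹ * (n * y * (n : G)⁻¹) * n := by group
      _ = (n' : G)⁻¹ * (n' * y * (n' : G)⁻¹) * n := by rw [h1]
      _ = y * ((n' : G)⁻¹ * n) := by group
  by_contra hcon
  push Not at hcon
  have hO : O ⊆ ((D : Set G) \ {1, y ^ 3}) := by
    rintro _ ⟨n, rfl⟩
    refine ⟨?_, ?_⟩
    · exact (Subgroup.mem_normalizer_iff.1 n.2 y).1 hyD
    · simp only [Set.mem_insert_iff, Set.mem_singleton_iff, not_or]
      refine ⟨?_, hcon n⟩
      intro h
      have h1 : (n : G) * y * (n : G)⁻¹ = 1 := h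
      have h2 : y = 1 := by
        have : y = (n : G)⁻¹ * (n * y * (n : G)⁻¹) * n := by group
        rw [this, h1]; group
      rw [h2, orderOf_one] at hy
      omega
  have hDf : Finite D := Nat.finite_of_card_ne_zero (by rw [hD]; norm_num)
  have hOc : O.ncard ≤ 5 := by
    have h1 := Set.ncard_le_ncard hO (Set.toFinite _)
    have h2 : ((D : Set G) \ {1, y ^ 3}).ncard = 5 := by
      have hne : (1 : G) ≠ y ^ 3 := by
        intro h
        have := orderOf_dvd_of_pow_eq_one h.symm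
        rw [hy] at this
        omega
      rw [Set.ncard_sdiff (by
        intro g hg
        simp only [Set.mem_insert_iff, Set.mem_singleton_iff] at hg
        rcases hg with rfl | rfl
        · exact D.one_mem
        · exact D.pow_mem hyD 3), Set.ncard_pair hne]
      have : (D : Set G).ncard = 7 := hD
      rw [this]
    omega
  -- choose representatives
  have hOfin : Finite O := Set.toFinite O
  choose r hr using fun o : O => o.2
  have hle : Nat.card N ≤ Nat.card (O × D) := by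
    refine Nat.card_le_card_of_injective (fun n : N => ((⟨f n, ⟨n, rfl⟩⟩ : O),
      (⟨((r ⟨f n, ⟨n, rfl⟩⟩ : N) : G)⁻¹ * n, hfib _ _ (hr ⟨f n, ⟨n, rfl⟩⟩).symm⟩ : D))) ?_
    intro n n' h
    simp only [Prod.mk.injEq, Subtype.mk.injEq] at h
    obtain ⟨h1, h2⟩ := h
    apply Subtype.ext
    have h3 : (⟨f n, ⟨n, rfl⟩⟩ : O) = ⟨f n', ⟨n', rfl⟩⟩ := h1
    rw [h3] at h2
    exact mul_left_cancel h2
  rw [hN, Nat.card_prod, hD] at hle
  have hOc' : Nat.card O ≤ 5 := hOc
  omega

/-- an element of order 7 of `J2` -/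
theorem exists_seven {S : Type*} [Group S] [Finite S] (h : Cfsg.Spor.IsoJ2 S) :
    ∃ y u : S, orderOf y = 7 ∧ (∀ g : S, g * y = y * g → g ∈ Subgroup.zpowers y) ∧ u * y * u⁻¹ = y ^ 3 := by
  have : Fact (Nat.Prime 7) := ⟨by norm_num⟩
  obtain ⟨e⟩ := h
  have hfin : Finite Cfsg.Spor.J2 := Finite.of_equiv _ e.toEquiv
  obtain ⟨t, u, Q, v, ρ, D⟩ := Cfsg.Agent.KFacts.J2.Basic.exists_dat
  have hG : Nat.card Cfsg.Spor.J2 = 604800 := Cfsg.Agent.J2Type.Order.card_of_fus D.F
  obtain ⟨P⟩ : Nonempty (Sylow 7 Cfsg.Spor.J2) := inferInstance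
  obtain ⟨h1, h2, -⟩ := Cfsg.Agent.J2Type.SylowSeven.sylow_seven hG (Cfsg.Agent.J2Type.ThreeF.not_seven_dvd_two D.F)
    (Cfsg.Agent.J2Type.ThreeF.not_seven_dvd_three D.F) P
  have hP : Nat.card (P : Subgroup Cfsg.Spor.J2) = 7 := by
    rw [P.card_eq_multiplicity, hG]
    have : (604800 : ℕ).factorization 7 = 1 := by
      rw [show (604800 : ℕ) = 7 * 86400 by norm_num, Nat.factorization_mul (by norm_num) (by norm_num),
        Finsupp.add_apply, (by norm_num : Nat.Prime 7).factorization_self,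
        Nat.factorization_eq_zero_of_not_dvd (by norm_num)]
    rw [this, pow_one]
  have hcyc : IsCyclic (P : Subgroup Cfsg.Spor.J2) := isCyclic_of_prime_card hP
  obtain ⟨⟨x, hxP⟩, hx⟩ := hcyc.exists_generator
  have hx7 : orderOf x = 7 := by
    rw [← hP, ← orderOf_eq_card_of_forall_mem_zpowers hx]
    exact (Subgroup.orderOf_mk x hxP).symm
  have hz : Subgroup.zpowers x = (P : Subgroup Cfsg.Spor.J2) := by
    apply Subgroup.eq_of_le_of_card_ge
    · rw [Subgroup.zpowers_le]; exact hxP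
    · rw [Nat.card_zpowers, hx7, hP]
  have hc : ∀ g, g * x = x * g → g ∈ (P : Subgroup Cfsg.Spor.J2) := by
    intro g hg
    rw [← h1, Subgroup.mem_centralizer_iff]
    intro k hk
    rw [← hz] at hk
    obtain ⟨j, rfl⟩ := Subgroup.mem_zpowers_iff.1 hk
    have : Commute g x := hg
    exact (this.symm.zpow_left j).eq
  obtain ⟨w, hw⟩ := conj_class hP hx7 hxP hc h2
  refine ⟨e.symm x, e.symm w, ?_, ?_, ?_⟩
  · rw [← hx7]; exact MulEquiv.orderOf_eq e.symm x
  · intro g hg
    have h3 : e g * x = x * e g := by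
      have := congrArg e hg
      rw [map_mul, map_mul, e.apply_symm_apply] at this
      exact this
    have h4 := hc _ h3
    rw [← hz] at h4
    obtain ⟨j, hj⟩ := Subgroup.mem_zpowers_iff.1 h4
    refine Subgroup.mem_zpowers_iff.2 ⟨j, ?_⟩
    apply e.injective
    rw [map_zpow, e.apply_symm_apply, hj]
  · apply e.injective
    rw [map_mul, map_mul, map_inv, map_pow, e.apply_symm_apply, e.apply_symm_apply, hw]

/-- facts on a group with socle `J2` -/
theorem facts {Q : Type*} [Group Q] [Finite Q] {A N : Subgroup Q} (hNA : N ≤ A)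
    (hN : ∀ a ∈ A, ∀ n ∈ N, a * n * a⁻¹ ∈ N) (hC : ∀ a ∈ A, (∀ n ∈ N, a * n = n * a) → a = 1)
    (hJ : Cfsg.Spor.IsoJ2 N) :
    ∃ y u : Q, y ∈ N ∧ u ∈ N ∧ orderOf y = 7 ∧ u * y * u⁻¹ = y ^ 3 ∧
      (∀ g ∈ N, g * y = y * g → g ∈ Subgroup.zpowers y) ∧
      ((Nat.card A = 604800 ∧ Nat.card (A ⊓ Subgroup.centralizer {y} : Subgroup Q) = 7) ∨
        (Nat.card A = 1209600 ∧ Nat.card (A ⊓ Subgroup.centralizer {y} : Subgroup Q) ∣ 14)) := by
  obtain ⟨y, u, hy, hc, hu⟩ := exists_seven hJ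
  have hcN := card_j2 hJ
  have hy' : orderOf (y : Q) = 7 := by rw [Subgroup.orderOf_coe, hy]
  have hcN' : ∀ g ∈ N, g * (y : Q) = y * g → g ∈ Subgroup.zpowers (y : Q) := by
    intro g hg hgy
    obtain ⟨j, hj⟩ := Subgroup.mem_zpowers_iff.1 (hc ⟨g, hg⟩ (Subtype.ext hgy))
    exact Subgroup.mem_zpowers_iff.2 ⟨j, by rw [← Subgroup.coe_zpow, hj]⟩
  -- the group `A`
  let N' : Subgroup A := N.subgroupOf A
  have hN' : N'.Normal := ⟨fun n hn a => hN a a.2 n hn⟩
  let eN : N' ≃* N := Subgroup.subgroupOfEquivOfLe hNA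
  have hJ' : Cfsg.Spor.IsoJ2 N' := by
    obtain ⟨e⟩ := hJ
    exact ⟨eN.trans e⟩
  have hcardN' : Nat.card N' = 604800 := card_j2 hJ'
  have h1 : Nat.card A ∣ 1209600 := by
    refine dvd_trans ?_ (Cfsg.Agent.H109.Cov.aut_j2 hJ')
    have hinj : Function.Injective (MulAut.conjNormal (H := N')) := by
      rw [injective_iff_map_eq_one]
      intro a ha
      apply Subtype.ext
      apply hC a a.2
      intro n hn
      have h2 : MulAut.conjNormal a (⟨⟨n, hNA hn⟩, hn⟩ : N') = ⟨⟨n, hNA hn⟩, hn⟩ := by rw [ha]; rfl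
      have h3 : (a : Q) * n * (a : Q)⁻¹ = n := congrArg (fun z : N' => ((z : A) : Q)) h2
      exact mul_inv_eq_iff_eq_mul.1 h3
    exact Subgroup.card_dvd_of_injective _ hinj
  have h2 : 604800 ∣ Nat.card A := by rw [← hcN]; exact Subgroup.card_dvd_of_le hNA
  have h3 : Nat.card A = 604800 ∨ Nat.card A = 1209600 := by
    obtain ⟨a, ha⟩ := h2
    obtain ⟨b, hb⟩ := h1
    rw [ha] at hb
    have h4 : a * b = 2 := by linarith only [hb]
    have ha2 : a ∣ 2 := ⟨b, h4.symm⟩
    rcases (Nat.dvd_prime Nat.prime_two).1 ha2 with rfl | rfl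
    · left; rw [ha]
    · right; rw [ha]
  -- the centralizer
  let yA : A := ⟨y, hNA y.2⟩
  have hCc : Nat.card (A ⊓ Subgroup.centralizer {(y : Q)} : Subgroup Q) =
      Nat.card (Subgroup.centralizer ({yA} : Set A)) := by
    refine Nat.card_congr ⟨fun g => ⟨⟨g.1, g.2.1⟩, Subgroup.mem_centralizer_singleton_iff.2
      (Subtype.ext (Subgroup.mem_centralizer_singleton_iff.1 g.2.2))⟩, fun g => ⟨g.1.1, g.1.2,
      Subgroup.mem_centralizer_singleton_iff.2 (congrArg Subtype.val (Subgroup.mem_centralizer_singleton_iff.1 g.2))⟩,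
      fun g => rfl, fun g => rfl⟩
  let C' := Subgroup.centralizer ({yA} : Set A)
  have h5 : Nat.card (N' ⊓ C' : Subgroup A) = 7 := by
    have h6 : (N' ⊓ C' : Subgroup A) = Subgroup.zpowers yA := by
      apply le_antisymm
      · intro g hg
        obtain ⟨j, hj⟩ := Subgroup.mem_zpowers_iff.1 (hcN' g hg.1
          (congrArg Subtype.val (Subgroup.mem_centralizer_singleton_iff.1 hg.2)))
        exact Subgroup.mem_zpowers_iff.2 ⟨j, Subtype.ext hj⟩
      · rw [Subgroup.zpowers_le]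
        exact ⟨y.2, Subgroup.mem_centralizer_singleton_iff.2 rfl⟩
    rw [h6, Nat.card_zpowers, ← hy']
    exact Subgroup.orderOf_mk _ _
  have h6 : Nat.card C' = 7 * N'.relIndex C' := by
    have h7 := Subgroup.relIndex_mul_relIndex ⊥ (N' ⊓ C') C' bot_le inf_le_right
    rw [Subgroup.relIndex_bot_left, Subgroup.relIndex_bot_left, h5, Subgroup.inf_relIndex_right] at h7
    exact h7.symm
  have h7 : N'.relIndex C' ∣ N'.index := Subgroup.relIndex_dvd_index_of_normal N' C'
  have h8 : 604800 * N'.index = Nat.card A := by rw [← hcardN']; exact N'.card_mul_index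
  refine ⟨y, u, y.2, u.2, hy', ?_, hcN', ?_⟩
  · have := congrArg Subtype.val hu
    exact this
  · rw [hCc]
    rcases h3 with h3 | h3
    · left
      refine ⟨h3, ?_⟩
      rw [h3] at h8
      have h9 : N'.index = 1 := by omega
      rw [h9, Nat.dvd_one] at h7
      show Nat.card C' = 7
      rw [h6, h7]
    · right
      refine ⟨h3, ?_⟩
      rw [h3] at h8
      have h9 : N'.index = 2 := by omega
      rw [h9] at h7
      show Nat.card C' ∣ 14
      rw [h6]
      exact Nat.mul_dvd_mul_left 7 h7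

end Cfsg.Agent.H901.EP
end

-- part: H901/EP/Eig
section
/-!
# S3499, row `J2` in `Sp6(q)`: a matrix `Y` of order 7 conjugate to `Y ^ 3` in dimension 6 (helper901)
-/

set_option autoImplicit false
set_option linter.unusedSectionVars false

open Polynomial Matrix

namespace Cfsg.Agent.H901.EP

variable {F : Type*} [Field F] {K : Type*} [Field K] [Algebra F K] {I : Type*} [Fintype I] [DecidableEq I]

/-- the matrix over `K` -/
abbrev mpK (K : Type*) [Field K] [Algebra F K] (B : Matrix I I F) : Matrix I I K := B.map (algebraMap F K)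

theorem mk_mul (A B : Matrix I I F) : mpK K (A * B) = mpK K A * mpK K B := Matrix.map_mul

theorem mk_one : mpK K (1 : Matrix I I F) = 1 := Matrix.map_one _ (map_zero _) (map_one _)

theorem mk_pow (A : Matrix I I F) (n : ℕ) : mpK K (A ^ n) = mpK K A ^ n := by
  induction n with
  | zero => rw [pow_zero, pow_zero, mk_one]
  | succ n ih => rw [pow_succ, pow_succ, mk_mul, ih]

theorem mk_inj : Function.Injective (mpK K : Matrix I I F → Matrix I I K) :=
  Matrix.map_injective (algebraMap F K).injective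

theorem mk_aeval (A : Matrix I I F) (f : F[X]) : mpK K (aeval A f) = aeval (mpK K A) (f.map (algebraMap F K)) := by
  induction f using Polynomial.induction_on' with
  | add f g hf hg =>
    rw [map_add, Polynomial.map_add, map_add, ← hf, ← hg]
    exact Matrix.map_add _ (map_add _) _ _
  | monomial n a =>
    rw [Polynomial.map_monomial, aeval_monomial, aeval_monomial, mk_mul, mk_pow]
    congr 1
    ext i j
    simp [Matrix.algebraMap_matrix_apply, apply_ite (algebraMap F K)]

/-- polynomials act on eigenvectors -/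
theorem aeval_mulVec {A : Matrix I I K} {v : I → K} {μ : K} (hv : A *ᵥ v = μ • v) (f : K[X]) :
    aeval A f *ᵥ v = (f.eval μ) • v := by
  induction f using Polynomial.induction_on' with
  | add f g hf hg => rw [map_add, Matrix.add_mulVec, hf, hg, eval_add, add_smul]
  | monomial n a =>
    have h1 : ∀ n : ℕ, A ^ n *ᵥ v = μ ^ n • v := by
      intro n
      induction n with
      | zero => rw [pow_zero, pow_zero, Matrix.one_mulVec, one_smul]
      | succ n ih => rw [pow_succ, ← Matrix.mulVec_mulVec, hv, Matrix.mulVec_smul, ih, smul_smul, pow_succ, mul_comm]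
    rw [aeval_monomial, ← Matrix.mulVec_mulVec, h1, eval_monomial, ← smul_smul, Algebra.algebraMap_eq_smul_one,
      Matrix.smul_mulVec, Matrix.one_mulVec]

theorem aeval_mk_mulVec {A : Matrix I I F} {v : I → K} {μ : K} (hv : mpK K A *ᵥ v = μ • v) (f : F[X]) :
    mpK K (aeval A f) *ᵥ v = (aeval μ f) • v := by
  rw [mk_aeval, aeval_mulVec hv, Polynomial.eval_map_algebraMap]

theorem aeval_eq_zero_of {A : Matrix I I F} {v : I → K} {μ : K} (hv : mpK K A *ᵥ v = μ • v) (hv0 : v ≠ 0) {f : F[X]}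
    (hf : aeval A f = 0) : aeval μ f = 0 := by
  have h1 := aeval_mk_mulVec hv f
  rw [hf] at h1
  have h2 : mpK K (0 : Matrix I I F) = 0 := Matrix.map_zero _ (map_zero _)
  rw [h2, Matrix.zero_mulVec] at h1
  exact (smul_eq_zero.1 h1.symm).resolve_right hv0

/-- an eigenvector for a nontrivial 7-th root of unity -/
theorem exists_eig [IsAlgClosed K] {Y : Matrix I I F} (hY : Y ^ 7 = 1) (hne : Y ≠ 1) (h7 : (7 : F) ≠ 0) :
    ∃ (ζ : K) (v : I → K), v ≠ 0 ∧ ζ ^ 7 = 1 ∧ ζ ≠ 1 ∧ mpK K Y *ᵥ v = ζ • v := by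
  let T : Module.End K (I → K) := Matrix.toLin' (mpK K Y)
  have hT : ∀ x, T x = mpK K Y *ᵥ x := fun x => Matrix.toLin'_apply _ _
  have hTp : ∀ (n : ℕ) (x : I → K), (T ^ n) x = mpK K (Y ^ n) *ᵥ x := by
    intro n
    induction n with
    | zero => intro x; rw [pow_zero, pow_zero, mk_one, Matrix.one_mulVec]; rfl
    | succ n ih => intro x; rw [pow_succ, Module.End.mul_apply, ih, hT, Matrix.mulVec_mulVec, ← mk_mul, ← pow_succ]
  let W : Submodule K (I → K) := LinearMap.range (T - 1)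
  have hW : ∀ x ∈ W, T x ∈ W := by
    rintro _ ⟨x, rfl⟩
    refine ⟨T x, ?_⟩
    simp only [LinearMap.sub_apply, Module.End.one_apply, map_sub]
  have hW1 : W ≠ ⊥ := by
    intro h
    apply hne
    apply mk_inj (K := K)
    rw [mk_one]
    apply Matrix.ext_of_mulVec_single
    intro i
    have h1 : (T - 1) (Pi.single i 1) ∈ W := ⟨_, rfl⟩
    rw [h, Submodule.mem_bot, LinearMap.sub_apply, Module.End.one_apply, sub_eq_zero, hT] at h1
    rw [h1, Matrix.one_mulVec]
  have : Nontrivial W := Submodule.nontrivial_iff_ne_bot.2 hW1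
  obtain ⟨μ, hμ⟩ := Module.End.exists_eigenvalue (K := K) (T.restrict hW)
  obtain ⟨v, hv⟩ := hμ.exists_hasEigenvector
  have hv1 : T v = μ • (v : I → K) := by
    have := hv.apply_eq_smul
    exact congrArg Subtype.val this
  have hv0 : (v : I → K) ≠ 0 := fun h => hv.2 (Subtype.ext h)
  have hvp : ∀ n : ℕ, (T ^ n) v = μ ^ n • (v : I → K) := by
    intro n
    induction n with
    | zero => rw [pow_zero, pow_zero, one_smul]; rfl
    | succ n ih => rw [pow_succ, Module.End.mul_apply, hv1, map_smul, ih, smul_smul, pow_succ, mul_comm]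
  have hμ7 : μ ^ 7 = 1 := by
    have h1 := hvp 7
    rw [hTp, hY, mk_one, Matrix.one_mulVec] at h1
    have h2 : (μ ^ 7 - 1) • (v : I → K) = 0 := by rw [sub_smul, one_smul, ← h1, sub_self]
    exact sub_eq_zero.1 ((smul_eq_zero.1 h2).resolve_right hv0)
  refine ⟨μ, v, hv0, hμ7, ?_, by rw [← hT]; exact hv1⟩
  rintro rfl
  obtain ⟨x, hx⟩ := v.2
  have hx1 : T x = x + (v : I → K) := by
    rw [← hx]
    simp
  have hxp : ∀ n : ℕ, (T ^ n) x = x + (n : K) • (v : I → K) := by
    intro n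
    induction n with
    | zero => rw [pow_zero, Nat.cast_zero, zero_smul, add_zero]; rfl
    | succ n ih =>
      rw [pow_succ', Module.End.mul_apply, ih, map_add, map_smul, hx1, hv1, one_smul, Nat.cast_succ, add_smul, one_smul]
      abel
  have h1 := hxp 7
  rw [hTp, hY, mk_one, Matrix.one_mulVec] at h1
  have h2 : ((7 : ℕ) : K) • (v : I → K) = 0 := by
    have h3 : x + ((7 : ℕ) : K) • (v : I → K) = x + 0 := by rw [add_zero]; exact h1.symm
    exact add_left_cancel h3
  rcases smul_eq_zero.1 h2 with h3 | h3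
  · apply h7
    apply (algebraMap F K).injective
    rw [map_zero]
    have h4 : (algebraMap F K) ((7 : ℕ) : F) = ((7 : ℕ) : K) := map_natCast _ _
    have h5 : (7 : F) = ((7 : ℕ) : F) := by norm_num
    rw [h5, h4, h3]
  · exact hv0 h3

/-- the eigenvectors for `ζ ^ (3 ^ i)` -/
theorem eig_three {Y w w' : Matrix I I F} (hw : w * w' = 1) (hw2 : w' * w = 1) (hwY : w * Y * w' = Y ^ 3) {ζ : K}
    {v : I → K} (hv0 : v ≠ 0) (hv : mpK K Y *ᵥ v = ζ • v) :
    mpK K w' *ᵥ v ≠ 0 ∧ mpK K Y *ᵥ (mpK K w' *ᵥ v) = ζ ^ 3 • (mpK K w' *ᵥ v) := by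
  constructor
  · intro h
    apply hv0
    have : mpK K w *ᵥ (mpK K w' *ᵥ v) = v := by
      rw [Matrix.mulVec_mulVec, ← mk_mul, hw, mk_one, Matrix.one_mulVec]
    rw [← this, h, Matrix.mulVec_zero]
  · have h1 : Y * w' = w' * Y ^ 3 := by
      rw [← hwY, ← mul_assoc, ← mul_assoc, hw2, one_mul]
    have h2 : mpK K (Y ^ 3) *ᵥ v = ζ ^ 3 • v := by
      have := aeval_mk_mulVec hv (X ^ 3)
      rw [map_pow, aeval_X, map_pow, aeval_X] at this
      exact this
    rw [Matrix.mulVec_mulVec, ← mk_mul, h1, mk_mul, ← Matrix.mulVec_mulVec, h2, Matrix.mulVec_smul]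

/-- the data of a matrix of order 7 with the six eigenvalues `ζ, …, ζ ^ 6` over `K` -/
structure Sev (K : Type*) [Field K] [Algebra F K] (Y : Matrix I I F) (ζ : K) : Prop where
  pow : Y ^ 7 = 1
  ne : ζ ≠ 1
  seven : ζ ^ 7 = 1
  eig : ∀ j : ℕ, ¬ 7 ∣ j → ∃ v : I → K, v ≠ 0 ∧ mpK K Y *ᵥ v = ζ ^ j • v

theorem exists_sev [IsAlgClosed K] {Y w w' : Matrix I I F} (hY : Y ^ 7 = 1) (hne : Y ≠ 1) (h7 : (7 : F) ≠ 0)
    (hw : w * w' = 1) (hw2 : w' * w = 1) (hwY : w * Y * w' = Y ^ 3) : ∃ ζ : K, Sev K Y ζ := by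
  obtain ⟨ζ, v, hv0, hζ7, hζ1, hv⟩ := exists_eig (K := K) hY hne h7
  have hstep : ∀ i : ℕ, ∃ v : I → K, v ≠ 0 ∧ mpK K Y *ᵥ v = ζ ^ (3 ^ i) • v := by
    intro i
    induction i with
    | zero => exact ⟨v, hv0, by rw [pow_zero, pow_one]; exact hv⟩
    | succ i ih =>
      obtain ⟨v', hv', h'⟩ := ih
      obtain ⟨h1, h2⟩ := eig_three hw hw2 hwY hv' h'
      exact ⟨_, h1, by rw [h2, ← pow_mul, pow_succ]⟩
  have hmod : ∀ a b : ℕ, a % 7 = b % 7 → ζ ^ a = ζ ^ b := by
    intro a b hab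
    rw [← Nat.div_add_mod a 7, ← Nat.div_add_mod b 7, pow_add, pow_add, pow_mul, pow_mul, hζ7, one_pow, one_pow, hab]
  refine ⟨ζ, hY, hζ1, hζ7, fun j hj => ?_⟩
  have h1 : j % 7 = 1 ∨ j % 7 = 2 ∨ j % 7 = 3 ∨ j % 7 = 4 ∨ j % 7 = 5 ∨ j % 7 = 6 := by omega
  rcases h1 with h | h | h | h | h | h
  · obtain ⟨v, h2, h3⟩ := hstep 0
    exact ⟨v, h2, by rw [h3, hmod j (3 ^ 0) (by rw [h]; norm_num)]⟩
  · obtain ⟨v, h2, h3⟩ := hstep 2
    exact ⟨v, h2, by rw [h3, hmod j (3 ^ 2) (by rw [h]; norm_num)]⟩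
  · obtain ⟨v, h2, h3⟩ := hstep 1
    exact ⟨v, h2, by rw [h3, hmod j (3 ^ 1) (by rw [h]; norm_num)]⟩
  · obtain ⟨v, h2, h3⟩ := hstep 4
    exact ⟨v, h2, by rw [h3, hmod j (3 ^ 4) (by rw [h]; norm_num)]⟩
  · obtain ⟨v, h2, h3⟩ := hstep 5
    exact ⟨v, h2, by rw [h3, hmod j (3 ^ 5) (by rw [h]; norm_num)]⟩
  · obtain ⟨v, h2, h3⟩ := hstep 3
    exact ⟨v, h2, by rw [h3, hmod j (3 ^ 3) (by rw [h]; norm_num)]⟩

namespace Sev

variable {Y : Matrix I I F} {ζ : K} (h : Sev K Y ζ)
include h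

theorem orderOf : _root_.orderOf ζ = 7 := by
  have : Fact (Nat.Prime 7) := ⟨by norm_num⟩
  exact orderOf_eq_prime h.seven h.ne

theorem pow_inj {a b : ℕ} (hab : ζ ^ a = ζ ^ b) : a % 7 = b % 7 := by
  have h0 : ζ ≠ 0 := by
    rintro rfl
    have := h.seven
    rw [zero_pow (by norm_num)] at this
    exact zero_ne_one this
  have h2 : (Units.mk0 ζ h0) ^ a = (Units.mk0 ζ h0) ^ b := Units.ext (by
    rw [Units.val_pow_eq_pow_val, Units.val_pow_eq_pow_val, Units.val_mk0]; exact hab)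
  have h1 := pow_inj_mod.1 h2
  have h3 : _root_.orderOf (Units.mk0 ζ h0) = 7 := by
    rw [← orderOf_units, Units.val_mk0]; exact h.orderOf
  rw [h3] at h1
  exact h1

theorem hmod {a b : ℕ} (hab : a % 7 = b % 7) : ζ ^ a = ζ ^ b := by
  rw [← Nat.div_add_mod a 7, ← Nat.div_add_mod b 7, pow_add, pow_add, pow_mul, pow_mul, h.seven, one_pow, one_pow, hab]

/-- values of polynomials -/
theorem val {f : F[X]} (hf : aeval Y f = 0) {j : ℕ} (hj : ¬ 7 ∣ j) : aeval (ζ ^ j) f = 0 := by
  obtain ⟨v, hv0, hv⟩ := h.eig j hj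
  exact aeval_eq_zero_of hv hv0 hf

theorem val_eq {f g : F[X]} (hfg : aeval Y f = aeval Y g) {j : ℕ} (hj : ¬ 7 ∣ j) : aeval (ζ ^ j) f = aeval (ζ ^ j) g := by
  have h1 := h.val (f := f - g) (by rw [map_sub, hfg, sub_self]) hj
  rw [map_sub] at h1
  exact sub_eq_zero.1 h1

/-- six values in dimension 6: `Y` has no fixed vectors, `1 + Y + … + Y ^ 6 = 0` -/
theorem geom (hI : Fintype.card I = 6) : ∑ i ∈ Finset.range 7, Y ^ i = 0 := by
  -- no fixed vectors
  have hdet : (Y - 1).det ≠ 0 := by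
    intro hdet
    obtain ⟨x, hx0, hx⟩ := Matrix.exists_mulVec_eq_zero_iff.2 hdet
    have hx1 : Y *ᵥ x = x := by
      rw [Matrix.sub_mulVec, Matrix.one_mulVec] at hx
      exact sub_eq_zero.1 hx
    let T : Module.End K (I → K) := Matrix.toLin' (mpK K Y)
    have hev : ∀ i : Fin 7, ∃ v : I → K, T.HasEigenvector (ζ ^ (i : ℕ)) v := by
      intro i
      by_cases hi : 7 ∣ (i : ℕ)
      · have hi0 : (i : ℕ) = 0 := by have := i.2; omega
        refine ⟨fun k => algebraMap F K (x k), ?_, ?_⟩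
        · rw [hi0, pow_zero, Module.End.mem_eigenspace_iff, one_smul, Matrix.toLin'_apply]
          funext k
          have h1 := congrFun hx1 k
          show ∑ l, algebraMap F K (Y k l) * algebraMap F K (x l) = algebraMap F K (x k)
          rw [← h1]
          show _ = algebraMap F K (∑ l, Y k l * x l)
          rw [map_sum]
          exact Finset.sum_congr rfl fun l _ => (map_mul _ _ _).symm
        · intro h1
          apply hx0
          funext k
          exact (algebraMap F K).injective ((congrFun h1 k).trans (map_zero _).symm)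
      · obtain ⟨v, hv0, hv⟩ := h.eig i hi
        exact ⟨v, by rw [Module.End.mem_eigenspace_iff, Matrix.toLin'_apply]; exact hv, hv0⟩
    choose v hv using hev
    have hli := Module.End.eigenvectors_linearIndependent' T (fun i : Fin 7 => ζ ^ (i : ℕ)) (by
      intro i j hij
      have := h.pow_inj hij
      apply Fin.ext
      omega) v hv
    have h2 := hli.fintype_card_le_finrank
    rw [Module.finrank_fintype_fun_eq_card, hI, Fintype.card_fin] at h2
    omega
  have h1 : (∑ i ∈ Finset.range 7, Y ^ i) * (Y - 1) = 0 := by rw [geom_sum_mul, h.pow, sub_self]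
  have hu : IsUnit (Y - 1) := (Matrix.isUnit_iff_isUnit_det _).2 (isUnit_iff_ne_zero.2 hdet)
  exact (hu.mul_left_eq_zero).1 h1

/-- a polynomial of degree at most 5 with the six zeros is zero -/
theorem eq_zero_of_degree {f : F[X]} (hd : f.degree < 6) (hf : ∀ j : ℕ, ¬ 7 ∣ j → aeval (ζ ^ j) f = 0) : f = 0 := by
  classical
  by_contra hf0
  have h1 : (f.map (algebraMap F K)) ≠ 0 := (Polynomial.map_ne_zero_iff (algebraMap F K).injective).2 hf0
  have h2 := Polynomial.card_roots h1
  have h3 : ((Finset.range 6).image fun i => ζ ^ (i + 1)) ⊆ (f.map (algebraMap F K)).roots.toFinset := by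
    intro z hz
    obtain ⟨i, hi, rfl⟩ := Finset.mem_image.1 hz
    rw [Multiset.mem_toFinset, Polynomial.mem_roots h1, Polynomial.IsRoot, Polynomial.eval_map_algebraMap]
    have := Finset.mem_range.1 hi
    exact hf _ (by omega)
  have h4 := Finset.card_le_card h3
  rw [Finset.card_image_of_injOn (by
    intro a ha b hb hab
    have h5 := h.pow_inj hab
    have h6 := Finset.mem_range.1 (Finset.mem_coe.1 ha)
    have h7 := Finset.mem_range.1 (Finset.mem_coe.1 hb)
    omega), Finset.card_range] at h4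
  have h5 := Multiset.toFinset_card_le (f.map (algebraMap F K)).roots
  have h6 : ((f.map (algebraMap F K)).degree) < 6 := by
    rw [Polynomial.degree_map]; exact hd
  have h7 : (6 : WithBot ℕ) ≤ (f.map (algebraMap F K)).degree := by
    refine le_trans ?_ h2
    exact_mod_cast h4.trans h5
  exact absurd (lt_of_lt_of_le h6 h7) (lt_irrefl _)

/-- the polynomial `1 + X + … + X ^ 6` -/
theorem phi_val {j : ℕ} (hj : ¬ 7 ∣ j) : aeval (ζ ^ j) (∑ i ∈ Finset.range 7, (X : F[X]) ^ i) = 0 := by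
  rw [map_sum]
  simp only [map_pow, aeval_X]
  have h1 : (∑ i ∈ Finset.range 7, (ζ ^ j) ^ i) * (ζ ^ j - 1) = 0 := by
    rw [geom_sum_mul, ← pow_mul, mul_comm, pow_mul, h.seven, one_pow, sub_self]
  refine (mul_eq_zero.1 h1).resolve_right ?_
  intro h2
  rw [sub_eq_zero] at h2
  have h3 := h.pow_inj (a := j) (b := 0) (by rw [h2, pow_zero])
  omega

/-- reduction to degree at most 5 -/
theorem exists_low (hI : Fintype.card I = 6) (f : F[X]) : ∃ g : F[X], g.degree < 6 ∧ aeval Y f = aeval Y g ∧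
    ∀ j : ℕ, ¬ 7 ∣ j → aeval (ζ ^ j) f = aeval (ζ ^ j) g := by
  have hm : (∑ i ∈ Finset.range 7, (X : F[X]) ^ i).Monic := Polynomial.monic_geom_sum_X (by norm_num)
  have hY : aeval Y (∑ i ∈ Finset.range 7, (X : F[X]) ^ i) = 0 := by
    rw [map_sum, ← h.geom hI]
    simp only [map_pow, aeval_X]
  refine ⟨f %ₘ (∑ i ∈ Finset.range 7, (X : F[X]) ^ i), ?_, ?_, ?_⟩
  · refine lt_of_lt_of_le (Polynomial.degree_modByMonic_lt _ hm) ?_
    refine le_trans Polynomial.degree_le_natDegree ?_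
    have h1 : (∑ i ∈ Finset.range 7, (X : F[X]) ^ i).natDegree ≤ 6 := by
      refine Polynomial.natDegree_sum_le_of_forall_le _ _ fun i hi => ?_
      rw [Polynomial.natDegree_X_pow]
      have := Finset.mem_range.1 hi
      omega
    exact_mod_cast h1
  · conv_lhs => rw [← Polynomial.modByMonic_add_div f (∑ i ∈ Finset.range 7, (X : F[X]) ^ i)]
    rw [map_add, map_mul, hY, zero_mul, add_zero]
  · intro j hj
    conv_lhs => rw [← Polynomial.modByMonic_add_div f (∑ i ∈ Finset.range 7, (X : F[X]) ^ i)]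
    rw [map_add, map_mul, h.phi_val hj, zero_mul, add_zero]

/-- a polynomial in `Y` is determined by its six values -/
theorem eq_of_val (hI : Fintype.card I = 6) {f g : F[X]} (hfg : ∀ j : ℕ, ¬ 7 ∣ j → aeval (ζ ^ j) f = aeval (ζ ^ j) g) :
    aeval Y f = aeval Y g := by
  obtain ⟨k, hkd, hk, hkv⟩ := h.exists_low hI (f - g)
  have h1 : k = 0 := by
    apply h.eq_zero_of_degree hkd
    intro j hj
    rw [← hkv j hj, map_sub, hfg j hj, sub_self]
  rw [h1, map_zero, map_sub] at hk
  exact sub_eq_zero.1 hk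

/-- a polynomial in `Y` which takes the same value everywhere is a scalar -/
theorem scalar_of_val (hI : Fintype.card I = 6) {f : F[X]} {b : K} (hfb : ∀ j : ℕ, ¬ 7 ∣ j → aeval (ζ ^ j) f = b) :
    ∃ c : F, b = algebraMap F K c := by
  obtain ⟨k, hkd, -, hkv⟩ := h.exists_low hI f
  -- `k - k(ζ)` has six roots over `K`
  have h1 : (k.map (algebraMap F K) - C b) = 0 := by
    classical
    by_contra hf0
    have h2 := Polynomial.card_roots hf0
    have h3 : ((Finset.range 6).image fun i => ζ ^ (i + 1)) ⊆ (k.map (algebraMap F K) - C b).roots.toFinset := by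
      intro z hz
      obtain ⟨i, hi, rfl⟩ := Finset.mem_image.1 hz
      have := Finset.mem_range.1 hi
      rw [Multiset.mem_toFinset, Polynomial.mem_roots hf0, Polynomial.IsRoot, Polynomial.eval_sub,
        Polynomial.eval_map_algebraMap, Polynomial.eval_C, ← hkv _ (by omega), hfb _ (by omega), sub_self]
    have h4 := Finset.card_le_card h3
    rw [Finset.card_image_of_injOn (by
      intro a ha b hb hab
      have h5 := h.pow_inj hab
      have h6 := Finset.mem_range.1 (Finset.mem_coe.1 ha)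
      have h7 := Finset.mem_range.1 (Finset.mem_coe.1 hb)
      omega), Finset.card_range] at h4
    have h5 := Multiset.toFinset_card_le (k.map (algebraMap F K) - C b).roots
    have h6 : (k.map (algebraMap F K) - C b).degree < 6 := by
      refine lt_of_le_of_lt (Polynomial.degree_sub_le _ _) (max_lt ?_ ?_)
      · rw [Polynomial.degree_map]; exact hkd
      · exact lt_of_le_of_lt Polynomial.degree_C_le (by norm_num)
    have h7 : (6 : WithBot ℕ) ≤ (k.map (algebraMap F K) - C b).degree := by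
      refine le_trans ?_ h2
      exact_mod_cast h4.trans h5
    exact absurd (lt_of_lt_of_le h6 h7) (lt_irrefl _)
  refine ⟨k.coeff 0, ?_⟩
  have h2 := congrArg (fun p : K[X] => p.coeff 0) h1
  simp only [Polynomial.coeff_sub, Polynomial.coeff_map, Polynomial.coeff_C_zero, Polynomial.coeff_zero] at h2
  exact (sub_eq_zero.1 h2).symm

/-- inverses in the algebra generated by `Y` -/
theorem exists_inv [Finite F] (hI : Fintype.card I = 6) {g : F[X]} (hg : ∀ j : ℕ, ¬ 7 ∣ j → aeval (ζ ^ j) g ≠ 0) :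
    ∃ k : F[X], aeval Y g * aeval Y k = 1 := by
  classical
  let E := (aeval Y : F[X] →ₐ[F] Matrix I I F).range
  have hfin : Finite E := inferInstance
  let m : E → E := fun e => ⟨aeval Y g * e.1, E.mul_mem ⟨g, rfl⟩ e.2⟩
  have hm : Function.Injective m := by
    rintro ⟨_, ⟨a, rfl⟩⟩ ⟨_, ⟨b, rfl⟩⟩ hab
    apply Subtype.ext
    have h1 : aeval Y g * aeval Y a = aeval Y g * aeval Y b := congrArg Subtype.val hab
    rw [← map_mul, ← map_mul] at h1
    apply h.eq_of_val hI
    intro j hj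
    have h2 := h.val_eq h1 hj
    rw [map_mul, map_mul] at h2
    exact mul_left_cancel₀ (hg j hj) h2
  obtain ⟨⟨_, ⟨k, rfl⟩⟩, hk⟩ := (Finite.injective_iff_surjective.1 hm) ⟨1, E.one_mem⟩
  exact ⟨k, congrArg Subtype.val hk⟩

end Sev

end Cfsg.Agent.H901.EP
end

-- part: H901/EP/Symp
section
/-!
# S3499, row `J2` in `Sp6(q)`: symplectic elements in the algebra generated by an element `Y` of order 7 (helper901)
-/

set_option autoImplicit false
set_option linter.unusedSectionVars false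

open Polynomial Matrix Cfsg
open scoped MatrixGroups

namespace Cfsg.Agent.H901.EP

variable {F : Type*} [Field F] {m : ℕ}

/-- the adjoint -/
def st (B : Matrix (Fin m ⊕ Fin m) (Fin m ⊕ Fin m) F) : Matrix (Fin m ⊕ Fin m) (Fin m ⊕ Fin m) F :=
  -(Matrix.J (Fin m) F * Bᵀ * Matrix.J (Fin m) F)

local notation "JJ" => Matrix.J (Fin m) F

theorem st_one : st (1 : Matrix (Fin m ⊕ Fin m) (Fin m ⊕ Fin m) F) = 1 := by
  rw [st, Matrix.transpose_one, mul_one, Matrix.J_squared, neg_neg]

theorem st_mul (A B : Matrix (Fin m ⊕ Fin m) (Fin m ⊕ Fin m) F) : st (A * B) = st B * st A := by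
  rw [st, st, st, neg_mul_neg, Matrix.transpose_mul]
  calc -(JJ * (Bᵀ * Aᵀ) * JJ) = JJ * Bᵀ * (-1) * Aᵀ * JJ := by
        simp only [mul_assoc, neg_mul, mul_neg, one_mul]
    _ = JJ * Bᵀ * (JJ * JJ) * Aᵀ * JJ := by rw [Matrix.J_squared]
    _ = _ := by simp only [mul_assoc]

theorem st_add (A B : Matrix (Fin m ⊕ Fin m) (Fin m ⊕ Fin m) F) : st (A + B) = st A + st B := by
  rw [st, st, st, Matrix.transpose_add, mul_add, add_mul, neg_add]

theorem st_smul (c : F) (A : Matrix (Fin m ⊕ Fin m) (Fin m ⊕ Fin m) F) : st (c • A) = c • st A := by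
  rw [st, st, Matrix.transpose_smul, Matrix.mul_smul, Matrix.smul_mul, smul_neg]

theorem st_pow (A : Matrix (Fin m ⊕ Fin m) (Fin m ⊕ Fin m) F) (n : ℕ) : st (A ^ n) = st A ^ n := by
  induction n with
  | zero => rw [pow_zero, pow_zero, st_one]
  | succ n ih => rw [pow_succ, st_mul, ih, pow_succ']

theorem st_aeval (A : Matrix (Fin m ⊕ Fin m) (Fin m ⊕ Fin m) F) (f : F[X]) : st (aeval A f) = aeval (st A) f := by
  induction f using Polynomial.induction_on' with
  | add f g hf hg => rw [map_add, st_add, hf, hg, map_add]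
  | monomial n a =>
    rw [aeval_monomial, aeval_monomial, Algebra.algebraMap_eq_smul_one, smul_mul_assoc, one_mul, st_smul, st_pow,
      smul_mul_assoc, one_mul]

theorem form_st (B : Matrix (Fin m ⊕ Fin m) (Fin m ⊕ Fin m) F) (u v : Fin m ⊕ Fin m → F) :
    sympForm m F (B *ᵥ u) v = sympForm m F u (st B *ᵥ v) := by
  rw [sympForm, sympForm, st, Matrix.mulVec_mulVec, mul_neg, ← mul_assoc, ← mul_assoc, Matrix.J_squared, neg_mul,
    neg_mul, neg_neg, one_mul, ← Matrix.mulVec_mulVec, Matrix.dotProduct_mulVec u, Matrix.vecMul_transpose]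

theorem mem_spGL_iff {g : GL (Fin m ⊕ Fin m) F} : g ∈ spGL m F ↔ st g.1 * g.1 = 1 := by
  have h0 : g ∈ spGL m F ↔ ∀ u v, sympForm m F (g.1 *ᵥ u) (g.1 *ᵥ v) = sympForm m F u v :=
    Iff.rfl
  rw [h0]
  constructor
  · intro h
    have h1 : ∀ u v : Fin m ⊕ Fin m → F, u ⬝ᵥ (JJ *ᵥ ((st g.1 * g.1) *ᵥ v)) =
        u ⬝ᵥ (JJ *ᵥ v) := by
      intro u v
      have := h u v
      rw [form_st, Matrix.mulVec_mulVec, sympForm, sympForm] at this
      exact this
    have h2 : ∀ v : Fin m ⊕ Fin m → F, JJ *ᵥ ((st g.1 * g.1) *ᵥ v) = JJ *ᵥ v := by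
      intro v
      funext i
      have := h1 (Pi.single i 1) v
      rwa [single_one_dotProduct, single_one_dotProduct] at this
    apply Matrix.ext_of_mulVec_single
    intro i
    have h3 := congrArg (fun v => JJ *ᵥ v) (h2 (Pi.single i 1))
    simp only [Matrix.mulVec_mulVec, ← mul_assoc, Matrix.J_squared] at h3
    rw [neg_mul, neg_mul, Matrix.neg_mulVec, Matrix.neg_mulVec, neg_inj, one_mul] at h3
    exact h3
  · intro h u v
    rw [form_st, Matrix.mulVec_mulVec, h, Matrix.one_mulVec]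

theorem st_eq_inv {g : GL (Fin m ⊕ Fin m) F} (hg : g ∈ spGL m F) : st g.1 = (g⁻¹).1 := by
  have h1 := mem_spGL_iff.1 hg
  calc st g.1 = st g.1 * (g.1 * (g⁻¹).1) := by rw [← Units.val_mul, mul_inv_cancel, Units.val_one, mul_one]
    _ = (g⁻¹).1 := by rw [← mul_assoc, h1, one_mul]

section group
variable (Y : GL (Fin m ⊕ Fin m) F)

/-- the symplectic elements in the algebra generated by `Y` -/
def wg (hY : Y ∈ spGL m F) (h7 : Y ^ 7 = 1) : Subgroup (GL (Fin m ⊕ Fin m) F) where
  carrier := {g | g ∈ spGL m F ∧ ∃ f : F[X], g.1 = aeval Y.1 f}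
  one_mem' := ⟨(spGL m F).one_mem, 1, by rw [map_one]; rfl⟩
  mul_mem' := by
    rintro a b ⟨ha, f, hf⟩ ⟨hb, g, hg⟩
    exact ⟨(spGL m F).mul_mem ha hb, f * g, by rw [map_mul, ← hf, ← hg]; rfl⟩
  inv_mem' := by
    rintro a ⟨ha, f, hf⟩
    refine ⟨(spGL m F).inv_mem ha, f.comp (X ^ 6), ?_⟩
    have h1 : Y⁻¹ = Y ^ 6 := inv_eq_of_mul_eq_one_right (by rw [← pow_succ', h7])
    rw [← st_eq_inv ha, hf, st_aeval, st_eq_inv hY, h1, Polynomial.aeval_comp, map_pow, aeval_X]
    rfl

variable {Y} {hY : Y ∈ spGL m F} {h7 : Y ^ 7 = 1}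

theorem wg_comm {a b : GL (Fin m ⊕ Fin m) F} (ha : a ∈ wg Y hY h7) (hb : b ∈ wg Y hY h7) : a * b = b * a := by
  obtain ⟨-, f, hf⟩ := ha
  obtain ⟨-, g, hg⟩ := hb
  apply Units.ext
  rw [Units.val_mul, Units.val_mul, hf, hg, ← map_mul, ← map_mul, mul_comm]

theorem wg_comm_Y {a : GL (Fin m ⊕ Fin m) F} (ha : a ∈ wg Y hY h7) : a * Y = Y * a := by
  obtain ⟨-, f, hf⟩ := ha
  apply Units.ext
  rw [Units.val_mul, Units.val_mul, hf]
  calc aeval Y.1 f * Y.1 = aeval Y.1 f * aeval Y.1 (X : F[X]) := by rw [aeval_X]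
    _ = aeval Y.1 (X : F[X]) * aeval Y.1 f := by rw [← map_mul, ← map_mul, mul_comm]
    _ = Y.1 * aeval Y.1 f := by rw [aeval_X]

/-- conjugation by an element which raises `Y` to a power -/
theorem conj_poly {b : GL (Fin m ⊕ Fin m) F} {k : ℕ} (hb : b * Y * b⁻¹ = Y ^ k) {a : GL (Fin m ⊕ Fin m) F} {f : F[X]}
    (hf : a.1 = aeval Y.1 f) : (b * a * b⁻¹).1 = aeval Y.1 (f.comp (X ^ k)) := by
  have h1 : ∀ f : F[X], b.1 * aeval Y.1 f * (b⁻¹).1 = aeval (Y ^ k).1 f := by
    intro f
    have hb1 : b.1 * (b⁻¹).1 = 1 := by rw [← Units.val_mul, mul_inv_cancel]; rfl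
    have hb2 : (b⁻¹).1 * b.1 = 1 := by rw [← Units.val_mul, inv_mul_cancel]; rfl
    have hp : ∀ n : ℕ, b.1 * Y.1 ^ n * (b⁻¹).1 = (Y ^ k).1 ^ n := by
      intro n
      rw [← hb]
      induction n with
      | zero => rw [pow_zero, pow_zero, mul_one, hb1]
      | succ n ih =>
        rw [pow_succ, pow_succ, ← ih]
        show _ = b.1 * Y.1 ^ n * (b⁻¹).1 * (b.1 * Y.1 * (b⁻¹).1)
        calc b.1 * (Y.1 ^ n * Y.1) * (b⁻¹).1 = b.1 * Y.1 ^ n * 1 * (Y.1 * (b⁻¹).1) := by
              rw [mul_one]; simp only [mul_assoc]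
          _ = b.1 * Y.1 ^ n * ((b⁻¹).1 * b.1) * (Y.1 * (b⁻¹).1) := by rw [hb2]
          _ = _ := by simp only [mul_assoc]
    induction f using Polynomial.induction_on' with
    | add f g hf hg => rw [map_add, mul_add, add_mul, hf, hg, map_add]
    | monomial n a =>
      rw [aeval_monomial, aeval_monomial, Algebra.algebraMap_eq_smul_one, smul_mul_assoc, one_mul, mul_smul_comm,
        smul_mul_assoc, hp, smul_mul_assoc, one_mul]
  show b.1 * a.1 * (b⁻¹).1 = _
  rw [hf, h1, Polynomial.aeval_comp, map_pow, aeval_X]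
  rfl

theorem conj_mem {b : GL (Fin m ⊕ Fin m) F} (hbS : b ∈ spGL m F) {k : ℕ} (hb : b * Y * b⁻¹ = Y ^ k)
    {a : GL (Fin m ⊕ Fin m) F} (ha : a ∈ wg Y hY h7) : b * a * b⁻¹ ∈ wg Y hY h7 := by
  obtain ⟨haS, f, hf⟩ := ha
  exact ⟨(spGL m F).mul_mem ((spGL m F).mul_mem hbS haS) ((spGL m F).inv_mem hbS), _, conj_poly hb hf⟩

/-- elements with the same action on `Y` act in the same way -/
theorem conj_eq {b c : GL (Fin m ⊕ Fin m) F} {k : ℕ} (hb : b * Y * b⁻¹ = Y ^ k) (hc : c * Y * c⁻¹ = Y ^ k)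
    {a : GL (Fin m ⊕ Fin m) F} (ha : a ∈ wg Y hY h7) : b * a * b⁻¹ = c * a * c⁻¹ := by
  obtain ⟨haS, f, hf⟩ := ha
  apply Units.ext
  rw [conj_poly hb hf, conj_poly hc hf]

/-- elements which invert `Y` invert everything -/
theorem conj_inv {b : GL (Fin m ⊕ Fin m) F} (hb : b * Y * b⁻¹ = Y ^ 6)
    {a : GL (Fin m ⊕ Fin m) F} (ha : a ∈ wg Y hY h7) : b * a * b⁻¹ = a⁻¹ := by
  obtain ⟨haS, f, hf⟩ := ha
  apply Units.ext
  have h1 : Y⁻¹ = Y ^ 6 := inv_eq_of_mul_eq_one_right (by rw [← pow_succ', h7])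
  rw [conj_poly hb hf, ← st_eq_inv haS, hf, st_aeval, st_eq_inv hY, h1, Polynomial.aeval_comp, map_pow, aeval_X]
  rfl

/-- the Cayley transform -/
theorem cayley {g k : F[X]} (hg : aeval Y.1 (g.comp (X ^ 6)) = -aeval Y.1 g)
    (hk : (1 - aeval Y.1 g) * aeval Y.1 k = 1) : ∃ t : GL (Fin m ⊕ Fin m) F, t ∈ wg Y hY h7 ∧
      t.1 * (1 - aeval Y.1 g) = 1 + aeval Y.1 g := by
  have h1 : Y⁻¹ = Y ^ 6 := inv_eq_of_mul_eq_one_right (by rw [← pow_succ', h7])
  have hst : st (aeval Y.1 g) = -aeval Y.1 g := by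
    rw [st_aeval, st_eq_inv hY, h1, ← hg, Polynomial.aeval_comp, map_pow, aeval_X]
    rfl
  obtain ⟨a, ha⟩ : ∃ a, a = aeval Y.1 g := ⟨_, rfl⟩
  obtain ⟨b, hb⟩ : ∃ b, b = aeval Y.1 k := ⟨_, rfl⟩
  rw [← ha, ← hb] at hk
  rw [← ha] at hst
  have hab : a * b = b * a := by rw [ha, hb, ← map_mul, ← map_mul, mul_comm]
  have hk2 : b * (1 - a) = 1 := by
    rw [mul_sub, mul_one, ← hab]
    rw [sub_mul, one_mul] at hk
    exact hk
  have hkst : st b * (1 + a) = 1 := by
    have h2 := congrArg st hk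
    rw [st_mul, st_one, sub_eq_add_neg, st_add, st_one, ← neg_one_smul F a, st_smul, hst, neg_one_smul, neg_neg] at h2
    exact h2
  have hsta : st (1 + a) = 1 - a := by rw [st_add, st_one, hst, sub_eq_add_neg]
  have hT : st ((1 + a) * b) * ((1 + a) * b) = 1 := by
    rw [st_mul, hsta]
    calc st b * (1 - a) * ((1 + a) * b) = st b * ((1 - a) * (1 + a)) * b := by simp only [mul_assoc]
      _ = st b * ((1 + a) * (1 - a)) * b := by
          congr 2
          noncomm_ring
      _ = st b * (1 + a) * ((1 - a) * b) := by simp only [mul_assoc]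
      _ = 1 := by rw [hkst, hk, one_mul]
  have hT2 : ((1 + a) * b) * st ((1 + a) * b) = 1 := mul_eq_one_comm.1 hT
  refine ⟨⟨(1 + a) * b, st ((1 + a) * b), hT2, hT⟩, ⟨mem_spGL_iff.2 hT, (1 + g) * k, ?_⟩, ?_⟩
  · show (1 + a) * b = _
    rw [map_mul, map_add, map_one, ← ha, ← hb]
  · show (1 + a) * b * (1 - aeval Y.1 g) = _
    rw [← ha, mul_assoc, hk2, mul_one]

end group

end Cfsg.Agent.H901.EP
end

-- part: H901/EP/Count
section
/-!
# S3499, row `J2` in `Sp6(q)`: counting symplectic elements in the algebra generated by `Y` (helper901)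
-/

set_option autoImplicit false
set_option linter.unusedSectionVars false

open Polynomial Matrix Cfsg
open scoped MatrixGroups

namespace Cfsg.Agent.H901.EP

section val
variable {F : Type*} [Field F] {m : ℕ} {K : Type*} [Field K] [Algebra F K]
variable {Y : GL (Fin m ⊕ Fin m) F} {hY : Y ∈ spGL m F} {h7 : Y ^ 7 = 1} {ζ : K} (h : Sev K Y.1 ζ)

/-- the values of the elements of `wg` -/
noncomputable def V (j : ℕ) (hj : ¬ 7 ∣ j) : wg Y hY h7 →* K where
  toFun a := aeval (ζ ^ j) (Classical.choose a.2.2)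
  map_one' := by
    have h1 := Classical.choose_spec (1 : wg Y hY h7).2.2
    have h2 := h.val_eq (g := 1) (h1.symm.trans (by rw [map_one]; rfl)) hj
    rw [h2, map_one]
  map_mul' a b := by
    have h1 := Classical.choose_spec a.2.2
    have h2 := Classical.choose_spec b.2.2
    have h3 := Classical.choose_spec (a * b).2.2
    rw [← map_mul]
    apply h.val_eq _ hj
    rw [← h3, map_mul, ← h1, ← h2]
    rfl

theorem V_eq {j : ℕ} {hj : ¬ 7 ∣ j} {a : wg Y hY h7} {f : F[X]} (hf : a.1.1 = aeval Y.1 f) :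
    V h j hj a = aeval (ζ ^ j) f :=
  h.val_eq ((Classical.choose_spec a.2.2).symm.trans hf) hj

theorem V_congr {i j : ℕ} {hi : ¬ 7 ∣ i} {hj : ¬ 7 ∣ j} (hij : i % 7 = j % 7) (a : wg Y hY h7) :
    V h i hi a = V h j hj a := by
  show aeval (ζ ^ i) _ = aeval (ζ ^ j) _
  rw [h.hmod hij]

theorem V_inj (hm : m = 3) {a b : wg Y hY h7} (hab : ∀ (j : ℕ) (hj : ¬ 7 ∣ j), V h j hj a = V h j hj b) : a = b := by
  obtain ⟨f, hf⟩ := a.2.2
  obtain ⟨g, hg⟩ := b.2.2
  apply Subtype.ext
  apply Units.ext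
  rw [hf, hg]
  apply h.eq_of_val (by subst hm; simp)
  intro j hj
  rw [← V_eq h (hj := hj) hf, ← V_eq h (hj := hj) hg, hab]

theorem V_ne_zero {j : ℕ} {hj : ¬ 7 ∣ j} (a : wg Y hY h7) : V h j hj a ≠ 0 := by
  intro h0
  have h1 : V h j hj (a * a⁻¹) = 1 := by rw [mul_inv_cancel, map_one]
  rw [map_mul, h0, zero_mul] at h1
  exact zero_ne_one h1

/-- the values at `ζ ^ (6 j)` are the inverses -/
theorem V_six {j : ℕ} {hj : ¬ 7 ∣ j} {hj6 : ¬ 7 ∣ 6 * j} (a : wg Y hY h7) : V h (6 * j) hj6 a * V h j hj a = 1 := by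
  obtain ⟨f, hf⟩ := a.2.2
  have h1 : Y⁻¹ = Y ^ 6 := inv_eq_of_mul_eq_one_right (by rw [← pow_succ', h7])
  have h2 : (a⁻¹).1.1 = aeval Y.1 (f.comp (X ^ 6)) := by
    show ((a.1)⁻¹).1 = _
    rw [← st_eq_inv a.2.1, hf, st_aeval, st_eq_inv hY, h1, Polynomial.aeval_comp, map_pow, aeval_X]
    rfl
  have h3 : V h j hj (a⁻¹ * a) = 1 := by rw [inv_mul_cancel, map_one]
  rw [map_mul, V_eq h h2, Polynomial.aeval_comp, map_pow, aeval_X, ← pow_mul, mul_comm j 6] at h3
  rw [V_eq h (hj := hj6) hf]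
  exact h3

theorem V_conj {b : GL (Fin m ⊕ Fin m) F} (hbS : b ∈ spGL m F) {k : ℕ} (hb : b * Y * b⁻¹ = Y ^ k)
    {j : ℕ} {hj : ¬ 7 ∣ j} {hjk : ¬ 7 ∣ k * j} (a : wg Y hY h7) :
    V h j hj ⟨b * a.1 * b⁻¹, conj_mem hbS hb a.2⟩ = V h (k * j) hjk a := by
  obtain ⟨f, hf⟩ := a.2.2
  rw [V_eq h (hj := hjk) hf, V_eq h (f := f.comp (X ^ k)) (conj_poly hb hf), Polynomial.aeval_comp, map_pow, aeval_X,
    ← pow_mul, mul_comm j k]

include h

/-- at most 8 elements of square one -/
theorem card_sq (hm : m = 3) : {a : wg Y hY h7 | a * a = 1}.ncard ≤ 8 := by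
  classical
  -- the sign at `1, 2, 3`
  let s : wg Y hY h7 → Fin 3 → Bool := fun a i => decide (V h ((i : ℕ) + 1) (by have := i.2; omega) a = 1)
  have hs : Set.InjOn s {a : wg Y hY h7 | a * a = 1} := by
    intro a ha b hb hab
    have hpm : ∀ (c : wg Y hY h7), c * c = 1 → ∀ (j : ℕ) (hj : ¬ 7 ∣ j), V h j hj c = 1 ∨ V h j hj c = -1 := by
      intro c hc j hj
      have h1 : V h j hj c * V h j hj c = 1 := by rw [← map_mul, hc, map_one]
      exact mul_self_eq_one_iff.1 h1
    have h3 : ∀ (i : Fin 3), V h ((i : ℕ) + 1) (by have := i.2; omega) a = V h ((i : ℕ) + 1) (by have := i.2; omega) b := by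
      intro i
      have h4 : decide (V h ((i : ℕ) + 1) (by have := i.2; omega) a = 1) =
        decide (V h ((i : ℕ) + 1) (by have := i.2; omega) b = 1) := congrFun hab i
      rw [decide_eq_decide] at h4
      rcases hpm a ha ((i : ℕ) + 1) (by have := i.2; omega) with h5 | h5
      · rw [h5, h4.1 h5]
      · rcases hpm b hb ((i : ℕ) + 1) (by have := i.2; omega) with h6 | h6
        · rw [h6, h4.2 h6]
        · rw [h5, h6]
    have h3' : ∀ (j : ℕ) (hj : ¬ 7 ∣ j), j < 4 → V h j hj a = V h j hj b := by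
      intro j hj hj4
      have h4 := h3 ⟨j - 1, by omega⟩
      have h5 : (j - 1) + 1 = j := by omega
      simp only [h5] at h4
      exact h4
    apply V_inj h hm
    intro j hj
    have h6 : j % 7 < 4 ∨ (6 * j) % 7 < 4 := by
      have h60 : j % 7 = 1 ∨ j % 7 = 2 ∨ j % 7 = 3 ∨ j % 7 = 4 ∨ j % 7 = 5 ∨ j % 7 = 6 := by omega
      rcases h60 with h60 | h60 | h60 | h60 | h60 | h60 <;> omega
    rcases h6 with h6 | h6
    · rw [V_congr h (i := j) (j := j % 7) (hj := by omega) (by omega) a,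
        V_congr h (i := j) (j := j % 7) (hj := by omega) (by omega) b]
      exact h3' _ _ h6
    · have h8 : V h (6 * j) (by omega) a = V h (6 * j) (by omega) b := by
        rw [V_congr h (i := 6 * j) (j := (6 * j) % 7) (hj := by omega) (by omega) a,
          V_congr h (i := 6 * j) (j := (6 * j) % 7) (hj := by omega) (by omega) b]
        exact h3' _ _ h6
      have h9 := V_six h (hj := hj) (hj6 := by omega) a
      have h10 := V_six h (hj := hj) (hj6 := by omega) b
      rw [h8] at h9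
      exact mul_left_cancel₀ (V_ne_zero h (hj := by omega) b) (h9.trans h10.symm)
  calc {a : wg Y hY h7 | a * a = 1}.ncard ≤ (Set.univ : Set (Fin 3 → Bool)).ncard :=
        Set.ncard_le_ncard_of_injOn s (fun _ _ => Set.mem_univ _) hs (Set.toFinite _)
    _ = 8 := by rw [Set.ncard_univ]; simp

/-- at most `2 q` elements commute with an element which squares `Y` -/
theorem card_two [Finite F] (hm : m = 3) {b : GL (Fin m ⊕ Fin m) F} (hbS : b ∈ spGL m F) (hb : b * Y * b⁻¹ = Y ^ 2) :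
    {a : wg Y hY h7 | b * a.1 * b⁻¹ = a.1}.ncard ≤ 2 * Nat.card F := by
  classical
  have hff := Fintype.ofFinite F
  let Z : Finset K := Finset.univ.biUnion fun c : F => ((X ^ 2 - C (algebraMap F K c) * X + C 1 : K[X])).roots.toFinset
  have hdeg : ∀ c : F, ((X ^ 2 - C (algebraMap F K c) * X + C 1 : K[X])).natDegree = 2 := by
    intro c
    have h1 : (X ^ 2 - C (algebraMap F K c) * X + C 1 : K[X]) = C 1 * X ^ 2 + C (-(algebraMap F K c)) * X + C 1 := by
      rw [C_neg, C_1]; ring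
    rw [h1]
    exact Polynomial.natDegree_quadratic one_ne_zero
  have hne : ∀ c : F, ((X ^ 2 - C (algebraMap F K c) * X + C 1 : K[X])) ≠ 0 := by
    intro c h0
    have := hdeg c
    rw [h0, natDegree_zero] at this
    omega
  have hZ : Z.card ≤ 2 * Nat.card F := by
    refine le_trans Finset.card_biUnion_le ?_
    refine le_trans (Finset.sum_le_sum (g := fun _ => 2) fun c _ => ?_) ?_
    · refine le_trans (Multiset.toFinset_card_le _) ?_
      refine le_trans (Polynomial.card_roots' (X ^ 2 - C (algebraMap F K c) * X + C 1 : K[X])) ?_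
      rw [hdeg c]
    · rw [Finset.sum_const, Finset.card_univ, smul_eq_mul, Nat.card_eq_fintype_card, mul_comm]
  have hv : ∀ a : wg Y hY h7, b * a.1 * b⁻¹ = a.1 → ∀ (j : ℕ) (hj : ¬ 7 ∣ j) (hj2 : ¬ 7 ∣ 2 * j),
      V h (2 * j) hj2 a = V h j hj a := by
    intro a ha j hj hj2
    rw [← V_conj h hbS hb (hj := hj)]
    congr 1
    exact Subtype.ext ha
  -- all values
  have hvalA : ∀ a : wg Y hY h7, b * a.1 * b⁻¹ = a.1 → ∀ (j : ℕ) (hj : ¬ 7 ∣ j), j % 7 = 1 ∨ j % 7 = 2 ∨ j % 7 = 4 →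
      V h j hj a = V h 1 (by norm_num) a := by
    intro a ha j hj h5
    have h1 := hv a ha 1 (by norm_num) (by norm_num)
    have h2 := hv a ha 2 (by norm_num) (by norm_num)
    rcases h5 with h5 | h5 | h5
    · exact V_congr h (by omega) a
    · rw [V_congr h (i := j) (j := 2 * 1) (hj := by norm_num) (by omega) a, h1]
    · rw [V_congr h (i := j) (j := 2 * 2) (hj := by norm_num) (by omega) a, h2, V_congr h (i := 2) (j := 2 * 1) (hj := by norm_num) (by norm_num) a, h1]
  have hvalB : ∀ a : wg Y hY h7, b * a.1 * b⁻¹ = a.1 → ∀ (j : ℕ) (hj : ¬ 7 ∣ j), j % 7 = 3 ∨ j % 7 = 5 ∨ j % 7 = 6 →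
      V h j hj a = V h 6 (by norm_num) a := by
    intro a ha j hj h5
    have h3 := hv a ha 6 (by norm_num) (by norm_num)
    have h4 := hv a ha 12 (by norm_num) (by norm_num)
    rcases h5 with h5 | h5 | h5
    · rw [V_congr h (i := j) (j := 2 * 12) (hj := by norm_num) (by omega) a, h4, V_congr h (i := 12) (j := 2 * 6) (hj := by norm_num) (by norm_num) a, h3]
    · rw [V_congr h (i := j) (j := 2 * 6) (hj := by norm_num) (by omega) a, h3]
    · exact V_congr h (by omega) a
  have hval : ∀ a : wg Y hY h7, b * a.1 * b⁻¹ = a.1 → ∀ (j : ℕ) (hj : ¬ 7 ∣ j),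
      V h j hj a = V h 1 (by norm_num) a ∨ V h j hj a = V h 6 (by norm_num) a := by
    intro a ha j hj
    have h5 : (j % 7 = 1 ∨ j % 7 = 2 ∨ j % 7 = 4) ∨ (j % 7 = 3 ∨ j % 7 = 5 ∨ j % 7 = 6) := by omega
    rcases h5 with h5 | h5
    · exact Or.inl (hvalA a ha j hj h5)
    · exact Or.inr (hvalB a ha j hj h5)
  have h61 : ∀ a : wg Y hY h7, V h 6 (by norm_num) a * V h 1 (by norm_num) a = 1 := by
    intro a
    have := V_six h (j := 1) (hj := by norm_num) (hj6 := by norm_num) a
    rw [V_congr h (i := 6) (j := 6 * 1) (hj := by norm_num) (by norm_num) a]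
    exact this
  have hmem : ∀ a : wg Y hY h7, b * a.1 * b⁻¹ = a.1 → V h 1 (by norm_num) a ∈ Z := by
    intro a ha
    obtain ⟨f, hf⟩ := a.2.2
    obtain ⟨g, hg⟩ := (a⁻¹).2.2
    obtain ⟨c, hc⟩ := h.scalar_of_val (by subst hm; simp) (f := f + g)
      (b := V h 1 (by norm_num) a + V h 6 (by norm_num) a) (by
        intro j hj
        rw [map_add, ← V_eq h (hj := hj) hf, ← V_eq h (hj := hj) hg]
        have hinv : V h j hj (a⁻¹) * V h j hj a = 1 := by rw [← map_mul, inv_mul_cancel, map_one]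
        rcases hval a ha j hj with h1 | h1
        · rw [h1] at hinv ⊢
          have h2 := mul_right_cancel₀ (V_ne_zero h (hj := by norm_num) a) (hinv.trans (h61 a).symm)
          rw [h2]
        · rw [h1] at hinv ⊢
          have h3 : V h 1 (by norm_num) a * V h 6 (by norm_num) a = 1 := by rw [mul_comm]; exact h61 a
          have h2 := mul_right_cancel₀ (V_ne_zero h (hj := by norm_num) a) (hinv.trans h3.symm)
          rw [h2, add_comm])
    refine Finset.mem_biUnion.2 ⟨c, Finset.mem_univ _, ?_⟩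
    rw [Multiset.mem_toFinset, Polynomial.mem_roots (hne c), Polynomial.IsRoot]
    simp only [eval_add, eval_sub, eval_mul, eval_pow, eval_X, eval_C]
    rw [← hc]
    have h2 := h61 a
    linear_combination -h2
  have hinj : Set.InjOn (fun a : wg Y hY h7 => V h 1 (by norm_num) a) {a : wg Y hY h7 | b * a.1 * b⁻¹ = a.1} := by
    intro a ha a' ha' haa
    have haa' : V h 1 (by norm_num) a = V h 1 (by norm_num) a' := haa
    have h6 : V h 6 (by norm_num) a = V h 6 (by norm_num) a' := by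
      have h1 := h61 a
      have h2 := h61 a'
      rw [haa'] at h1
      exact mul_right_cancel₀ (V_ne_zero h (hj := by norm_num) a') (h1.trans h2.symm)
    apply V_inj h hm
    intro j hj
    have h5 : (j % 7 = 1 ∨ j % 7 = 2 ∨ j % 7 = 4) ∨ (j % 7 = 3 ∨ j % 7 = 5 ∨ j % 7 = 6) := by omega
    rcases h5 with h5 | h5
    · rw [hvalA a ha j hj h5, hvalA a' ha' j hj h5, haa']
    · rw [hvalB a ha j hj h5, hvalB a' ha' j hj h5, h6]
  calc {a : wg Y hY h7 | b * a.1 * b⁻¹ = a.1}.ncard ≤ (Z : Set K).ncard :=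
        Set.ncard_le_ncard_of_injOn _ (fun a ha => hmem a ha) hinj (Set.toFinite _)
    _ = Z.card := Set.ncard_coe_finset Z
    _ ≤ _ := hZ

end val

end Cfsg.Agent.H901.EP
end

-- part: H901/EP/Lower
section
/-!
# S3499, row `J2` in `Sp6(q)`: a lower bound by Cayley transforms (helper901)
-/

set_option autoImplicit false
set_option linter.unusedSectionVars false

open Polynomial Matrix Cfsg
open scoped MatrixGroups

namespace Cfsg.Agent.H901.EP

section low
variable {F : Type*} [Field F] {m : ℕ} {K : Type*} [Field K] [Algebra F K]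

/-- the skew polynomials -/
noncomputable def gc (c : F × F × F) : F[X] :=
  C c.1 * (X - X ^ 6) + C c.2.1 * (X ^ 2 - X ^ 5) + C c.2.2 * (X ^ 3 - X ^ 4)

theorem gc_eval {R : Type*} [Ring R] [Algebra F R] {y : R} (c : F × F × F) :
    aeval y (gc c) = algebraMap F R c.1 * (y - y ^ 6) + algebraMap F R c.2.1 * (y ^ 2 - y ^ 5) +
      algebraMap F R c.2.2 * (y ^ 3 - y ^ 4) := by
  simp only [gc, map_add, map_mul, map_sub, map_pow, aeval_X, aeval_C]

theorem gc_six {R : Type*} [Ring R] [Algebra F R] {y : R} (h7 : y ^ 7 = 1) (c : F × F × F) :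
    aeval (y ^ 6) (gc c) = -aeval y (gc c) := by
  have p : ∀ k r : ℕ, y ^ (7 * k + r) = y ^ r := by
    intro k r
    rw [pow_add, pow_mul, h7, one_pow, one_mul]
  rw [gc_eval, gc_eval]
  have e1 : (y ^ 6) ^ 6 = y := by rw [← pow_mul, show 6 * 6 = 7 * 5 + 1 by norm_num, p, pow_one]
  have e2 : (y ^ 6) ^ 2 = y ^ 5 := by rw [← pow_mul, show 6 * 2 = 7 * 1 + 5 by norm_num, p]
  have e3 : (y ^ 6) ^ 5 = y ^ 2 := by rw [← pow_mul, show 6 * 5 = 7 * 4 + 2 by norm_num, p]
  have e4 : (y ^ 6) ^ 3 = y ^ 4 := by rw [← pow_mul, show 6 * 3 = 7 * 2 + 4 by norm_num, p]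
  have e5 : (y ^ 6) ^ 4 = y ^ 3 := by rw [← pow_mul, show 6 * 4 = 7 * 3 + 3 by norm_num, p]
  rw [e1, e2, e3, e4, e5]
  noncomm_ring

theorem gc_sub (c d : F × F × F) : gc c - gc d = gc (c - d) := by
  simp only [gc, Prod.fst_sub, Prod.snd_sub, C_sub]
  ring

variable {Y : GL (Fin m ⊕ Fin m) F} {hY : Y ∈ spGL m F} {h7 : Y ^ 7 = 1} {ζ : K} (h : Sev K Y.1 ζ)
include h

theorem gc_inj {c d : F × F × F} (hcd : aeval Y.1 (gc c) = aeval Y.1 (gc d)) : c = d := by
  obtain ⟨e, he⟩ : ∃ e, e = c - d := ⟨_, rfl⟩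
  have h0 : aeval Y.1 (gc e) = 0 := by rw [he, ← gc_sub, map_sub, hcd, sub_self]
  let H : F[X] := C e.1 + C e.2.1 * X + C e.2.2 * X ^ 2 + C (-e.2.2) * X ^ 3 + C (-e.2.1) * X ^ 4 + C (-e.1) * X ^ 5
  have hH : gc e = X * H := by
    simp only [gc, H, C_neg]
    ring
  have hd : H.degree < 6 := by
    have h1 : H.natDegree ≤ 5 := by
      simp only [H]
      compute_degree
    refine lt_of_le_of_lt Polynomial.degree_le_natDegree ?_
    exact_mod_cast lt_of_le_of_lt h1 (by norm_num)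
  have hζ0 : ζ ≠ 0 := by
    rintro rfl
    have := h.seven
    rw [zero_pow (by norm_num)] at this
    exact zero_ne_one this
  have hH0 : H = 0 := by
    apply h.eq_zero_of_degree hd
    intro j hj
    have h1 := h.val h0 hj
    rw [hH, map_mul, aeval_X] at h1
    exact (mul_eq_zero.1 h1).resolve_left (pow_ne_zero _ hζ0)
  have c0 := congrArg (fun p : F[X] => p.coeff 0) hH0
  have c1 := congrArg (fun p : F[X] => p.coeff 1) hH0
  have c2 := congrArg (fun p : F[X] => p.coeff 2) hH0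
  simp only [H, coeff_X, coeff_C, _root_.map_neg, _root_.neg_mul, _root_.Polynomial.coeff_add, ↓ _root_.reduceIte, _root_.Polynomial.mul_coeff_zero, _root_.one_ne_zero, _root_.MulZeroClass.mul_zero, _root_.add_zero, _root_.Polynomial.coeff_X_pow, _root_.OfNat.zero_ne_ofNat, _root_.Polynomial.coeff_neg, _root_.neg_zero, _root_.Polynomial.coeff_zero, _root_.Polynomial.coeff_C_succ, _root_.Polynomial.coeff_mul_X, _root_.zero_add, _root_.Polynomial.coeff_C_mul, _root_.OfNat.one_ne_ofNat, _root_.mul_one, _root_.Nat.reduceEqDiff] at c0 c1 c2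
  have : e = 0 := Prod.ext c0 (Prod.ext c1 c2)
  rw [he] at this
  exact sub_eq_zero.1 this

/-- the good parameters -/
def Good (ζ : K) (c : F × F × F) : Prop := ∀ j : ℕ, ¬ 7 ∣ j → aeval (ζ ^ j) (gc c) ≠ 1

theorem exists_cayley [Finite F] (hm : m = 3) {c : F × F × F} (hc : Good ζ c) :
    ∃ t : wg Y hY h7, t.1.1 * (1 - aeval Y.1 (gc c)) = 1 + aeval Y.1 (gc c) := by
  obtain ⟨k, hk⟩ := h.exists_inv (g := 1 - gc c) (by subst hm; simp) (by
    intro j hj h0
    rw [map_sub, map_one, sub_eq_zero] at h0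
    exact hc j hj h0.symm)
  rw [map_sub, map_one] at hk
  have h7' : (Y.1) ^ 7 = 1 := by rw [← Units.val_pow_eq_pow_val, h7]; rfl
  obtain ⟨t, ht, ht2⟩ := cayley (hY := hY) (h7 := h7) (g := gc c) (k := k) (by
    rw [Polynomial.aeval_comp, map_pow, aeval_X]
    exact gc_six h7' c) hk
  exact ⟨⟨t, ht⟩, ht2⟩

/-- distinct parameters give distinct elements -/
theorem cayley_inj (h2 : (2 : F) ≠ 0) {c d : F × F × F} {t : GL (Fin m ⊕ Fin m) F}
    (hc : t.1 * (1 - aeval Y.1 (gc c)) = 1 + aeval Y.1 (gc c))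
    (hd : t.1 * (1 - aeval Y.1 (gc d)) = 1 + aeval Y.1 (gc d)) : c = d := by
  apply gc_inj h
  obtain ⟨a, ha⟩ : ∃ a, a = aeval Y.1 (gc c) := ⟨_, rfl⟩
  obtain ⟨b, hb⟩ : ∃ b, b = aeval Y.1 (gc d) := ⟨_, rfl⟩
  rw [← ha] at hc ⊢
  rw [← hb] at hd ⊢
  have h3 : (t.1 + 1) * a = (t.1 + 1) * b := by
    have e1 : (t.1 + 1) * a = t.1 - 1 := by
      have : t.1 - t.1 * a = 1 + a := by rw [← hc]; noncomm_ring
      rw [sub_eq_iff_eq_add] at this
      calc (t.1 + 1) * a = (1 + a + t.1 * a) - 1 := by rw [add_mul, one_mul]; abel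
        _ = t.1 - 1 := by rw [← this]
    have e2 : (t.1 + 1) * b = t.1 - 1 := by
      have : t.1 - t.1 * b = 1 + b := by rw [← hd]; noncomm_ring
      rw [sub_eq_iff_eq_add] at this
      calc (t.1 + 1) * b = (1 + b + t.1 * b) - 1 := by rw [add_mul, one_mul]; abel
        _ = t.1 - 1 := by rw [← this]
    rw [e1, e2]
  -- `t + 1` is invertible
  have h5 : (t.1 + 1) * (1 - a) = (2 : F) • (1 : Matrix (Fin m ⊕ Fin m) (Fin m ⊕ Fin m) F) := by
    rw [add_mul, hc, one_mul, two_smul]; abel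
  have h6 : ((2 : F)⁻¹ • (1 - a)) * (t.1 + 1) = 1 := by
    apply mul_eq_one_comm.1
    rw [mul_smul_comm, h5, smul_smul, inv_mul_cancel₀ h2, one_smul]
  calc a = ((2 : F)⁻¹ • (1 - a)) * (t.1 + 1) * a := by rw [h6, one_mul]
    _ = ((2 : F)⁻¹ • (1 - a)) * (t.1 + 1) * b := by rw [mul_assoc, h3, mul_assoc]
    _ = b := by rw [h6, one_mul]

theorem card_good [Finite F] (hm : m = 3) (h2 : (2 : F) ≠ 0) :
    {c : F × F × F | Good ζ c}.ncard ≤ Nat.card (wg Y hY h7) := by
  have hfin : Finite (wg Y hY h7) := inferInstance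
  have hex : ∀ c : {c : F × F × F | Good ζ c}, ∃ t : wg Y hY h7,
      t.1.1 * (1 - aeval Y.1 (gc c.1)) = 1 + aeval Y.1 (gc c.1) := fun c => exists_cayley h hm c.2
  choose t ht using hex
  refine Nat.card_le_card_of_injective t ?_
  intro c d hcd
  apply Subtype.ext
  apply cayley_inj h h2 (ht c)
  rw [hcd]
  exact ht d

omit h in
/-- the number of parameters with value 1 at `ζ ^ j` -/
theorem card_bad_one [Finite F] (h : Sev K Y.1 ζ) {j : ℕ} (hj : ¬ 7 ∣ j) :
    {c : F × F × F | aeval (ζ ^ j) (gc c) = 1}.ncard ≤ Nat.card F ^ 2 := by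
  have hne : ζ ^ j - (ζ ^ j) ^ 6 ≠ 0 := by
    intro h0
    rw [sub_eq_zero, ← pow_mul] at h0
    have := h.pow_inj h0
    omega
  have hinj : Set.InjOn (fun c : F × F × F => c.2) {c : F × F × F | aeval (ζ ^ j) (gc c) = 1} := by
    rintro ⟨a, b⟩ hc ⟨a', b'⟩ hd hcd
    have hb : b = b' := hcd
    subst hb
    have h1 : aeval (ζ ^ j) (gc (a, b)) = 1 := hc
    have h2 : aeval (ζ ^ j) (gc (a', b)) = 1 := hd
    rw [gc_eval] at h1 h2
    have h3 : (algebraMap F K a - algebraMap F K a') * (ζ ^ j - (ζ ^ j) ^ 6) = 0 := by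
      linear_combination h1 - h2
    have h4 := (mul_eq_zero.1 h3).resolve_right hne
    rw [sub_eq_zero] at h4
    rw [(algebraMap F K).injective h4]
  have h5 : Nat.card (F × F) = Nat.card F ^ 2 := by rw [Nat.card_prod, pow_two]
  rw [← h5, ← Set.ncard_univ]
  exact Set.ncard_le_ncard_of_injOn _ (fun _ _ => Set.mem_univ _) hinj (Set.toFinite _)

theorem card_bad [Finite F] : Nat.card F ^ 3 ≤ {c : F × F × F | Good ζ c}.ncard + 6 * Nat.card F ^ 2 := by
  classical
  have h1 : (Set.univ : Set (F × F × F)) ⊆ {c : F × F × F | Good ζ c} ∪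
      ⋃ i ∈ Finset.range 6, {c : F × F × F | aeval (ζ ^ (i + 1)) (gc c) = 1} := by
    intro c _
    by_cases hc : Good ζ c
    · exact Or.inl hc
    · right
      rw [Good] at hc
      push Not at hc
      obtain ⟨j, hj, hj1⟩ := hc
      refine Set.mem_iUnion₂.2 ⟨j % 7 - 1, Finset.mem_range.2 (by omega), ?_⟩
      have h2 : ζ ^ (j % 7 - 1 + 1) = ζ ^ j := h.hmod (by omega)
      show aeval (ζ ^ (j % 7 - 1 + 1)) (gc c) = 1
      rw [h2]
      exact hj1
  have h2 := Set.ncard_le_ncard h1 (Set.toFinite _)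
  have h3 : (Set.univ : Set (F × F × F)).ncard = Nat.card F ^ 3 := by
    rw [Set.ncard_univ, Nat.card_prod, Nat.card_prod]; ring
  rw [h3] at h2
  refine h2.trans ((Set.ncard_union_le _ _).trans (Nat.add_le_add_left ?_ _))
  have h4 : ∀ s : Finset ℕ, s ⊆ Finset.range 6 → (⋃ i ∈ s, {c : F × F × F | aeval (ζ ^ (i + 1)) (gc c) = 1}).ncard ≤
      s.card * Nat.card F ^ 2 := by
    intro s
    induction s using Finset.induction_on with
    | empty => intro _; simp
    | insert i s his ih =>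
      intro hs
      rw [Finset.set_biUnion_insert, Finset.card_insert_of_notMem his, add_mul, one_mul]
      have hi := Finset.mem_range.1 (hs (Finset.mem_insert_self i s))
      have h6 := ih fun k hk => hs (Finset.mem_insert_of_mem hk)
      have h7 := card_bad_one h (j := i + 1) (by omega)
      have h8 := Set.ncard_union_le {c : F × F × F | aeval (ζ ^ (i + 1)) (gc c) = 1}
        (⋃ i ∈ s, {c : F × F × F | aeval (ζ ^ (i + 1)) (gc c) = 1})
      linarith only [h6, h7, h8]
  have h5 := h4 (Finset.range 6) subset_rfl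
  rw [Finset.card_range] at h5
  exact h5

/-- **the lower bound** -/
theorem card_wg [Finite F] (hm : m = 3) (h2 : (2 : F) ≠ 0) :
    Nat.card F ^ 3 ≤ Nat.card (wg Y hY h7) + 6 * Nat.card F ^ 2 :=
  (card_bad h).trans (Nat.add_le_add_right (card_good h hm h2) _)

end low

end Cfsg.Agent.H901.EP
end

-- part: H901/EP/Five
section
/-!
# S3499, row `J2` in `Sp6(q)`: the case `q = 5` (helper901)
-/

set_option autoImplicit false
set_option linter.unusedSectionVars false

open Polynomial Matrix Cfsg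
open scoped MatrixGroups

namespace Cfsg.Agent.H901.EP

section five
variable {F : Type*} [Field F] {m : ℕ} {K : Type*} [Field K] [Algebra F K]

/-- Frobenius and polynomials -/
theorem aeval_pow [Finite F] (z : K) (f : F[X]) : aeval z f ^ Nat.card F = aeval (z ^ Nat.card F) f := by
  have := Fintype.ofFinite F
  rw [Nat.card_eq_fintype_card, ← map_pow, ← FiniteField.expand_card, Polynomial.expand_aeval]

variable {Y : GL (Fin m ⊕ Fin m) F} {hY : Y ∈ spGL m F} {h7 : Y ^ 7 = 1} {ζ : K} (h : Sev K Y.1 ζ)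
include h

/-- for `q = 5` every parameter is good -/
theorem good_five [Finite F] (hq : Nat.card F = 5) (h2 : (2 : F) ≠ 0) (c : F × F × F) : Good ζ c := by
  intro j hj h0
  have hstep : ∀ i : ℕ, aeval (ζ ^ i) (gc c) = 1 → aeval (ζ ^ (5 * i)) (gc c) = 1 := by
    intro i hi
    have h1 := aeval_pow (ζ ^ i) (gc c)
    rw [hi, one_pow, hq, ← pow_mul, mul_comm i 5] at h1
    exact h1.symm
  have h1 := hstep _ (hstep _ (hstep _ h0))
  have h3 : ζ ^ (5 * (5 * (5 * j))) = (ζ ^ j) ^ 6 := by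
    rw [← pow_mul]
    apply h.hmod
    omega
  have h4 : (ζ ^ j) ^ 7 = 1 := by rw [← pow_mul, mul_comm, pow_mul, h.seven, one_pow]
  rw [h3, gc_six h4, h0] at h1
  apply h2
  have h5 : (algebraMap F K) 2 = 0 := by
    have : (algebraMap F K) 2 = 1 + 1 := by
      have h6 : (2 : F) = 1 + 1 := by norm_num
      rw [h6, map_add, map_one]
    rw [this]
    linear_combination (-1 : K) * h1
  exact (algebraMap F K).injective (h5.trans (map_zero _).symm)

theorem card_wg_five [Finite F] (hq : Nat.card F = 5) (hm : m = 3) (h2 : (2 : F) ≠ 0) :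
    125 ≤ Nat.card (wg Y hY h7) := by
  refine le_trans (le_of_eq ?_) (card_good h (hY := hY) (h7 := h7) hm h2)
  have h1 : {c : F × F × F | Good ζ c} = Set.univ := Set.eq_univ_of_forall fun c => good_five h hq h2 c
  rw [h1, Set.ncard_univ, Nat.card_prod, Nat.card_prod, hq]

/-- for `q = 5` there are only two elements of square one -/
theorem card_sq_five [Finite F] (hq : Nat.card F = 5) (hm : m = 3) : {a : wg Y hY h7 | a * a = 1}.ncard ≤ 2 := by
  have hpm : ∀ (c : wg Y hY h7), c * c = 1 → ∀ (j : ℕ) (hj : ¬ 7 ∣ j), V h j hj c = 1 ∨ V h j hj c = -1 := by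
    intro c hc j hj
    have h1 : V h j hj c * V h j hj c = 1 := by rw [← map_mul, hc, map_one]
    exact mul_self_eq_one_iff.1 h1
  have hfrob : ∀ (a : wg Y hY h7), a * a = 1 → ∀ (j : ℕ) (hj : ¬ 7 ∣ j) (hj5 : ¬ 7 ∣ 5 * j),
      V h (5 * j) hj5 a = V h j hj a := by
    intro a ha j hj hj5
    obtain ⟨f, hf⟩ := a.2.2
    have h1 := aeval_pow (ζ ^ j) f
    rw [hq, ← pow_mul, mul_comm j 5, ← V_eq h (hj := hj) hf, ← V_eq h (hj := hj5) hf] at h1
    rw [← h1]
    rcases hpm a ha j hj with h3 | h3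
    · rw [h3, one_pow]
    · rw [h3]; norm_num
  have hall : ∀ (a : wg Y hY h7), a * a = 1 → ∀ i : ℕ, ∀ hi : ¬ 7 ∣ 5 ^ i, V h (5 ^ i) hi a = V h 1 (by norm_num) a := by
    intro a ha i
    induction i with
    | zero => intro hi; exact V_congr h (by norm_num) a
    | succ i ih =>
      intro hi
      have h5i : ¬ 7 ∣ 5 ^ i := fun h => hi (h.trans (pow_dvd_pow _ (Nat.le_succ i)))
      rw [← ih h5i, ← hfrob a ha _ h5i (by rw [← pow_succ']; exact hi)]
      exact V_congr h (by rw [pow_succ']) a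
  have hall' : ∀ (a : wg Y hY h7), a * a = 1 → ∀ (j : ℕ) (hj : ¬ 7 ∣ j), V h j hj a = V h 1 (by norm_num) a := by
    intro a ha j hj
    have h60 : j % 7 = 1 ∨ j % 7 = 2 ∨ j % 7 = 3 ∨ j % 7 = 4 ∨ j % 7 = 5 ∨ j % 7 = 6 := by omega
    rcases h60 with h60 | h60 | h60 | h60 | h60 | h60
    · rw [V_congr h (i := j) (j := 5 ^ 0) (hj := by norm_num) (by rw [h60]; norm_num) a]; exact hall a ha 0 _
    · rw [V_congr h (i := j) (j := 5 ^ 4) (hj := by norm_num) (by rw [h60]; norm_num) a]; exact hall a ha 4 _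
    · rw [V_congr h (i := j) (j := 5 ^ 5) (hj := by norm_num) (by rw [h60]; norm_num) a]; exact hall a ha 5 _
    · rw [V_congr h (i := j) (j := 5 ^ 2) (hj := by norm_num) (by rw [h60]; norm_num) a]; exact hall a ha 2 _
    · rw [V_congr h (i := j) (j := 5 ^ 1) (hj := by norm_num) (by rw [h60]; norm_num) a]; exact hall a ha 1 _
    · rw [V_congr h (i := j) (j := 5 ^ 3) (hj := by norm_num) (by rw [h60]; norm_num) a]; exact hall a ha 3 _
  have hinj : Set.InjOn (fun a : wg Y hY h7 => V h 1 (by norm_num) a) {a : wg Y hY h7 | a * a = 1} := by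
    intro a ha b hb hab
    apply V_inj h hm
    intro j hj
    rw [hall' a ha j hj, hall' b hb j hj]
    exact hab
  calc {a : wg Y hY h7 | a * a = 1}.ncard ≤ ({1, -1} : Set K).ncard :=
        Set.ncard_le_ncard_of_injOn _ (fun a ha => hpm a ha 1 (by norm_num)) hinj (Set.toFinite _)
    _ ≤ 2 := (Set.ncard_insert_le _ _).trans (by rw [Set.ncard_singleton])

end five

end Cfsg.Agent.H901.EP
end

-- part: H901/EP/Char7
section
/-!
# S3499, row `J2` in `Sp6(q)`: characteristic 7 (helper901)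
-/

set_option autoImplicit false
set_option linter.unusedSectionVars false

open Polynomial Matrix Cfsg
open scoped MatrixGroups

namespace Cfsg.Agent.H901.EP

section seven
variable {F : Type*} [Field F] [CharP F 7] {m : ℕ}
variable {Y : GL (Fin m ⊕ Fin m) F} {hY : Y ∈ spGL m F} {h7 : Y ^ 7 = 1}

/-- the skew polynomial -/
noncomputable def g7 (c : F) : F[X] := gc (c, 0, 0)

theorem g7_eq (c : F) : g7 c = C c * (X - X ^ 6) := by
  simp [g7, gc]

theorem g7_pow (h7 : Y ^ 7 = 1) (c : F) : aeval Y.1 (g7 c) ^ 7 = 0 := by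
  have : Fact (Nat.Prime 7) := ⟨by norm_num⟩
  have h7' : (Y.1) ^ 7 = 1 := by rw [← Units.val_pow_eq_pow_val, h7]; rfl
  have h1 : (g7 c) ^ 7 = C (c ^ 7) * (X ^ 7 - (X ^ 7) ^ 6) := by
    rw [g7_eq, mul_pow, sub_pow_char, ← C_pow, ← pow_mul, ← pow_mul]
  rw [← map_pow, h1, map_mul, map_sub, map_pow (aeval Y.1) (X ^ 7) 6, map_pow (aeval Y.1) X 7, aeval_X, h7', one_pow,
    sub_self, mul_zero]

theorem exists_t (h7 : Y ^ 7 = 1) (c : F) : ∃ t : wg Y hY h7, t.1.1 * (1 - aeval Y.1 (g7 c)) = 1 + aeval Y.1 (g7 c) := by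
  have h7' : (Y.1) ^ 7 = 1 := by rw [← Units.val_pow_eq_pow_val, h7]; rfl
  have hk : (1 - aeval Y.1 (g7 c)) * aeval Y.1 (∑ i ∈ Finset.range 7, g7 c ^ i) = 1 := by
    have h1 : (1 - g7 c) * (∑ i ∈ Finset.range 7, g7 c ^ i) = 1 - g7 c ^ 7 := mul_neg_geom_sum _ _
    have h2 := congrArg (aeval Y.1) h1
    rw [map_mul, map_sub, map_one, map_sub, map_one, map_pow, g7_pow h7, sub_zero] at h2
    exact h2
  obtain ⟨t, ht, ht2⟩ := cayley (hY := hY) (h7 := h7) (g := g7 c) (by
    rw [Polynomial.aeval_comp, map_pow, aeval_X]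
    exact gc_six h7' _) hk
  exact ⟨⟨t, ht⟩, ht2⟩

theorem t_pow {c : F} {t : wg Y hY h7} (ht : t.1.1 * (1 - aeval Y.1 (g7 c)) = 1 + aeval Y.1 (g7 c)) : t ^ 7 = 1 := by
  have : Fact (Nat.Prime 7) := ⟨by norm_num⟩
  have h1 : (1 - g7 c) ^ 7 = 1 - g7 c ^ 7 := by rw [sub_pow_char, one_pow]
  have h2 : (1 + g7 c) ^ 7 = 1 + g7 c ^ 7 := by rw [add_pow_char, one_pow]
  have h3 := congrArg (aeval Y.1) h1
  have h4 := congrArg (aeval Y.1) h2
  rw [map_pow, map_sub, map_one, map_sub, map_one, map_pow, g7_pow h7, sub_zero] at h3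
  rw [map_pow, map_add, map_one, map_add, map_one, map_pow, g7_pow h7, add_zero] at h4
  obtain ⟨f, hf⟩ := t.2.2
  have hc : Commute t.1.1 (1 - aeval Y.1 (g7 c)) := by
    rw [hf, ← map_one (aeval (R := F) Y.1), ← map_sub]
    show _ * _ = _ * _
    rw [← map_mul, ← map_mul, mul_comm]
  have h5 := hc.mul_pow 7
  rw [ht, h4, h3, mul_one] at h5
  apply Subtype.ext
  apply Units.ext
  exact h5.symm

/-- the Cayley transform determines the skew element -/
theorem skew_eq (h2 : (2 : F) ≠ 0) {a b : Matrix (Fin m ⊕ Fin m) (Fin m ⊕ Fin m) F} {t : Matrix (Fin m ⊕ Fin m) (Fin m ⊕ Fin m) F}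
    (hc : t * (1 - a) = 1 + a) (hd : t * (1 - b) = 1 + b) : a = b := by
  have h3 : (t + 1) * a = (t + 1) * b := by
    have e1 : (t + 1) * a = t - 1 := by
      have : t - t * a = 1 + a := by rw [← hc]; noncomm_ring
      rw [sub_eq_iff_eq_add] at this
      calc (t + 1) * a = (1 + a + t * a) - 1 := by rw [add_mul, one_mul]; abel
        _ = t - 1 := by rw [← this]
    have e2 : (t + 1) * b = t - 1 := by
      have : t - t * b = 1 + b := by rw [← hd]; noncomm_ring
      rw [sub_eq_iff_eq_add] at this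
      calc (t + 1) * b = (1 + b + t * b) - 1 := by rw [add_mul, one_mul]; abel
        _ = t - 1 := by rw [← this]
    rw [e1, e2]
  have h5 : (t + 1) * (1 - a) = (2 : F) • (1 : Matrix (Fin m ⊕ Fin m) (Fin m ⊕ Fin m) F) := by
    rw [add_mul, hc, one_mul, two_smul]; abel
  have h6 : ((2 : F)⁻¹ • (1 - a)) * (t + 1) = 1 := by
    apply mul_eq_one_comm.1
    rw [mul_smul_comm, h5, smul_smul, inv_mul_cancel₀ h2, one_smul]
  calc a = ((2 : F)⁻¹ • (1 - a)) * (t + 1) * a := by rw [h6, one_mul]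
    _ = ((2 : F)⁻¹ • (1 - a)) * (t + 1) * b := by rw [mul_assoc, h3, mul_assoc]
    _ = b := by rw [h6, one_mul]

/-- a polynomial relation of a nontrivial unipotent element -/
theorem deriv_zero (hne : Y ≠ 1) (h7 : Y ^ 7 = 1) {P : F[X]} (hP : aeval Y.1 P = 0) : (derivative P).eval 1 = 0 := by
  have : Fact (Nat.Prime 7) := ⟨by norm_num⟩
  have h7' : (Y.1) ^ 7 = 1 := by rw [← Units.val_pow_eq_pow_val, h7]; rfl
  have h1 : aeval Y.1 ((X - C 1 : F[X]) ^ 7) = 0 := by
    rw [sub_pow_char, map_sub, map_pow, aeval_X, h7', map_pow, aeval_C, map_one, one_pow, sub_self]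
  have h2 : minpoly F Y.1 ∣ (X - C 1 : F[X]) ^ 7 := minpoly.dvd F _ h1
  obtain ⟨k, -, hk⟩ := (dvd_prime_pow (Polynomial.prime_X_sub_C (1 : F)) 7).1 h2
  have hk2 : 2 ≤ k := by
    by_contra hk2
    apply hne
    apply Units.ext
    have h3 : (X - C 1 : F[X]) ^ k ∣ (X - C 1 : F[X]) := by
      have : (X - C 1 : F[X]) ^ k ∣ (X - C 1 : F[X]) ^ 1 := pow_dvd_pow _ (by omega)
      rwa [pow_one] at this
    obtain ⟨r, hr⟩ := hk.dvd.trans h3
    have h4 := congrArg (aeval Y.1) hr
    rw [map_mul, minpoly.aeval, zero_mul, map_sub, aeval_X, aeval_C, map_one, sub_eq_zero] at h4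
    exact h4
  obtain ⟨R, hR⟩ := ((pow_dvd_pow (X - C 1 : F[X]) hk2).trans hk.symm.dvd).trans (minpoly.dvd F _ hP)
  rw [hR]
  simp [derivative_mul, derivative_pow]

/-- **separation** -/
theorem sep (hne : Y ≠ 1) (h2 : (2 : F) ≠ 0) {b : GL (Fin m ⊕ Fin m) F} (hbS : b ∈ spGL m F) (hb : b * Y * b⁻¹ = Y ^ 2)
    {c d : F} {t s : wg Y hY h7} (ht : t.1.1 * (1 - aeval Y.1 (g7 c)) = 1 + aeval Y.1 (g7 c))
    (hs : s.1.1 * (1 - aeval Y.1 (g7 d)) = 1 + aeval Y.1 (g7 d))
    (hts : t⁻¹ * ⟨b * t.1 * b⁻¹, conj_mem hbS hb t.2⟩ = s⁻¹ * ⟨b * s.1 * b⁻¹, conj_mem hbS hb s.2⟩) : c = d := by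
  have h7' : (Y.1) ^ 7 = 1 := by rw [← Units.val_pow_eq_pow_val, h7]; rfl
  obtain ⟨f, hf⟩ := t.2.2
  obtain ⟨g, hg⟩ := s.2.2
  have hf' := conj_poly hb hf
  have hg' := conj_poly hb hg
  -- the relation of the conjugates
  have hconj : ∀ (e : F) (r : wg Y hY h7), r.1.1 * (1 - aeval Y.1 (g7 e)) = 1 + aeval Y.1 (g7 e) →
      (b * r.1 * b⁻¹).1 * (1 - aeval Y.1 ((g7 e).comp (X ^ 2))) = 1 + aeval Y.1 ((g7 e).comp (X ^ 2)) := by
    intro e r hr
    obtain ⟨f, hf⟩ := r.2.2
    rw [conj_poly hb hf]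
    rw [hf, ← map_one (aeval (R := F) Y.1), ← map_sub, ← map_mul, ← map_add] at hr
    rw [← map_one (aeval (R := F) Y.1), ← map_sub, ← map_mul, ← map_add]
    have key : ∀ p : F[X], aeval Y.1 (p.comp (X ^ 2)) = b.1 * aeval Y.1 p * (b⁻¹).1 := by
      intro p
      rw [Polynomial.aeval_comp, map_pow, aeval_X]
      have hb1 : b.1 * (b⁻¹).1 = 1 := by rw [← Units.val_mul, mul_inv_cancel]; rfl
      have hb2 : (b⁻¹).1 * b.1 = 1 := by rw [← Units.val_mul, inv_mul_cancel]; rfl
      have hp : ∀ n : ℕ, b.1 * Y.1 ^ n * (b⁻¹).1 = (Y.1 ^ 2) ^ n := by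
        intro n
        have e0 : Y.1 ^ 2 = b.1 * Y.1 * (b⁻¹).1 := by
          rw [← Units.val_pow_eq_pow_val, ← hb]; rfl
        rw [e0]
        induction n with
        | zero => rw [pow_zero, pow_zero, mul_one, hb1]
        | succ n ih =>
          rw [pow_succ, pow_succ, ← ih]
          calc b.1 * (Y.1 ^ n * Y.1) * (b⁻¹).1 = b.1 * Y.1 ^ n * 1 * (Y.1 * (b⁻¹).1) := by
                rw [mul_one]; simp only [mul_assoc]
            _ = b.1 * Y.1 ^ n * ((b⁻¹).1 * b.1) * (Y.1 * (b⁻¹).1) := by rw [hb2]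
            _ = _ := by simp only [mul_assoc]
      induction p using Polynomial.induction_on' with
      | add f g hf hg => rw [map_add, map_add, mul_add, add_mul, hf, hg]
      | monomial n a =>
        rw [aeval_monomial, aeval_monomial, Algebra.algebraMap_eq_smul_one, smul_mul_assoc, one_mul, ← hp,
          smul_mul_assoc, one_mul, mul_smul_comm, smul_mul_assoc]
    have e1 : f.comp (X ^ 2) * (1 - (g7 e).comp (X ^ 2)) = (f * (1 - g7 e)).comp (X ^ 2) := by
      rw [mul_comp, sub_comp, one_comp]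
    have e2 : (1 : F[X]) + (g7 e).comp (X ^ 2) = (1 + g7 e).comp (X ^ 2) := by rw [add_comp, one_comp]
    rw [e1, e2, key, key, hr]
  have ht' := hconj c t ht
  have hs' := hconj d s hs
  -- into a commutative ring
  have hmul : (b * t.1 * b⁻¹).1 * s.1.1 = t.1.1 * (b * s.1 * b⁻¹).1 := by
    have h3 : t * (t⁻¹ * ⟨b * t.1 * b⁻¹, conj_mem hbS hb t.2⟩) * s = t * (s⁻¹ * ⟨b * s.1 * b⁻¹, conj_mem hbS hb s.2⟩) * s := by
      rw [hts]
    rw [mul_inv_cancel_left] at h3
    have h4 : t * (s⁻¹ * ⟨b * s.1 * b⁻¹, conj_mem hbS hb s.2⟩) * s = t * ⟨b * s.1 * b⁻¹, conj_mem hbS hb s.2⟩ := by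
      have h5 : (⟨b * s.1 * b⁻¹, conj_mem hbS hb s.2⟩ : wg Y hY h7) * s = s * ⟨b * s.1 * b⁻¹, conj_mem hbS hb s.2⟩ :=
        Subtype.ext (wg_comm (conj_mem hbS hb s.2) s.2)
      rw [mul_assoc, mul_assoc, h5, inv_mul_cancel_left]
    rw [h4] at h3
    exact congrArg (fun z : wg Y hY h7 => z.1.1) h3
  rw [hf', hg', hf, hg, ← map_mul, ← map_mul] at hmul
  rw [hf, ← map_one (aeval (R := F) Y.1), ← map_sub, ← map_mul, ← map_add] at ht
  rw [hg, ← map_one (aeval (R := F) Y.1), ← map_sub, ← map_mul, ← map_add] at hs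
  rw [hf', ← map_one (aeval (R := F) Y.1), ← map_sub, ← map_mul, ← map_add] at ht'
  rw [hg', ← map_one (aeval (R := F) Y.1), ← map_sub, ← map_mul, ← map_add] at hs'
  let I : Ideal F[X] := RingHom.ker (aeval Y.1 : F[X] →ₐ[F] Matrix (Fin m ⊕ Fin m) (Fin m ⊕ Fin m) F)
  have hq : ∀ u v : F[X], aeval Y.1 u = aeval Y.1 v ↔ Ideal.Quotient.mk I u = Ideal.Quotient.mk I v := by
    intro u v
    rw [Ideal.Quotient.eq, RingHom.mem_ker, map_sub, sub_eq_zero]
  rw [hq] at ht hs ht' hs' hmul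
  let P : F[X] := (1 + (g7 c).comp (X ^ 2)) * (1 + g7 d) * (1 - g7 c) * (1 - (g7 d).comp (X ^ 2)) -
    (1 + g7 c) * (1 + (g7 d).comp (X ^ 2)) * (1 - (g7 c).comp (X ^ 2)) * (1 - g7 d)
  have hP : aeval Y.1 P = 0 := by
    have h3 : Ideal.Quotient.mk I P = Ideal.Quotient.mk I 0 := by
      simp only [P, map_sub, map_mul]
      rw [← ht, ← hs, ← ht', ← hs']
      simp only [map_sub, map_mul, map_one, map_zero] at hmul ⊢
      linear_combination (1 - Ideal.Quotient.mk I ((g7 c).comp (X ^ 2))) * (1 - Ideal.Quotient.mk I (g7 d)) *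
        (1 - Ideal.Quotient.mk I (g7 c)) * (1 - Ideal.Quotient.mk I ((g7 d).comp (X ^ 2))) * hmul
    rw [← hq] at h3
    rw [h3, map_zero]
  have h4 := deriv_zero hne h7 hP
  have h5 : (derivative P).eval 1 = 4 * (c - d) := by
    simp only [P, g7_eq, mul_comp, sub_comp, pow_comp, X_comp, C_comp]
    simp only [derivative_sub, derivative_add, derivative_mul, derivative_one, derivative_C, derivative_X,
      derivative_pow, eval_add, eval_sub, eval_mul, eval_pow, eval_X, eval_C, eval_one, eval_zero]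
    norm_num only [_root_.mul_neg, _root_.zero_add, _root_.MulZeroClass.mul_zero, _root_.add_zero, _root_.mul_one, _root_.one_mul, _root_.sub_zero, _root_.sub_neg_eq_add]
    have h70 : (7 : F) = 0 := by
      have := CharP.cast_eq_zero F 7
      exact_mod_cast this
    linear_combination (2 * (d - c)) * h70
  rw [h5] at h4
  have h6 : (4 : F) ≠ 0 := by
    have : (4 : F) = 2 * 2 := by norm_num
    rw [this]
    exact mul_ne_zero h2 h2
  exact sub_eq_zero.1 ((mul_eq_zero.1 h4).resolve_left h6)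

end seven

end Cfsg.Agent.H901.EP
end

-- part: H901/EP/RowGrp
section
/-!
# S3499, row `J2` in `Sp6(q)`: the group theoretic part (helper901)
-/

set_option autoImplicit false
set_option linter.unusedSectionVars false

open Subgroup Cfsg.Agent.H284 Cfsg.Agent.H419.EP
open scoped MatrixGroups

namespace Cfsg.Agent.H901.EP

theorem hom_card {G H : Type*} [Group G] [Group H] (f : G →* H) :
    Nat.card G = Nat.card f.range * Nat.card f.ker := by
  rw [Subgroup.card_eq_card_quotient_mul_card_subgroup f.ker, Nat.card_congr (QuotientGroup.quotientKerEquivRange f).toEquiv]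

/-- the numerical hypotheses of (PS) for `J2` and `J2.2` -/
theorem ps_j2 {Q : Type*} [Group Q] [Finite Q] {A : Subgroup Q} {Γ : Subgroup (MulAut Q)} (h : EPT A Γ)
    (hab : ∀ K : Subgroup Q, K ≤ A → (∀ a ∈ A, ∀ k ∈ K, a * k * a⁻¹ ∈ K) → (∀ a ∈ K, ∀ b ∈ K, a * b = b * a) → K = ⊥)
    {y : Q} (hy : orderOf y = 7) (hyA : y ∈ A)
    (hc : (Nat.card A = 604800 ∧ Nat.card (A ⊓ Subgroup.centralizer {y} : Subgroup Q) = 7) ∨
        (Nat.card A = 1209600 ∧ Nat.card (A ⊓ Subgroup.centralizer {y} : Subgroup Q) ∣ 14))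
    {x : Q} (hx : x ∉ A) (hxy : x * y = y * x) :
    ∃ u ∈ A, x⁻¹ * u * x ∈ A ∧ (∃ k : ℕ, u * y * u⁻¹ = y ^ k) ∧ u * y ≠ y * u := by
  have hA : Nat.card A ∣ 1209600 := by
    rcases hc with h | h
    · rw [h.1]; norm_num
    · rw [h.1]
  have hC : Nat.card (A ⊓ Subgroup.centralizer {y} : Subgroup Q) ∣ 14 := by
    rcases hc with h | h
    · rw [h.2]; norm_num
    · exact h.2
  refine ps h hab (s := 7) (e := 2) (by norm_num) Nat.prime_two (by norm_num) hy hyA ?_ ?_ ?_ hx hxy
  · intro hd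
    have := hd.trans hA
    norm_num at this
  · intro l j c hl hl7 hl2 hj hjA hcC hmod
    have hc0 : c = 0 := by
      by_contra hc0
      have h1 : l ∣ 14 := ((dvd_pow_self l hc0).trans hcC).trans hC
      have h3 : (14 : ℕ) = 2 * 7 := by norm_num
      rw [h3, hl.dvd_mul] at h1
      rcases h1 with h1 | h1
      · exact hl2 ((Nat.prime_dvd_prime_iff_eq hl Nat.prime_two).1 h1)
      · exact hl7 ((Nat.prime_dvd_prime_iff_eq hl (by norm_num)).1 h1)
    rw [hc0, pow_zero] at hmod
    have h1 : l ∣ 1209600 := ((dvd_pow_self l (by omega)).trans hjA).trans hA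
    have h2 : l = 3 ∨ l = 5 := by
      have h3 : (1209600 : ℕ) = 2 ^ 8 * (3 ^ 3 * (5 ^ 2 * 7)) := by norm_num
      rw [h3, hl.dvd_mul, hl.dvd_mul, hl.dvd_mul] at h1
      rcases h1 with h1 | h1 | h1 | h1
      · exact absurd ((Nat.prime_dvd_prime_iff_eq hl Nat.prime_two).1 (hl.dvd_of_dvd_pow h1)) hl2
      · exact Or.inl ((Nat.prime_dvd_prime_iff_eq hl Nat.prime_three).1 (hl.dvd_of_dvd_pow h1))
      · exact Or.inr ((Nat.prime_dvd_prime_iff_eq hl Nat.prime_five).1 (hl.dvd_of_dvd_pow h1))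
      · exact absurd ((Nat.prime_dvd_prime_iff_eq hl (by norm_num)).1 h1) hl7
    rcases h2 with rfl | rfl
    · have hj4 : j < 4 := by
        by_contra hj4
        have := (pow_dvd_pow 3 (by omega : 4 ≤ j)).trans (hjA.trans hA)
        norm_num at this
      interval_cases j <;> revert hmod <;> decide
    · have hj4 : j < 3 := by
        by_contra hj4
        have := (pow_dvd_pow 5 (by omega : 3 ≤ j)).trans (hjA.trans hA)
        norm_num at this
      interval_cases j <;> revert hmod <;> decide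
  · intro j c hjA hjA' hcC hmod
    have hc1 : c ≤ 1 := by
      by_contra hc1
      have := (pow_dvd_pow 2 (by omega : 2 ≤ c)).trans (hcC.trans hC)
      norm_num at this
    rcases hc with ⟨h1, h2⟩ | ⟨h1, -⟩
    · rw [h1] at hjA hjA'
      have hj : j = 7 := by
        have hj8 : j < 8 := by
          by_contra hj4
          have := (pow_dvd_pow 2 (by omega : 8 ≤ j)).trans hjA
          norm_num at this
        by_contra hj7
        apply hjA'
        exact (pow_dvd_pow 2 (by omega : j + 1 ≤ 7)).trans (by norm_num)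
      have hc0 : c = 0 := by
        rw [h2] at hcC
        by_contra hc0
        have hc2 : c = 1 := by omega
        rw [hc2] at hcC
        norm_num at hcC
      rw [hj, hc0] at hmod
      revert hmod
      decide
    · rw [h1] at hjA hjA'
      have hj : j = 8 := by
        have hj8 : j < 9 := by
          by_contra hj4
          have := (pow_dvd_pow 2 (by omega : 9 ≤ j)).trans hjA
          norm_num at this
        by_contra hj7
        apply hjA'
        exact (pow_dvd_pow 2 (by omega : j + 1 ≤ 8)).trans (by norm_num)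
      rw [hj] at hmod
      interval_cases c <;> revert hmod <;> decide

section lift
variable {Q : Type*} [Group Q] {F : Type*} [Field F] (m : Model Q (Cfsg.spGL 3 F))

theorem sc_eq {z : GL (Fin 3 ⊕ Fin 3) F} (hz : z ∈ Cfsg.Geo.scalars (Fin 3 ⊕ Fin 3) F) (hzS : z ∈ Cfsg.spGL 3 F) :
    z = 1 ∨ z = -1 := by
  obtain ⟨c, hc⟩ := (Cfsg.Geo.mem_scalars_iff z).1 hz
  have h1 := mem_spGL_iff.1 hzS
  have h2 : z.1 = (c : F) • (1 : Matrix (Fin 3 ⊕ Fin 3) (Fin 3 ⊕ Fin 3) F) := hc
  rw [h2, st_smul, st_one, smul_mul_smul_comm, one_mul] at h1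
  have h3 : (c : F) * c = 1 := by
    have := congrFun (congrFun h1 (Sum.inl 0)) (Sum.inl 0)
    simpa only [_root_.Fin.isValue, _root_.Matrix.smul_apply, _root_.Matrix.one_apply_eq, _root_.smul_eq_mul, _root_.mul_one] using this
  rcases mul_self_eq_one_iff.1 h3 with h4 | h4
  · left
    apply Units.ext
    rw [h2, h4, one_smul]; rfl
  · right
    apply Units.ext
    rw [h2, h4, neg_one_smul]; rfl

theorem π_eq {s t : Cfsg.spGL 3 F} (hst : m.π s = m.π t) : (s : GL (Fin 3 ⊕ Fin 3) F) = t ∨ (s : GL (Fin 3 ⊕ Fin 3) F) = -t := by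
  obtain ⟨z, hz, e⟩ := (m.π_eq_iff s t).1 hst
  have hzS : z ∈ Cfsg.spGL 3 F := by
    have : z = (t : GL (Fin 3 ⊕ Fin 3) F)⁻¹ * s := by rw [e]; group
    rw [this]
    exact mul_mem (inv_mem t.2) s.2
  rcases sc_eq hz hzS with rfl | rfl
  · left; rw [e, mul_one]
  · right; rw [e, mul_neg, mul_one]

theorem exists_lift7 {y : Q} (hy : y ^ 7 = 1) :
    ∃ Y : Cfsg.spGL 3 F, m.π Y = y ∧ (Y : GL (Fin 3 ⊕ Fin 3) F) ^ 7 = 1 := by
  obtain ⟨t, rfl⟩ := m.surj y
  refine ⟨t ^ 8, ?_, ?_⟩
  · rw [map_pow, show 8 = 7 + 1 by norm_num, pow_succ, hy, one_mul]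
  · have h1 : m.π (t ^ 7) = m.π 1 := by rw [map_pow, hy, map_one]
    have h2 : ((t : GL (Fin 3 ⊕ Fin 3) F) ^ 7) ^ 8 = 1 := by
      rcases π_eq m h1 with h3 | h3
      · have h4 : (t : GL (Fin 3 ⊕ Fin 3) F) ^ 7 = 1 := h3
        rw [h4, one_pow]
      · have h4 : (t : GL (Fin 3 ⊕ Fin 3) F) ^ 7 = -1 := h3
        rw [h4]
        exact Even.neg_one_pow (by decide)
    show ((t : GL (Fin 3 ⊕ Fin 3) F) ^ 8) ^ 7 = 1
    rw [← pow_mul, mul_comm, pow_mul]
    exact h2

theorem conj_lift (h2 : (2 : F) ≠ 0) {Y b : Cfsg.spGL 3 F} (hY : (Y : GL (Fin 3 ⊕ Fin 3) F) ^ 7 = 1) {k : ℕ}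
    (hb : m.π b * m.π Y * (m.π b)⁻¹ = m.π Y ^ k) :
    (b : GL (Fin 3 ⊕ Fin 3) F) * Y * (b : GL (Fin 3 ⊕ Fin 3) F)⁻¹ = (Y : GL (Fin 3 ⊕ Fin 3) F) ^ k := by
  have h1 : m.π (b * Y * b⁻¹) = m.π (Y ^ k) := by
    rw [map_mul, map_mul, map_inv, map_pow]; exact hb
  rcases π_eq m h1 with h3 | h3
  · exact h3
  · exfalso
    have h3' : (b : GL (Fin 3 ⊕ Fin 3) F) * Y * (b : GL (Fin 3 ⊕ Fin 3) F)⁻¹ = -((Y : GL (Fin 3 ⊕ Fin 3) F) ^ k) := h3
    have h4 : ((b : GL (Fin 3 ⊕ Fin 3) F) * Y * (b : GL (Fin 3 ⊕ Fin 3) F)⁻¹) ^ 7 = 1 := by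
      rw [conj_pow, hY, mul_one, mul_inv_cancel]
    rw [h3', Odd.neg_pow (by decide), ← pow_mul, mul_comm, pow_mul, hY, one_pow] at h4
    have h5 := congrArg (fun g : GL (Fin 3 ⊕ Fin 3) F => g.1 (Sum.inl 0) (Sum.inl 0)) h4
    have h6 : (-1 : F) = 1 := by simpa using h5
    apply h2
    linear_combination -h6
end lift

end Cfsg.Agent.H901.EP
end

private theorem dce_0c513c3b7a18 : _root_.True := by
  try have : _root_.True := by simp only [_root_.Cfsg.Agent.H901.EP.gc.eq_1]
  try have : _root_.True := by simp only [_root_.Cfsg.Agent.H901.EP.g7.eq_1]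
  try have : _root_.True := by simp only [_root_.Cfsg.Agent.H901.EP.st.eq_1]
  try have : _root_.True := by simp only [_root_.Cfsg.Agent.H901.EP.Good.eq_1]
  try have : _root_.True := by simp only [_root_.Cfsg.Agent.H901.EP.V.congr_simp]
  exact _root_.True.intro
end

-- part: H119/EP/UThree
section
prune_inst 0x4442028040b40120000008012c0200014860004b000000800c8a103420280ec620982a840bc00100352080005003900681208042000000000000004000138078910808406a148000882009e000000000000000000000000000000000000000004000400002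
set_option linter.all false
open scoped Cfsg.Agent.FastGrp

-- part: H119/EP/UAbs
section
/-!
# Extremely primitive groups whose point stabiliser has socle `U₃(3)`, abstract part (helper119, task 5949)
-/

set_option autoImplicit false
set_option linter.unusedSectionVars false

namespace Cfsg.Agent.H119.EP

open Subgroup

/-- the facts about `U₃(3)` which are used -/
structure U33 (N : Type*) [Group N] : Prop where
  card : Nat.card N = 6048
  simple : IsSimpleGroup N
  inv_le : {z : N | z * z = 1 ∧ z ≠ 1}.ncard ≤ 63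
  comm_le : ∀ z : N, z * z = 1 → z ≠ 1 → {w : N | w * w = 1 ∧ w ≠ 1 ∧ w ≠ z ∧ w * z = z * w}.ncard ≤ 10
  el : ∀ V : Subgroup N, (∀ v ∈ V, v * v = 1) → Nat.card V ≤ 4
  seven : ∀ g z : N, g ^ 7 = 1 → g ≠ 1 → z * z = 1 → g * z = z * g → z = 1
  three : ∀ g c z : N, g ^ 7 = 1 → g ≠ 1 → c ^ 3 = 1 → c ≠ 1 → c * g * c⁻¹ ∈ zpowers g → z * z = 1 →
    c * z = z * c → z = 1
  ti : ∀ (P Q : Sylow 3 N) (x : N), x ≠ 1 → x ∈ (P : Subgroup N) → x ∈ (Q : Subgroup N) → P = Q
  syl : Nat.card (Sylow 3 N) ≤ 28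

instance fact7 : Fact (Nat.Prime 7) := ⟨by norm_num⟩

theorem sylow_card_seven {M : Type*} [Group M] [Finite M] (h7 : 7 ∣ Nat.card M) (hd : Nat.card M ∣ 6048)
    (S : Sylow 7 M) : Nat.card S = 7 := by
  have h1 := S.dvd_card_of_dvd_card h7
  obtain ⟨k, hk⟩ := IsPGroup.iff_card.1 S.isPGroup'
  have h2 : Nat.card S ∣ 6048 := (Subgroup.card_subgroup_dvd_card (S : Subgroup M)).trans hd
  rcases k with _ | _ | k
  · rw [hk] at h1
    omega
  · rw [hk]; rfl
  · exfalso
    have h3 : 7 ^ 2 ∣ 6048 := by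
      refine (pow_dvd_pow 7 (by omega : 2 ≤ k + 1 + 1)).trans ?_
      rw [← hk]
      exact h2
    revert h3
    norm_num

theorem num_seven {M : Type*} [Group M] [Finite M] (h7 : 7 ∣ Nat.card M) (hd : Nat.card M ∣ 6048) :
    Nat.card (Sylow 7 M) = 1 ∨ Nat.card (Sylow 7 M) = 8 ∨ Nat.card (Sylow 7 M) = 36 ∨ Nat.card (Sylow 7 M) = 288 := by
  obtain ⟨S⟩ : Nonempty (Sylow 7 M) := inferInstance
  have h1 := sylow_card_seven h7 hd S
  have h2 := S.card_dvd_index
  have h3 : (S : Subgroup M).index ∣ 864 := by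
    have h4 := (S : Subgroup M).index_mul_card
    rw [show Nat.card (S : Subgroup M) = 7 from h1] at h4
    have h5 : (S : Subgroup M).index * 7 ∣ 864 * 7 := by rw [h4]; exact hd
    exact Nat.dvd_of_mul_dvd_mul_right (by norm_num) h5
  have h6 := h2.trans h3
  have h7 := card_sylow_modEq_one 7 M
  have key : ∀ n ∈ Finset.range 865, n ∣ 864 → n % 7 = 1 → n = 1 ∨ n = 8 ∨ n = 36 ∨ n = 288 := by decide +kernel
  exact key _ (Finset.mem_range.2 (Nat.lt_succ_of_le (Nat.le_of_dvd (by norm_num) h6))) h6 h7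

variable {N : Type*} [Group N] (h : U33 N)

include h

theorem U33.finite : Finite N := Nat.finite_of_card_ne_zero (by rw [h.card]; norm_num)

theorem U33.no_index_eight (H : Subgroup N) : H.index ≠ 8 := by
  intro hi
  have := h.finite
  have := h.simple
  have h1 : H.normalCore = ⊥ := by
    rcases (inferInstance : H.normalCore.Normal).eq_bot_or_eq_top with h2 | h2
    · exact h2
    · exfalso
      have h3 : H = ⊤ := top_le_iff.1 (h2 ▸ H.normalCore_le)
      rw [h3, index_top] at hi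
      omega
  rw [normalCore_eq_ker] at h1
  have h2 : Function.Injective (MulAction.toPermHom N (N ⧸ H)) := (MonoidHom.ker_eq_bot_iff _).1 h1
  have h3 := Subgroup.card_dvd_of_injective _ h2
  rw [h.card, Nat.card_perm] at h3
  have h4 : Nat.card (N ⧸ H) = 8 := hi
  rw [h4] at h3
  revert h3
  decide

theorem U33.card_dvd (M : Subgroup N) : Nat.card M ∣ 6048 := by
  rw [← h.card]
  exact card_subgroup_dvd_card M

theorem U33.num : Nat.card (Sylow 7 N) = 288 := by
  have := h.finite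
  have := h.simple
  have h7 : 7 ∣ Nat.card N := by rw [h.card]; norm_num
  have hd : Nat.card N ∣ 6048 := by rw [h.card]
  obtain ⟨S⟩ : Nonempty (Sylow 7 N) := inferInstance
  have h1 := sylow_card_seven h7 hd S
  have h2 := S.card_eq_index_normalizer
  rcases num_seven h7 hd with h3 | h3 | h3 | h3
  · exfalso
    rw [h3] at h2
    have h4 : normalizer (S : Set N) = ⊤ := index_eq_one.1 h2.symm
    have h5 : (S : Subgroup N).Normal := normalizer_eq_top_iff.1 h4
    rcases h5.eq_bot_or_eq_top with h6 | h6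
    · have h8 : Nat.card (S : Subgroup N) = 7 := h1
      rw [h6, card_bot] at h8
      omega
    · have h8 : Nat.card (S : Subgroup N) = 7 := h1
      rw [h6, card_top, h.card] at h8
      omega
  · exfalso
    exact h.no_index_eight _ (h2.symm.trans h3)
  · exfalso
    have h4 : Nat.card (normalizer (S : Set N)) = 168 := by
      have h5 := (normalizer (S : Set N)).card_mul_index
      rw [← h2, h3, h.card] at h5
      omega
    have hcyc : IsCyclic (S : Subgroup N) := isCyclic_of_prime_card (p := 7) h1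
    have h6 : Nat.card (MulAut (S : Subgroup N)) = 6 := by
      rw [IsCyclic.card_mulAut, show Nat.card (S : Subgroup N) = 7 from h1]
      decide
    have h8 := (normalizerMonoidHom (S : Subgroup N)).ker.card_mul_index
    rw [index_ker] at h8
    have h9 : Nat.card (normalizerMonoidHom (S : Subgroup N)).range ∣ 6 := by
      rw [← h6]
      exact card_subgroup_dvd_card _
    have h10 : 2 ∣ Nat.card (normalizerMonoidHom (S : Subgroup N)).ker := by
      rw [show Nat.card (normalizer ((S : Subgroup N) : Set N)) = 168 from h4] at h8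
      obtain ⟨c, hc⟩ := h9
      set a := Nat.card (normalizerMonoidHom (S : Subgroup N)).ker
      set b := Nat.card (normalizerMonoidHom (S : Subgroup N)).range
      have h11 : a * 6 = 168 * c := by rw [hc, ← mul_assoc, h8]
      omega
    have := Fact.mk Nat.prime_two
    obtain ⟨z, hz⟩ := exists_prime_orderOf_dvd_card' 2 h10
    let w : normalizer ((S : Subgroup N) : Set N) := z
    have hz2 : (w : N) * w = 1 := by
      have h11 := pow_orderOf_eq_one z
      rw [hz, pow_two] at h11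
      exact congrArg (fun t : (normalizerMonoidHom (S : Subgroup N)).ker =>
        ((t : normalizer ((S : Subgroup N) : Set N)) : N)) h11
    obtain ⟨g, hg⟩ : ∃ g : (S : Subgroup N), g ≠ 1 := by
      have h11 : Nontrivial (S : Subgroup N) := Finite.one_lt_card_iff_nontrivial.1 (by
        rw [show Nat.card (S : Subgroup N) = 7 from h1]; norm_num)
      exact exists_ne 1
    have hg7 : (g : N) ^ 7 = 1 := by
      have h11 : g ^ Nat.card (S : Subgroup N) = 1 := pow_card_eq_one'
      rw [show Nat.card (S : Subgroup N) = 7 from h1] at h11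
      exact congrArg Subtype.val h11
    have hzc : (w : N) ∈ centralizer ((S : Subgroup N) : Set N) := by
      have h11 : w ∈ (normalizerMonoidHom (S : Subgroup N)).ker := z.2
      rw [normalizerMonoidHom_ker] at h11
      exact h11
    have h12 := h.seven (g : N) (w : N) hg7 (fun e => hg (Subtype.ext e)) hz2
      (mem_centralizer_iff.1 hzc g g.2)
    have h13 : z = 1 := Subtype.ext (Subtype.ext h12)
    rw [h13, orderOf_one] at hz
    omega
  · exact h3

theorem U33.card_norm (P : Subgroup N) (hP : Nat.card P = 7) : Nat.card (normalizer (P : Set N)) = 21 := by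
  have := h.finite
  have hS : (Nat.card P) = 7 ^ (Nat.card N).factorization 7 := by
    have h1 : 7 ∣ Nat.card N := by rw [h.card]; norm_num
    obtain ⟨S⟩ : Nonempty (Sylow 7 N) := inferInstance
    rw [← S.card_eq_multiplicity, hP]
    exact (sylow_card_seven h1 (by rw [h.card]) S).symm
  let S : Sylow 7 N := Sylow.ofCard P hS
  have h2 := S.card_eq_index_normalizer
  have h3 : (S : Subgroup N) = P := rfl
  rw [h.num, show normalizer (S : Set N) = normalizer (P : Set N) from rfl] at h2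
  have h4 := (normalizer (P : Set N)).card_mul_index
  rw [← h2, h.card] at h4
  omega

/-! ### double counting -/

omit h in
theorem double {α β : Type*} [Finite α] [Finite β] (s : Set α) (t : Set β) (r : α → β → Prop) (m : ℕ)
    (hm : ∀ a ∈ s, m ≤ {b | b ∈ t ∧ r a b}.ncard)
    (hn : ∀ b ∈ t, ∀ a ∈ s, ∀ a' ∈ s, r a b → r a' b → a = a') : s.ncard * m ≤ t.ncard := by
  classical
  have := Fintype.ofFinite α
  have := Fintype.ofFinite β
  rw [Set.ncard_eq_toFinset_card', Set.ncard_eq_toFinset_card' t]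
  have h1 := Finset.card_mul_le_card_mul (s := s.toFinset) (t := t.toFinset) (m := m) (n := 1) r (by
    intro a ha
    refine (hm a (Set.mem_toFinset.1 ha)).trans ?_
    rw [Set.ncard_eq_toFinset_card']
    apply Finset.card_le_card
    intro b hb
    rw [Set.mem_toFinset] at hb
    rw [Finset.mem_bipartiteAbove, Set.mem_toFinset]
    exact hb) (by
    intro b hb
    rw [Finset.card_le_one]
    intro a ha a' ha'
    rw [Finset.mem_bipartiteBelow, Set.mem_toFinset] at ha ha'
    exact hn b (Set.mem_toFinset.1 hb) a ha.1 a' ha'.1 ha.2 ha'.2)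
  rwa [mul_one] at h1

end Cfsg.Agent.H119.EP
end

-- part: H119/EP/UCount
section
/-!
# The number of objects (helper119, task 5949)
-/

set_option autoImplicit false
set_option linter.unusedSectionVars false

namespace Cfsg.Agent.H119.EP

open Subgroup

variable {N : Type*} [Group N] (h : U33 N)

include h

/-! ### subgroups of order 7 -/

theorem U33.ofCard (M P : Subgroup N) (hP : Nat.card P = 7) (hPM : P ≤ M) :
    ∃ S : Sylow 7 M, (S : Subgroup M) = P.subgroupOf M := by
  have := h.finite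
  have h7 : 7 ∣ Nat.card M := hP ▸ card_dvd_of_le hPM
  have h1 : Nat.card (P.subgroupOf M) = 7 := by
    rw [← hP]
    exact Nat.card_congr (subgroupOfEquivOfLe hPM).toEquiv
  obtain ⟨S⟩ : Nonempty (Sylow 7 M) := inferInstance
  have h2 : Nat.card (P.subgroupOf M) = 7 ^ (Nat.card M).factorization 7 := by
    rw [← S.card_eq_multiplicity, h1]
    exact (sylow_card_seven h7 (h.card_dvd M) S).symm
  exact ⟨Sylow.ofCard _ h2, rfl⟩

theorem U33.norm_inf (M P : Subgroup N) (hP : Nat.card P = 7) (hPM : P ≤ M) :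
    Nat.card (Sylow 7 M) * Nat.card (normalizer (P : Set N) ⊓ M : Subgroup N) = Nat.card M := by
  have := h.finite
  obtain ⟨S, hS⟩ := h.ofCard M P hP hPM
  have h1 := S.card_eq_index_normalizer
  have h2 : normalizer ((S : Subgroup M) : Set M) = (normalizer (P : Set N)).subgroupOf M := by
    rw [hS]
    ext x
    rw [mem_subgroupOf, mem_normalizer_iff, mem_normalizer_iff]
    constructor
    · intro h3 y
      constructor
      · intro hy
        exact (h3 ⟨y, hPM hy⟩).1 hy
      · intro hy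
        have h4 : y ∈ M := by
          have h5 := M.mul_mem (M.mul_mem (M.inv_mem x.2) (hPM hy)) x.2
          have e : (x : N)⁻¹ * (x * y * (x : N)⁻¹) * x = y := by group
          rwa [e] at h5
        exact (h3 ⟨y, h4⟩).2 hy
    · intro h3 y
      exact h3 y
  have h3 : Nat.card ((normalizer (P : Set N)).subgroupOf M) = Nat.card (normalizer (P : Set N) ⊓ M : Subgroup N) := by
    rw [← inf_subgroupOf_right]
    exact Nat.card_congr (subgroupOfEquivOfLe inf_le_right).toEquiv
  rw [h1, ← h3, ← h2]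
  exact (normalizer ((S : Subgroup M) : Set M)).index_mul_card

theorem U33.sylow_ncard (M : Subgroup N) (h7 : 7 ∣ Nat.card M) :
    Nat.card (Sylow 7 M) ≤ {P : Subgroup N | Nat.card P = 7 ∧ P ≤ M}.ncard := by
  have := h.finite
  rw [← Set.ncard_univ]
  apply Set.ncard_le_ncard_of_injOn (fun S : Sylow 7 M => (S : Subgroup M).map M.subtype)
  · intro S _
    refine ⟨?_, map_subtype_le _⟩
    rw [card_map_of_injective (subtype_injective M)]
    exact sylow_card_seven h7 (h.card_dvd M) S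
  · intro S _ T _ e
    exact Sylow.ext (map_injective (subtype_injective M) e)

theorem U33.ncard_seven : {P : Subgroup N | Nat.card P = 7}.ncard ≤ 288 := by
  have := h.finite
  rw [← h.num, ← Set.ncard_univ]
  have key : ∀ P : Subgroup N, Nat.card P = 7 → ∃ S : Sylow 7 N, (S : Subgroup N) = P := by
    intro P hP
    obtain ⟨S⟩ : Nonempty (Sylow 7 N) := inferInstance
    have h2 : Nat.card P = 7 ^ (Nat.card N).factorization 7 := by
      rw [← S.card_eq_multiplicity, hP]
      exact (sylow_card_seven (by rw [h.card]; norm_num) (by rw [h.card]) S).symm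
    exact ⟨Sylow.ofCard _ h2, rfl⟩
  choose! f hf using key
  apply Set.ncard_le_ncard_of_injOn f
  · intro P _
    exact Set.mem_univ _
  · intro P hP Q hQ e
    rw [← hf P hP, ← hf Q hQ, e]

/-! ### subgroups of order 168 -/

omit h in
/-- subgroups of order 168 with 8 subgroups of order 7 -/
def KT (N : Type*) [Group N] : Set (Subgroup N) := {K | Nat.card K = 168 ∧ Nat.card (Sylow 7 K) = 8}

theorem U33.norm_le {K P : Subgroup N} (hK : K ∈ KT N) (hP : Nat.card P = 7) (hPK : P ≤ K) :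
    normalizer (P : Set N) ≤ K := by
  have := h.finite
  have h1 := h.norm_inf K P hP hPK
  rw [hK.1, hK.2] at h1
  have h2 : Nat.card (normalizer (P : Set N) ⊓ K : Subgroup N) = 21 := by omega
  have h3 : normalizer (P : Set N) ⊓ K = normalizer (P : Set N) := by
    apply eq_of_le_of_card_ge inf_le_left
    rw [h2, h.card_norm P hP]
  exact inf_eq_left.1 h3

theorem U33.K_unique {K K' P : Subgroup N} (hK : K ∈ KT N) (hK' : K' ∈ KT N) (hP : Nat.card P = 7) (hPK : P ≤ K)
    (hPK' : P ≤ K') {z : N} (hz : z * z = 1) (hz1 : z ≠ 1) (hzK : z ∈ K) (hzK' : z ∈ K') : K = K' := by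
  have := h.finite
  have h1 := h.norm_inf (K ⊓ K') P hP (le_inf hPK hPK')
  have h2 : normalizer (P : Set N) ⊓ (K ⊓ K') = normalizer (P : Set N) :=
    inf_eq_left.2 (le_inf (h.norm_le hK hP hPK) (h.norm_le hK' hP hPK'))
  rw [h2, h.card_norm P hP] at h1
  have h7 : 7 ∣ Nat.card (K ⊓ K' : Subgroup N) := ⟨Nat.card (Sylow 7 (K ⊓ K' : Subgroup N)) * 3, by rw [← h1]; ring⟩
  have h3 : Nat.card (K ⊓ K' : Subgroup N) ∣ 168 := by
    rw [← hK.1]
    exact card_dvd_of_le inf_le_left
  have hodd : 2 ∣ Nat.card (K ⊓ K' : Subgroup N) := by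
    have h4 : orderOf (⟨z, hzK, hzK'⟩ : (K ⊓ K' : Subgroup N)) = 2 := by
      apply orderOf_eq_prime
      · rw [pow_two]; exact Subtype.ext hz
      · intro e
        exact hz1 (congrArg Subtype.val e)
    rw [← h4]
    exact orderOf_dvd_natCard _
  have h5 : Nat.card (K ⊓ K' : Subgroup N) = 168 := by
    rcases num_seven h7 (h.card_dvd _) with h6 | h6 | h6 | h6
    · rw [h6] at h1; omega
    · rw [h6] at h1; omega
    · rw [h6] at h1
      have := Nat.le_of_dvd (by norm_num) h3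
      omega
    · rw [h6] at h1
      have := Nat.le_of_dvd (by norm_num) h3
      omega
  have h6 : K ⊓ K' = K := eq_of_le_of_card_ge inf_le_left (by rw [h5, hK.1])
  have h7 : K ⊓ K' = K' := eq_of_le_of_card_ge inf_le_right (by rw [h5, hK'.1])
  rw [← h6, h7]

theorem U33.K_inv {K : Subgroup N} (hK : K ∈ KT N) : 21 ≤ {z : N | (z * z = 1 ∧ z ≠ 1) ∧ z ∈ K}.ncard := by
  have := h.finite
  have h7 : 7 ∣ Nat.card K := by rw [hK.1]; norm_num
  obtain ⟨P, hP, hPK⟩ : {P : Subgroup N | Nat.card P = 7 ∧ P ≤ K}.Nonempty := by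
    rw [← Set.ncard_pos (Set.toFinite _)]
    have := h.sylow_ncard K h7
    rw [hK.2] at this
    omega
  have hB := h.norm_le hK hP hPK
  have := Fact.mk Nat.prime_two
  obtain ⟨z, hz⟩ := exists_prime_orderOf_dvd_card' 2 (show 2 ∣ Nat.card K by rw [hK.1]; norm_num)
  have hzz : (z : N) * z = 1 := by
    have h1 := pow_orderOf_eq_one z
    rw [hz, pow_two] at h1
    exact congrArg Subtype.val h1
  have hz1 : (z : N) ≠ 1 := by
    intro e
    have h1 : z = 1 := Subtype.ext e
    rw [h1, orderOf_one] at hz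
    omega
  have hcyc : IsCyclic P := isCyclic_of_prime_card (p := 7) hP
  obtain ⟨g, hg⟩ := hcyc.exists_generator
  have hg7 : (g : N) ^ 7 = 1 := by
    have h11 : g ^ Nat.card P = 1 := pow_card_eq_one'
    rw [hP] at h11
    exact congrArg Subtype.val h11
  have hPg : P = zpowers (g : N) := by
    apply le_antisymm
    · intro y hy
      obtain ⟨k, hk⟩ := mem_zpowers_iff.1 (hg ⟨y, hy⟩)
      exact mem_zpowers_iff.2 ⟨k, congrArg Subtype.val hk⟩
    · rw [zpowers_le]
      exact g.2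
  have hg1 : (g : N) ≠ 1 := by
    intro e
    rw [e, zpowers_one_eq_bot] at hPg
    rw [hPg, card_bot] at hP
    omega
  have hcard : {b : N | b ∈ normalizer (P : Set N)}.ncard = 21 := h.card_norm P hP
  rw [← hcard]
  apply Set.ncard_le_ncard_of_injOn (fun b : N => b * (z : N) * b⁻¹)
  · intro b hb
    refine ⟨⟨?_, ?_⟩, ?_⟩
    · calc b * z * b⁻¹ * (b * z * b⁻¹) = b * (z * z) * b⁻¹ := by group
        _ = 1 := by rw [hzz, mul_one, mul_inv_cancel]
    · intro e
      apply hz1
      rw [mul_inv_eq_one] at e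
      exact mul_eq_left.1 e
    · exact K.mul_mem (K.mul_mem (hB hb) z.2) (K.inv_mem (hB hb))
  · intro b hb b' hb' e
    simp only at e
    by_contra hne
    -- `c = b'⁻¹ b` commutes with `z`
    have hc : b'⁻¹ * b * z = z * (b'⁻¹ * b) := by
      calc b'⁻¹ * b * z = b'⁻¹ * (b * z * b⁻¹) * b := by group
        _ = b'⁻¹ * (b' * z * b'⁻¹) * b := by rw [e]
        _ = z * (b'⁻¹ * b) := by group
    have hcB : b'⁻¹ * b ∈ normalizer (P : Set N) := mul_mem (inv_mem hb') hb
    have hc1 : b'⁻¹ * b ≠ 1 := by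
      intro e2
      exact hne (inv_mul_eq_one.1 e2).symm
    set c := b'⁻¹ * b with hcdef
    have hc21 : c ^ 21 = 1 := by
      have h11 : (⟨c, hcB⟩ : normalizer (P : Set N)) ^ Nat.card (normalizer (P : Set N)) = 1 := pow_card_eq_one'
      rw [h.card_norm P hP] at h11
      exact congrArg Subtype.val h11
    by_cases h3 : c ^ 3 = 1
    · apply hz1
      apply h.three g c z hg7 hg1 h3 hc1 _ hzz hc
      rw [← hPg]
      exact (mem_normalizer_iff.1 hcB _).1 g.2
    · apply hz1
      apply h.seven (c ^ 3) z _ h3 hzz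
      · exact (Commute.pow_left (show Commute c z from hc) 3).eq
      · rw [← pow_mul]
        exact hc21

theorem U33.ncard_KT : (KT N).ncard ≤ 108 := by
  have := h.finite
  have h1 := double (KT N) ({P : Subgroup N | Nat.card P = 7} ×ˢ {z : N | z * z = 1 ∧ z ≠ 1})
    (fun K p => p.1 ≤ K ∧ p.2 ∈ K) 168 (by
      intro K hK
      have h2 : {P : Subgroup N | Nat.card P = 7 ∧ P ≤ K} ×ˢ {z : N | (z * z = 1 ∧ z ≠ 1) ∧ z ∈ K} ⊆
          {b | b ∈ {P : Subgroup N | Nat.card P = 7} ×ˢ {z : N | z * z = 1 ∧ z ≠ 1} ∧ (b.1 ≤ K ∧ b.2 ∈ K)} := by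
        rintro ⟨P, z⟩ ⟨h3, h4⟩
        exact ⟨⟨h3.1, h4.1⟩, h3.2, h4.2⟩
      refine le_trans ?_ (Set.ncard_le_ncard h2 (Set.toFinite _))
      rw [Set.ncard_prod]
      have h3 := h.sylow_ncard K (by rw [hK.1]; norm_num)
      rw [hK.2] at h3
      have h4 := h.K_inv hK
      calc 168 = 8 * 21 := by norm_num
        _ ≤ _ := Nat.mul_le_mul h3 h4)
    (by
      rintro ⟨P, z⟩ ⟨hP, hz⟩ K hK K' hK' ⟨h2, h3⟩ ⟨h4, h5⟩
      exact h.K_unique hK hK' hP h2 h4 hz.1 hz.2 h3 h5)
  rw [Set.ncard_prod] at h1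
  have h2 := Nat.mul_le_mul h.ncard_seven h.inv_le
  omega

end Cfsg.Agent.H119.EP
end

-- part: H119/EP/UObj
section
/-!
# The objects (helper119, task 5949)
-/

set_option autoImplicit false
set_option linter.unusedSectionVars false

namespace Cfsg.Agent.H119.EP

open Subgroup

/-- elementary abelian subgroups of order 4 -/
def TF (N : Type*) [Group N] : Set (Subgroup N) := {V | Nat.card V = 4 ∧ ∀ v ∈ V, v * v = 1}

/-- the objects -/
def Obj (N : Type*) [Group N] : Set (Subgroup N) :=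
  {P | ∃ S : Sylow 3 N, P = S} ∪ {P | Nat.card P = 7} ∪ {P | Nat.card P = 2} ∪ TF N ∪ KT N

/-- pairs of commuting involutions -/
def prs (N : Type*) [Group N] : Set (N × N) :=
  {p | (p.1 * p.1 = 1 ∧ p.1 ≠ 1) ∧ (p.2 * p.2 = 1 ∧ p.2 ≠ 1 ∧ p.2 ≠ p.1 ∧ p.2 * p.1 = p.1 * p.2)}

variable {N : Type*} [Group N] (h : U33 N)

include h

theorem U33.ncard_prs : (prs N).ncard ≤ 630 := by
  classical
  have := h.finite
  have := Fintype.ofFinite N
  have h1 := Finset.card_le_mul_card_image_of_maps_to (s := (prs N).toFinset)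
    (t := {z : N | z * z = 1 ∧ z ≠ 1}.toFinset) (f := Prod.fst) (by
      intro p hp
      rw [Set.mem_toFinset] at hp
      exact Set.mem_toFinset.2 hp.1) 10 (by
      intro z hz
      rw [Set.mem_toFinset] at hz
      refine le_trans ?_ (h.comm_le z hz.1 hz.2)
      rw [← Set.ncard_coe_finset]
      apply Set.ncard_le_ncard_of_injOn Prod.snd
      · rintro ⟨a, b⟩ hp
        rw [Finset.mem_coe, Finset.mem_filter, Set.mem_toFinset] at hp
        obtain ⟨h2, rfl⟩ := hp
        exact h2.2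
      · rintro ⟨a, b⟩ hp ⟨a', b'⟩ hp' e
        rw [Finset.mem_coe, Finset.mem_filter] at hp hp'
        exact Prod.ext (hp.2.trans hp'.2.symm) e)
  rw [← Set.ncard_eq_toFinset_card', ← Set.ncard_eq_toFinset_card'] at h1
  have h2 := h.inv_le
  omega

theorem U33.ncard_TF : (TF N).ncard ≤ 105 := by
  classical
  have := h.finite
  have := Fintype.ofFinite N
  have h1 := double (TF N) (prs N) (fun V p => p.1 ∈ V ∧ p.2 ∈ V) 6 (by
      intro V hV
      have h2 : ((((V : Set N).toFinset).erase 1).offDiag : Finset (N × N)) ⊆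
          ({b | b ∈ prs N ∧ (b.1 ∈ V ∧ b.2 ∈ V)} : Set (N × N)).toFinset := by
        intro p hp
        rw [Finset.mem_offDiag, Finset.mem_erase, Finset.mem_erase, Set.mem_toFinset, Set.mem_toFinset] at hp
        obtain ⟨⟨h3, h4⟩, ⟨h5, h6⟩, h7⟩ := hp
        rw [Set.mem_toFinset]
        refine ⟨⟨⟨hV.2 _ h4, h3⟩, hV.2 _ h6, h5, Ne.symm h7, ?_⟩, h4, h6⟩
        have h8 := hV.2 _ (V.mul_mem h6 h4)
        have e1 : p.2 * p.1 = (p.2 * p.1)⁻¹ := by
          rw [eq_inv_iff_mul_eq_one]; exact h8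
        have e2 : p.1⁻¹ = p.1 := (eq_inv_of_mul_eq_one_left (hV.2 _ h4)).symm
        have e3 : p.2⁻¹ = p.2 := (eq_inv_of_mul_eq_one_left (hV.2 _ h6)).symm
        rw [e1, mul_inv_rev, e2, e3]
      have h3 := Finset.card_le_card h2
      rw [Finset.offDiag_card, Finset.card_erase_of_mem (by rw [Set.mem_toFinset]; exact V.one_mem),
        ← Set.ncard_eq_toFinset_card', ← Set.ncard_eq_toFinset_card'] at h3
      have h4 : (V : Set N).ncard = 4 := hV.1
      rw [h4] at h3
      exact h3)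
    (by
      rintro ⟨z, w⟩ ⟨hz, hw⟩ V hV V' hV' ⟨h2, h3⟩ ⟨h4, h5⟩
      simp only at hz hw h2 h3 h4 h5
      have h6 : 3 ≤ Nat.card (V ⊓ V' : Subgroup N) := by
        have h7 : ({1, z, w} : Finset N) ⊆ ((V ⊓ V' : Subgroup N) : Set N).toFinset := by
          intro x hx
          rw [Set.mem_toFinset]
          simp only [Finset.mem_insert, Finset.mem_singleton] at hx
          rcases hx with rfl | rfl | rfl
          · exact one_mem _
          · exact ⟨h2, h4⟩
          · exact ⟨h3, h5⟩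
        have h8 := Finset.card_le_card h7
        rw [Finset.card_insert_of_notMem (by simp [hz.2.symm, hw.2.1.symm]),
          Finset.card_insert_of_notMem (by simp [hw.2.2.1.symm]), Finset.card_singleton,
          ← Set.ncard_eq_toFinset_card'] at h8
        exact h8
      have h7 : Nat.card (V ⊓ V' : Subgroup N) ∣ 4 := by
        rw [← hV.1]
        exact card_dvd_of_le inf_le_left
      have h8 : Nat.card (V ⊓ V' : Subgroup N) = 4 := by
        have h9 := Nat.le_of_dvd (by norm_num) h7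
        interval_cases hc : Nat.card (V ⊓ V' : Subgroup N)
        · revert h7; decide
        · rfl
      have e1 : V ⊓ V' = V := eq_of_le_of_card_ge inf_le_left (by rw [h8, hV.1])
      have e2 : V ⊓ V' = V' := eq_of_le_of_card_ge inf_le_right (by rw [h8, hV'.1])
      rw [← e1, e2])
  have h2 := h.ncard_prs
  omega

theorem U33.ncard_two : {P : Subgroup N | Nat.card P = 2}.ncard ≤ 63 := by
  have := h.finite
  refine le_trans ?_ h.inv_le
  refine le_trans (Set.ncard_le_ncard (t := (fun z : N => zpowers z) '' {z : N | z * z = 1 ∧ z ≠ 1}) ?_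
    (Set.toFinite _)) (Set.ncard_image_le (Set.toFinite _))
  intro P hP
  have := Fact.mk Nat.prime_two
  obtain ⟨z, hz⟩ := exists_prime_orderOf_dvd_card' 2 (show 2 ∣ Nat.card P by rw [show Nat.card P = 2 from hP])
  have hzz : (z : N) * z = 1 := by
    have h1 := pow_orderOf_eq_one z
    rw [hz, pow_two] at h1
    exact congrArg Subtype.val h1
  have hz1 : (z : N) ≠ 1 := by
    intro e
    have h1 : z = 1 := Subtype.ext e
    rw [h1, orderOf_one] at hz
    omega
  refine ⟨z, ⟨hzz, hz1⟩, ?_⟩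
  apply eq_of_le_of_card_ge
  · rw [zpowers_le]; exact z.2
  · rw [show Nat.card P = 2 from hP, Nat.card_zpowers, orderOf_coe, hz]

theorem U33.ncard_syl : {P : Subgroup N | ∃ S : Sylow 3 N, P = S}.ncard ≤ 28 := by
  have := h.finite
  refine le_trans ?_ h.syl
  rw [← Set.ncard_univ]
  refine le_trans (Set.ncard_le_ncard (t := (fun S : Sylow 3 N => (S : Subgroup N)) '' Set.univ) ?_
    (Set.toFinite _)) (Set.ncard_image_le (Set.toFinite _))
  rintro _ ⟨S, rfl⟩
  exact ⟨S, Set.mem_univ _, rfl⟩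

theorem U33.ncard_obj : (Obj N).ncard ≤ 592 := by
  have h1 := Set.ncard_union_le ({P : Subgroup N | ∃ S : Sylow 3 N, P = S} ∪ {P : Subgroup N | Nat.card P = 7} ∪
    {P : Subgroup N | Nat.card P = 2} ∪ TF N) (KT N)
  have h2 := Set.ncard_union_le ({P : Subgroup N | ∃ S : Sylow 3 N, P = S} ∪ {P : Subgroup N | Nat.card P = 7} ∪
    {P : Subgroup N | Nat.card P = 2}) (TF N)
  have h3 := Set.ncard_union_le ({P : Subgroup N | ∃ S : Sylow 3 N, P = S} ∪ {P : Subgroup N | Nat.card P = 7})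
    {P : Subgroup N | Nat.card P = 2}
  have h4 := Set.ncard_union_le {P : Subgroup N | ∃ S : Sylow 3 N, P = S} {P : Subgroup N | Nat.card P = 7}
  have a1 := h.ncard_syl
  have a2 := h.ncard_seven
  have a3 := h.ncard_two
  have a4 := h.ncard_TF
  have a5 := h.ncard_KT
  unfold Obj
  omega

theorem U33.obj_ne {O : Subgroup N} (hO : O ∈ Obj N) : O ≠ ⊥ ∧ O ≠ ⊤ := by
  have := h.finite
  have := Fact.mk Nat.prime_three
  have key : ∀ n : ℕ, Nat.card O = n → 1 < n → n < 6048 → O ≠ ⊥ ∧ O ≠ ⊤ := by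
    intro n hn h1 h2
    constructor
    · rintro rfl
      rw [card_bot] at hn
      omega
    · rintro rfl
      rw [card_top, h.card] at hn
      omega
  rcases hO with (((⟨S, rfl⟩ | hO) | hO) | hO) | hO
  · have h3 : Nat.card (S : Subgroup N) ∣ 27 := by
      obtain ⟨k, hk⟩ := IsPGroup.iff_card.1 S.isPGroup'
      have h4 : Nat.card (S : Subgroup N) ∣ 6048 := h.card_dvd _
      rw [hk] at h4 ⊢
      have h5 : (3 ^ k).Coprime 224 := Nat.Coprime.pow_left _ (by norm_num)
      exact h5.dvd_of_dvd_mul_left (show 3 ^ k ∣ 224 * 27 from h4)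
    have h4 : 3 ∣ Nat.card (S : Subgroup N) := S.dvd_card_of_dvd_card (by rw [h.card]; norm_num)
    have h5 := Nat.le_of_dvd (by norm_num) h3
    refine key _ rfl ?_ (by omega)
    have := Nat.le_of_dvd Nat.card_pos h4
    omega
  · exact key 7 hO (by norm_num) (by norm_num)
  · exact key 2 hO (by norm_num) (by norm_num)
  · exact key 4 hO.1 (by norm_num) (by norm_num)
  · exact key 168 hO.1 (by norm_num) (by norm_num)

end Cfsg.Agent.H119.EP
end

-- part: H119/EP/UExists
section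
/-!
# Every subgroup of `U₃(3)` has an invariant object (helper119, task 5949)
-/

set_option autoImplicit false
set_option linter.unusedSectionVars false

namespace Cfsg.Agent.H119.EP

open Subgroup Cfsg
open Cfsg.Agent.Lib.Cores (pCore_normal pCore_isPGroup le_pCore pCore_characteristic)

section general

variable {N : Type*} [Group N]

/-- images of characteristic subgroups -/
theorem char_map [Finite N] {M : Subgroup N} {τ : MulAut N} (hτ : M.map τ.toMonoidHom = M) (C : Subgroup M)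
    (hC : C.Characteristic) : (C.map M.subtype).map τ.toMonoidHom = C.map M.subtype := by
  let τM : M ≃* M := (τ.subgroupMap M).trans (MulEquiv.subgroupCongr hτ)
  have h1 : ∀ m : M, ((τM m : M) : N) = τ m := fun m => rfl
  apply eq_of_le_of_card_ge
  · rintro _ ⟨_, ⟨c, hc, rfl⟩, rfl⟩
    have h2 : τM c ∈ C := by
      have h3 := characteristic_iff_map_eq.1 hC τM
      rw [← h3]
      exact ⟨c, hc, rfl⟩
    exact ⟨τM c, h2, h1 c⟩
  · rw [card_map_of_injective (K := C.map M.subtype) (f := τ.toMonoidHom) τ.injective]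

/-- `Ω₁(Z(O₂(M)))` -/
def Om (M : Type*) [Group M] : Subgroup M where
  carrier := {x | x ∈ pCore 2 M ∧ (∀ y ∈ pCore 2 M, x * y = y * x) ∧ x * x = 1}
  one_mem' := ⟨one_mem _, fun y _ => by rw [one_mul, mul_one], one_mul 1⟩
  mul_mem' := by
    rintro a b ⟨ha, ha1, ha2⟩ ⟨hb, hb1, hb2⟩
    refine ⟨mul_mem ha hb, fun y hy => ?_, ?_⟩
    · rw [mul_assoc, hb1 y hy, ← mul_assoc, ha1 y hy, mul_assoc]
    · rw [mul_assoc, ← mul_assoc b a b, ← ha1 b hb, mul_assoc a b b, hb2, mul_one, ha2]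
  inv_mem' := by
    rintro a ⟨ha, ha1, ha2⟩
    refine ⟨inv_mem ha, fun y hy => ?_, ?_⟩
    · rw [inv_mul_eq_iff_eq_mul, ← mul_assoc, ha1 y hy, mul_inv_cancel_right]
    · rw [← mul_inv_rev, ha2, inv_one]

theorem Om_char (M : Type*) [Group M] : (Om M).Characteristic := by
  rw [characteristic_iff_le_comap]
  intro φ x hx
  have h1 : ∀ y, φ y ∈ pCore 2 M ↔ y ∈ pCore 2 M := by
    intro y
    have h2 := characteristic_iff_comap_eq.1 (pCore_characteristic (G := M) 2) φ
    have h3 : y ∈ (pCore 2 M).comap φ.toMonoidHom ↔ y ∈ pCore 2 M := by rw [h2]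
    exact h3
  refine ⟨(h1 x).2 hx.1, fun y hy => ?_, ?_⟩
  · obtain ⟨w, rfl⟩ := φ.surjective y
    show φ x * φ w = φ w * φ x
    rw [← map_mul, ← map_mul, hx.2.1 w ((h1 w).1 hy)]
  · show φ x * φ x = 1
    rw [← map_mul, hx.2.2, map_one]

theorem Om_ne {M : Type*} [Group M] [Finite M] (h : pCore 2 M ≠ ⊥) : Om M ≠ ⊥ := by
  have := Fact.mk Nat.prime_two
  have h1 : Nontrivial (pCore 2 M) := (nontrivial_iff_ne_bot _).2 h
  have hp := pCore_isPGroup (G := M) 2
  have h2 := hp.center_nontrivial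
  have h3 : 2 ∣ Nat.card (center (pCore 2 M)) := by
    obtain ⟨k, hk⟩ := IsPGroup.iff_card.1 (hp.to_subgroup (center (pCore 2 M)))
    rw [hk]
    apply dvd_pow_self
    rintro rfl
    have := Finite.one_lt_card_iff_nontrivial.2 h2
    rw [hk] at this
    simp at this
  obtain ⟨z, hz⟩ := exists_prime_orderOf_dvd_card' 2 h3
  intro e
  have hzz : ((z : pCore 2 M) : M) * ((z : pCore 2 M) : M) = 1 := by
    have h1 := pow_orderOf_eq_one z
    rw [hz, pow_two] at h1
    exact congrArg (fun t : center (pCore 2 M) => ((t : pCore 2 M) : M)) h1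
  have h4 : ((z : pCore 2 M) : M) ∈ Om M := by
    refine ⟨(z : pCore 2 M).2, fun y hy => ?_, hzz⟩
    exact (congrArg Subtype.val (mem_center_iff.1 z.2 ⟨y, hy⟩)).symm
  rw [e, mem_bot] at h4
  have h5 : z = 1 := Subtype.ext (Subtype.ext h4)
  rw [h5, orderOf_one] at hz
  omega

theorem exists_pow_mul {n a b : ℕ} (h : n ∣ 2 ^ a * 3 ^ b) : ∃ i j, n = 2 ^ i * 3 ^ j := by
  obtain ⟨x, y, hx, hy, rfl⟩ := (Nat.dvd_mul).1 h
  obtain ⟨i, _, rfl⟩ := (Nat.dvd_prime_pow Nat.prime_two).1 hx
  obtain ⟨j, _, rfl⟩ := (Nat.dvd_prime_pow Nat.prime_three).1 hy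
  exact ⟨i, j, rfl⟩

theorem solvable_of_dvd {M : Type*} [Group M] [Finite M] (h : Nat.card M ∣ 864) : Group.IsSolvable M := by
  obtain ⟨i, j, hij⟩ := exists_pow_mul (a := 5) (b := 3) (n := Nat.card M) h
  exact Cfsg.Agent.S0144.result 2 3 i j Nat.prime_two Nat.prime_three hij

end general

variable {N : Type*} [Group N] (h : U33 N)

include h

theorem U33.obj_seven (M : Subgroup N) (hM : pCore 7 M ≠ ⊥) :
    ∃ O ∈ Obj N, ∀ τ : MulAut N, M.map τ.toMonoidHom = M → O.map τ.toMonoidHom = O := by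
  have := h.finite
  refine ⟨(pCore 7 M).map M.subtype, ?_, fun τ hτ => char_map hτ _ (pCore_characteristic 7)⟩
  refine Or.inl (Or.inl (Or.inl (Or.inr ?_)))
  show Nat.card ((pCore 7 M).map M.subtype) = 7
  have h1 := h.card_dvd ((pCore 7 M).map M.subtype)
  rw [card_map_of_injective (subtype_injective M)] at h1 ⊢
  obtain ⟨k, hk⟩ := IsPGroup.iff_card.1 (pCore_isPGroup (G := M) 7)
  rw [hk] at h1 ⊢
  rcases k with _ | _ | k
  · exfalso
    apply hM
    rw [← card_eq_one, hk]
    rfl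
  · rfl
  · exfalso
    have h3 : 7 ^ 2 ∣ 6048 := (pow_dvd_pow 7 (by omega : 2 ≤ k + 1 + 1)).trans h1
    revert h3
    norm_num

theorem U33.obj_three (M : Subgroup N) (hM : pCore 3 M ≠ ⊥) :
    ∃ O ∈ Obj N, ∀ τ : MulAut N, M.map τ.toMonoidHom = M → O.map τ.toMonoidHom = O := by
  have := h.finite
  have := Fact.mk Nat.prime_three
  have hRp : IsPGroup 3 ((pCore 3 M).map M.subtype) := (pCore_isPGroup (G := M) 3).map _
  obtain ⟨S, hS⟩ := hRp.exists_le_sylow
  refine ⟨S, Or.inl (Or.inl (Or.inl (Or.inl ⟨S, rfl⟩))), fun τ hτ => ?_⟩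
  have h1 := char_map hτ _ (pCore_characteristic (G := M) 3)
  have hne : (pCore 3 M).map M.subtype ≠ ⊥ := by
    intro e
    rw [map_eq_bot_iff_of_injective _ (subtype_injective M)] at e
    exact hM e
  set R := (pCore 3 M).map M.subtype
  obtain ⟨x, hx, hx1⟩ : ∃ x ∈ R, x ≠ 1 := by
    by_contra hcon
    push Not at hcon
    exact hne ((eq_bot_iff_forall _).2 hcon)
  have hS2 : IsPGroup 3 ((S : Subgroup N).map τ.toMonoidHom) := S.isPGroup'.map _
  obtain ⟨T, hT⟩ := hS2.exists_le_sylow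
  have h2 : τ x ∈ R := by
    rw [← h1]
    exact ⟨x, hx, rfl⟩
  have h3 : S = T := h.ti S T (τ x) (by
    intro e
    exact hx1 ((map_eq_one_iff τ τ.injective).1 e)) (hS h2) (hT ⟨x, hS hx, rfl⟩)
  apply eq_of_le_of_card_ge
  · rw [h3] at hT ⊢
    exact hT
  · rw [card_map_of_injective (K := (S : Subgroup N)) (f := τ.toMonoidHom) τ.injective]

theorem U33.obj_two (M : Subgroup N) (hM : pCore 2 M ≠ ⊥) :
    ∃ O ∈ Obj N, ∀ τ : MulAut N, M.map τ.toMonoidHom = M → O.map τ.toMonoidHom = O := by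
  have := h.finite
  refine ⟨(Om M).map M.subtype, ?_, fun τ hτ => char_map hτ _ (Om_char M)⟩
  have h1 : ∀ v ∈ (Om M).map M.subtype, v * v = 1 := by
    rintro _ ⟨v, hv, rfl⟩
    exact congrArg Subtype.val hv.2.2
  have h2 := h.el _ h1
  have hp : IsPGroup 2 ((Om M).map M.subtype) := by
    intro v
    refine ⟨1, ?_⟩
    rw [pow_one, pow_two]
    exact Subtype.ext (h1 v v.2)
  obtain ⟨k, hk⟩ := IsPGroup.iff_card.1 hp
  have hne : (Om M).map M.subtype ≠ ⊥ := by
    intro e
    rw [map_eq_bot_iff_of_injective _ (subtype_injective M)] at e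
    exact Om_ne hM e
  have hk3 : k < 3 := by
    by_contra hcon
    have h3 : 2 ^ 3 ≤ 2 ^ k := Nat.pow_le_pow_right (by norm_num) (by omega)
    omega
  interval_cases k
  · exfalso
    apply hne
    rw [← card_eq_one, hk]
    rfl
  · refine Or.inl (Or.inl (Or.inr ?_))
    exact hk
  · refine Or.inl (Or.inr ⟨hk, h1⟩)

theorem U33.exists_obj (M : Subgroup N) (hM : M ≠ ⊥) (hM' : M ≠ ⊤) :
    ∃ O ∈ Obj N, ∀ τ : MulAut N, M.map τ.toMonoidHom = M → O.map τ.toMonoidHom = O := by
  have := h.finite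
  by_cases h2 : pCore 2 M ≠ ⊥
  · exact h.obj_two M h2
  by_cases h3 : pCore 3 M ≠ ⊥
  · exact h.obj_three M h3
  by_cases h7 : pCore 7 M ≠ ⊥
  · exact h.obj_seven M h7
  rw [not_not] at h2 h3 h7
  have hnt : Nontrivial M := (nontrivial_iff_ne_bot M).2 hM
  have hns : ¬ Group.IsSolvable M := by
    intro hs
    obtain ⟨r, hr, hne⟩ := Cfsg.Agent.H479.GoodEight.exists_pCore hs
    have := Fact.mk hr
    have h4 : r ∣ 6048 := by
      obtain ⟨k, hk⟩ := IsPGroup.iff_card.1 (pCore_isPGroup (G := M) r)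
      have h5 : Nat.card (pCore r M) ∣ 6048 := (card_subgroup_dvd_card _).trans (h.card_dvd M)
      refine dvd_trans ?_ h5
      rw [hk]
      apply dvd_pow_self
      rintro rfl
      apply hne
      rw [← card_eq_one, hk, pow_zero]
    have h5 : r = 2 ∨ r = 3 ∨ r = 7 := by
      have e : (6048 : ℕ) = 2 ^ 5 * 3 ^ 3 * 7 := by norm_num
      rw [e, hr.dvd_mul, hr.dvd_mul] at h4
      rcases h4 with (h4 | h4) | h4
      · left; exact (Nat.prime_dvd_prime_iff_eq hr Nat.prime_two).1 (hr.dvd_of_dvd_pow h4)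
      · right; left; exact (Nat.prime_dvd_prime_iff_eq hr Nat.prime_three).1 (hr.dvd_of_dvd_pow h4)
      · right; right; exact (Nat.prime_dvd_prime_iff_eq hr (by norm_num)).1 h4
    rcases h5 with rfl | rfl | rfl
    · exact hne h2
    · exact hne h3
    · exact hne h7
  have hd7 : 7 ∣ Nat.card M := by
    by_contra hcon
    apply hns
    apply solvable_of_dvd
    have h4 : (Nat.card M).Coprime 7 := ((Nat.Prime.coprime_iff_not_dvd (by norm_num : Nat.Prime 7)).2 hcon).symm
    exact h4.dvd_of_dvd_mul_right (show Nat.card M ∣ 864 * 7 from h.card_dvd M)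
  obtain ⟨S⟩ : Nonempty (Sylow 7 M) := inferInstance
  have hS7 : Nat.card (S : Subgroup M) = 7 := sylow_card_seven hd7 (h.card_dvd M) S
  have hidx : Nat.card (Sylow 7 M) = (normalizer ((S : Subgroup M) : Set M)).index := S.card_eq_index_normalizer
  -- the normaliser of `S` does not have order 7
  have hnorm : Nat.card (normalizer ((S : Subgroup M) : Set M)) ≠ 7 := by
    intro h4
    have h5 : (S : Subgroup M) = normalizer ((S : Subgroup M) : Set M) :=
      eq_of_le_of_card_ge le_normalizer (by rw [h4, hS7])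
    have hcyc : IsCyclic (S : Subgroup M) := isCyclic_of_prime_card (p := 7) hS7
    have h6 : normalizer ((S : Subgroup M) : Set M) ≤ centralizer ((S : Subgroup M) : Set M) := by
      rw [← h5]
      intro x hx
      rw [mem_centralizer_iff]
      intro y hy
      obtain ⟨g, hg⟩ := hcyc.exists_generator
      obtain ⟨i, hi⟩ := mem_zpowers_iff.1 (hg ⟨x, hx⟩)
      obtain ⟨j, hj⟩ := mem_zpowers_iff.1 (hg ⟨y, hy⟩)
      have h8 : (⟨y, hy⟩ : (S : Subgroup M)) * ⟨x, hx⟩ = ⟨x, hx⟩ * ⟨y, hy⟩ := by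
        rw [← hi, ← hj, ← zpow_add, ← zpow_add, add_comm]
      exact congrArg Subtype.val h8
    have h8 := (MonoidHom.ker_transferSylow_isComplement' S h6).card_mul_card
    rw [show Nat.card (S : Subgroup M) = 7 from hS7] at h8
    set K := (MonoidHom.transferSylow S h6).ker with hK
    have h9 : Group.IsSolvable K := by
      apply solvable_of_dvd
      have h10 := h.card_dvd M
      rw [← h8] at h10
      exact Nat.dvd_of_mul_dvd_mul_right (by norm_num : 0 < 7) (show Nat.card K * 7 ∣ 864 * 7 from h10)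
    apply hns
    have h10 : Group.IsSolvable (M ⧸ K) := by
      have h11 : Nat.card (M ⧸ K) = 7 := by
        have h12 := K.card_mul_index
        rw [← h8] at h12
        exact Nat.eq_of_mul_eq_mul_left Nat.card_pos h12
      have h12 : IsCyclic (M ⧸ K) := isCyclic_of_prime_card (p := 7) h11
      apply Group.isSolvable_of_comm
      intro a b
      obtain ⟨g, hg⟩ := h12.exists_generator
      obtain ⟨i, rfl⟩ := mem_zpowers_iff.1 (hg a)
      obtain ⟨j, rfl⟩ := mem_zpowers_iff.1 (hg b)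
      rw [← zpow_add, ← zpow_add, add_comm]
    exact (Group.isSolvable_iff_subgroup_quotient K).2 ⟨h9, h10⟩
  -- it has order 21
  obtain ⟨P, hP, hPM⟩ : {P : Subgroup N | Nat.card P = 7 ∧ P ≤ M}.Nonempty := by
    refine ⟨(S : Subgroup M).map M.subtype, ?_, map_subtype_le _⟩
    rw [card_map_of_injective (subtype_injective M)]
    exact hS7
  have h4 := h.norm_inf M P hP hPM
  have h5 : Nat.card (normalizer ((S : Subgroup M) : Set M)) =
      Nat.card (normalizer (P : Set N) ⊓ M : Subgroup N) := by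
    have h6 := (normalizer ((S : Subgroup M) : Set M)).index_mul_card
    rw [← hidx, ← h4] at h6
    exact Nat.eq_of_mul_eq_mul_left Nat.card_pos h6
  have h6 : Nat.card (normalizer (P : Set N) ⊓ M : Subgroup N) ∣ 21 := by
    rw [← h.card_norm P hP]
    exact card_dvd_of_le inf_le_left
  have h8 : 7 ∣ Nat.card (normalizer (P : Set N) ⊓ M : Subgroup N) := by
    rw [← hP]
    exact card_dvd_of_le (le_inf le_normalizer hPM)
  have h9 : Nat.card (normalizer (P : Set N) ⊓ M : Subgroup N) = 21 := by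
    obtain ⟨c, hc⟩ := h8
    rw [hc] at h6
    have h10 : c ∣ 3 := Nat.dvd_of_mul_dvd_mul_left (by norm_num : 0 < 7) (show 7 * c ∣ 7 * 3 from h6)
    rcases (Nat.dvd_prime Nat.prime_three).1 h10 with rfl | rfl
    · exfalso
      apply hnorm
      rw [h5, hc]
    · rw [hc]
  rw [h9] at h4
  rcases num_seven hd7 (h.card_dvd M) with h10 | h10 | h10 | h10
  · exfalso
    rw [h10] at hidx
    have h11 : normalizer ((S : Subgroup M) : Set M) = ⊤ := index_eq_one.1 hidx.symm
    have h12 : (S : Subgroup M).Normal := normalizer_eq_top_iff.1 h11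
    have h13 := le_pCore h12 S.isPGroup'
    rw [h7, le_bot_iff] at h13
    rw [h13, card_bot] at hS7
    omega
  · refine ⟨M, Or.inr ⟨?_, h10⟩, fun τ hτ => hτ⟩
    rw [h10] at h4
    omega
  · exfalso
    rw [h10] at h4
    apply h.no_index_eight M
    have h11 := M.card_mul_index
    rw [h.card, ← h4] at h11
    omega
  · exfalso
    rw [h10] at h4
    apply hM'
    apply eq_top_of_card_eq
    rw [h.card, ← h4]

end Cfsg.Agent.H119.EP
end

-- part: H119/EP/UEPT
section
/-!
# Extremely primitive groups whose point stabiliser has socle `U₃(3)` (helper119, task 5949)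
-/

set_option autoImplicit false
set_option linter.unusedSectionVars false

namespace Cfsg.Agent.H119.EP

open Subgroup Cfsg.Agent.H284

section

variable {Q : Type*} [Group Q] [Finite Q] {A : Subgroup Q} {Γ : Subgroup (MulAut Q)} (h : EPT A Γ)
  {N : Subgroup Q} (hNA : N ≤ A) (hNn : ∀ a ∈ A, ∀ n ∈ N, a * n * a⁻¹ ∈ N) (hU : U33 N)
  (hC : ∀ a ∈ A, (∀ n ∈ N, a * n = n * a) → a = 1)

include hU in
theorem N_ne : N ≠ ⊥ := by
  intro e
  have h1 := hU.card
  rw [e, card_bot] at h1
  omega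

include hU in
theorem N_not_comm (hcomm : ∀ a ∈ N, ∀ b ∈ N, a * b = b * a) : False := by
  have := hU.finite
  have := Fact.mk (show Nat.Prime 7 by norm_num)
  obtain ⟨g, hg⟩ := exists_prime_orderOf_dvd_card' (G := N) 7 (by rw [hU.card]; norm_num)
  have h1 := hU.card_norm (zpowers g) (by rw [Nat.card_zpowers, hg])
  have h2 : normalizer ((zpowers g : Subgroup N) : Set N) = ⊤ := by
    rw [eq_top_iff']
    intro x
    rw [mem_normalizer_iff]
    intro y
    have h3 : x * y * x⁻¹ = y := by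
      have h4 := Subtype.ext (hcomm x x.2 y y.2) (a1 := x * y) (a2 := y * x)
      rw [h4, mul_inv_cancel_right]
    rw [h3]
  rw [h2, card_top, hU.card] at h1
  omega

include h hNA hNn hU hC

theorem inv_N : ∀ σ ∈ Γ, ∀ n ∈ N, σ n ∈ N := by
  intro σ hσ
  have := hU.simple
  have hσA : ∀ a ∈ A, σ a ∈ A := fun a ha => (h.inv σ hσ a).2 ha
  have hσA' : ∀ a ∈ A, σ⁻¹ a ∈ A := fun a ha => (h.inv _ (inv_mem hσ) a).2 ha
  -- `σ N` is normalised by `A`
  have h1 : ∀ a ∈ A, ∀ m ∈ N.map σ.toMonoidHom, a * m * a⁻¹ ∈ N.map σ.toMonoidHom := by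
    rintro a ha _ ⟨n, hn, rfl⟩
    refine ⟨σ⁻¹ a * n * (σ⁻¹ a)⁻¹, hNn _ (hσA' a ha) n hn, ?_⟩
    show σ (σ⁻¹ a * n * (σ⁻¹ a)⁻¹) = a * σ n * a⁻¹
    rw [map_mul, map_mul, map_inv, MulAut.apply_inv_self]
  have hn : ((N.map σ.toMonoidHom).subgroupOf N).Normal := by
    constructor
    intro m hm g
    exact h1 _ (hNA g.2) _ hm
  rcases hn.eq_bot_or_eq_top with h2 | h2
  · exfalso
    apply N_ne hU
    rw [eq_bot_iff_forall]
    intro n hn
    have h3 : σ n = 1 := by
      apply hC _ (hσA n (hNA hn))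
      intro m hm
      have h4 : σ n * m * (σ n)⁻¹ * m⁻¹ ∈ N := N.mul_mem (hNn _ (hσA n (hNA hn)) m hm) (N.inv_mem hm)
      have h5 : σ n * m * (σ n)⁻¹ * m⁻¹ ∈ N.map σ.toMonoidHom := by
        have h6 := h1 m (hNA hm) _ (inv_mem (show σ n ∈ N.map σ.toMonoidHom from ⟨n, hn, rfl⟩))
        have h7 := mul_mem (show σ n ∈ N.map σ.toMonoidHom from ⟨n, hn, rfl⟩) h6
        have e : σ n * (m * (σ n)⁻¹ * m⁻¹) = σ n * m * (σ n)⁻¹ * m⁻¹ := by group
        rwa [e] at h7
      have h6 : (⟨_, h4⟩ : N) ∈ (N.map σ.toMonoidHom).subgroupOf N := h5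
      rw [h2, mem_bot] at h6
      have h7 : σ n * m * (σ n)⁻¹ * m⁻¹ = 1 := congrArg Subtype.val h6
      rw [mul_inv_eq_one, mul_inv_eq_iff_eq_mul] at h7
      exact h7
    exact (map_eq_one_iff σ σ.injective).1 h3
  · rw [subgroupOf_eq_top] at h2
    have h3 : N = N.map σ.toMonoidHom := by
      apply eq_of_le_of_card_ge h2
      rw [card_map_of_injective (K := N) (f := σ.toMonoidHom) σ.injective]
    intro n hn
    rw [h3]
    exact ⟨n, hn, rfl⟩

omit h in
theorem card_A (hAut : Nat.card (MulAut N) ≤ 12096) : Nat.card A ≤ 12096 := by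
  have hn : (N.subgroupOf A).Normal := by
    constructor
    intro m hm g
    exact hNn _ g.2 _ hm
  have h1 : Function.Injective (MulAut.conjNormal : A →* MulAut (N.subgroupOf A)) := by
    rw [injective_iff_map_eq_one]
    intro a ha
    apply Subtype.ext
    apply hC _ a.2
    intro n hn
    have h2 := congrArg (fun φ : MulAut (N.subgroupOf A) => ((φ ⟨⟨n, hNA hn⟩, hn⟩ : A) : Q)) ha
    simp only [MulAut.conjNormal_apply, MulAut.one_apply] at h2
    have h3 : (a : Q) * n * (a : Q)⁻¹ = n := h2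
    rwa [mul_inv_eq_iff_eq_mul] at h3
  have h2 := Nat.card_le_card_of_injective _ h1
  have h3 : Nat.card (MulAut (N.subgroupOf A)) = Nat.card (MulAut N) :=
    Nat.card_congr (MulAut.congr (subgroupOfEquivOfLe hNA)).toEquiv
  omega

theorem inf_ne (hAut : Nat.card (MulAut N) ≤ 12096) {x : Q} (hx : x ∉ A) : (cj x A).subgroupOf N ≠ ⊥ := by
  intro e
  have := hU.simple
  have hcA := card_A hNA hNn hU hC hAut
  have hinf : ∀ y ∈ N, y ∈ cj x A → y = 1 := by
    intro y hy hy2
    have h1 : (⟨y, hy⟩ : N) ∈ (cj x A).subgroupOf N := hy2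
    rw [e, mem_bot] at h1
    exact congrArg Subtype.val h1
  have h1 : Nat.card (A ⊓ cj x A : Subgroup Q) ≤ 2 := by
    have h2 : Nat.card ((A ⊓ cj x A : Subgroup Q) × N) ≤ Nat.card A := by
      apply Nat.card_le_card_of_injective
        (fun p => (⟨p.1.1 * p.2.1, A.mul_mem (mem_inf.1 p.1.2).1 (hNA p.2.2)⟩ : A))
      rintro ⟨a, n⟩ ⟨b, m⟩ he
      have e1 : (a : Q) * n = b * m := congrArg Subtype.val he
      have e2 : (b : Q)⁻¹ * a = m * (n : Q)⁻¹ := by
        rw [inv_mul_eq_iff_eq_mul, ← mul_assoc, ← e1, mul_assoc, mul_inv_cancel, mul_one]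
      have e3 : (m : Q) * (n : Q)⁻¹ = 1 := by
        apply hinf _ (N.mul_mem m.2 (N.inv_mem n.2))
        rw [← e2]
        exact mul_mem (inv_mem (mem_inf.1 b.2).2) (mem_inf.1 a.2).2
      rw [e3, inv_mul_eq_one] at e2
      rw [mul_inv_eq_one] at e3
      exact Prod.ext (Subtype.ext e2.symm) (Subtype.ext e3.symm)
    rw [Nat.card_prod, hU.card] at h2
    omega
  have hab : ∀ a ∈ A ⊓ cj x A, ∀ b ∈ A ⊓ cj x A, a * b = b * a := by
    classical
    intro a ha b hb
    rcases eq_or_ne a 1 with rfl | ha1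
    · rw [one_mul, mul_one]
    rcases eq_or_ne b 1 with rfl | hb1
    · rw [one_mul, mul_one]
    rcases eq_or_ne a b with rfl | hne
    · rfl
    exfalso
    have h2 : ({1, a, b} : Set Q) ⊆ ((A ⊓ cj x A : Subgroup Q) : Set Q) := by
      rintro y (rfl | rfl | rfl)
      · exact one_mem _
      · exact ha
      · exact hb
    have h3 := Set.ncard_le_ncard h2 (Set.toFinite _)
    have h4 : ({1, a, b} : Set Q).ncard = 3 := by
      rw [Set.ncard_insert_of_notMem (by simp [ha1.symm, hb1.symm]), Set.ncard_pair hne]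
    rw [h4] at h3
    have h5 : ((A ⊓ cj x A : Subgroup Q) : Set Q).ncard ≤ 2 := h1
    omega
  obtain ⟨K, hKA, hKi, hK1, hKab⟩ := h.abM0 x hx hab
  have hKn : ∀ a ∈ A, ∀ k ∈ K, a * k * a⁻¹ ∈ K := by
    intro a ha k hk
    exact hKi _ ((h.conj a).2 ha) k hk
  have hn : (K.subgroupOf N).Normal := by
    constructor
    intro m hm g
    exact hKn _ (hNA g.2) _ hm
  rcases hn.eq_bot_or_eq_top with h2 | h2
  · apply hK1
    rw [eq_bot_iff_forall]
    intro k hk
    apply hC _ (hKA hk)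
    intro n hn
    have h4 : k * n * k⁻¹ * n⁻¹ ∈ N := N.mul_mem (hNn _ (hKA hk) n hn) (N.inv_mem hn)
    have h5 : k * n * k⁻¹ * n⁻¹ ∈ K := by
      have h7 := K.mul_mem hk (hKn n (hNA hn) _ (K.inv_mem hk))
      have e : k * (n * k⁻¹ * n⁻¹) = k * n * k⁻¹ * n⁻¹ := by group
      rwa [e] at h7
    have h6 : (⟨_, h4⟩ : N) ∈ K.subgroupOf N := h5
    rw [h2, mem_bot] at h6
    have h7 : k * n * k⁻¹ * n⁻¹ = 1 := congrArg Subtype.val h6
    rw [mul_inv_eq_one, mul_inv_eq_iff_eq_mul] at h7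
    exact h7
  · rw [subgroupOf_eq_top] at h2
    exact N_not_comm hU fun a ha b hb => hKab a (h2 ha) b (h2 hb)

theorem exists_O (hAut : Nat.card (MulAut N) ≤ 12096) {x : Q} (hx : x ∉ A) :
    ∃ O ∈ Obj N, A ⊓ cj x A = A ⊓ normalizer ((O.map N.subtype : Subgroup Q) : Set Q) := by
  have := hU.simple
  have hNi := inv_N h hNA hNn hU hC
  have hM1 : (cj x A).subgroupOf N ≠ ⊥ := inf_ne h hNA hNn hU hC hAut hx
  have hM2 : (cj x A).subgroupOf N ≠ ⊤ := by
    intro e
    rw [subgroupOf_eq_top] at e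
    exact N_ne hU (h.F1 x hx N hNA hNi e)
  obtain ⟨O, hO, hOi⟩ := hU.exists_obj _ hM1 hM2
  refine ⟨O, hO, ?_⟩
  have hmem : ∀ n : N, (n : Q) ∈ O.map N.subtype ↔ n ∈ O := by
    intro n
    exact mem_map_iff_mem (subtype_injective N)
  -- the stabiliser of `x A` fixes `O`
  have key : ∀ σ ∈ Γ, x⁻¹ * σ x ∈ A → ∀ k, σ k ∈ O.map N.subtype ↔ k ∈ O.map N.subtype := by
    intro σ hσ hσx k
    let τ : MulAut N :=
      { toFun := fun n => ⟨σ n, hNi σ hσ n n.2⟩
        invFun := fun n => ⟨σ⁻¹ n, hNi _ (inv_mem hσ) n n.2⟩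
        left_inv := fun n => Subtype.ext (MulAut.inv_apply_self Q σ n)
        right_inv := fun n => Subtype.ext (MulAut.apply_inv_self Q σ n)
        map_mul' := fun n m => Subtype.ext (map_mul σ (n : Q) m) }
    have hτ : ((cj x A).subgroupOf N).map τ.toMonoidHom = (cj x A).subgroupOf N := by
      apply eq_of_le_of_card_ge
      · rintro _ ⟨n, hn, rfl⟩
        exact (mem_inf.1 (h.stab_M0 hσ hσx ⟨hNA n.2, hn⟩)).2
      · rw [card_map_of_injective (K := (cj x A).subgroupOf N) (f := τ.toMonoidHom) τ.injective]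
    have h1 := hOi τ hτ
    constructor
    · rintro ⟨n, hn, e⟩
      have hn' := hn
      rw [← h1] at hn'
      obtain ⟨m, hm, e2⟩ := hn'
      have e3 : σ (m : Q) = n := congrArg Subtype.val e2
      have e4 : k = m := σ.injective (e.symm.trans e3.symm)
      rw [e4]
      exact ⟨m, hm, rfl⟩
    · rintro ⟨n, hn, rfl⟩
      have h2 : τ n ∈ O := by
        rw [← h1]
        exact ⟨n, hn, rfl⟩
      exact ⟨τ n, h2, rfl⟩
  let L : Subgroup (MulAut Q) :=
    { carrier := {σ | σ ∈ Γ ∧ ∀ k, σ k ∈ O.map N.subtype ↔ k ∈ O.map N.subtype}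
      one_mem' := ⟨one_mem _, fun k => Iff.rfl⟩
      mul_mem' := fun {a b} ha hb => ⟨mul_mem ha.1 hb.1, fun k => by
        rw [MulAut.mul_apply, ha.2, hb.2]⟩
      inv_mem' := fun {a} ha => ⟨inv_mem ha.1, fun k => by
        rw [← ha.2 (a⁻¹ k), MulAut.apply_inv_self]⟩ }
  have hnorm : ∀ a : Q, a ∈ normalizer ((O.map N.subtype : Subgroup Q) : Set Q) ↔
      ∀ k, MulAut.conj a k ∈ O.map N.subtype ↔ k ∈ O.map N.subtype := by
    intro a
    rw [mem_normalizer_iff]
    exact forall_congr' fun k => Iff.comm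
  rcases h.two x hx L (fun σ hσ => hσ.1) (fun σ hσ hσx => ⟨hσ, key σ hσ hσx⟩) with h1 | h1
  · exfalso
    have hn : O.Normal := by
      constructor
      intro o ho g
      have h2 : MulAut.conj (g : Q) ∈ L := by
        rw [h1]
        exact (h.conj _).2 (hNA g.2)
      have h3 := (h2.2 (o : Q)).2 ((hmem o).2 ho)
      rw [← hmem]
      exact h3
    rcases hn.eq_bot_or_eq_top with h2 | h2
    · exact (hU.obj_ne hO).1 h2
    · exact (hU.obj_ne hO).2 h2
  · ext a
    rw [mem_inf, mem_inf]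
    refine and_congr_right fun ha => ?_
    rw [hnorm, ← h.conj_stab ha]
    constructor
    · intro h2
      exact key _ ((h.conj a).2 ha) h2
    · intro h2
      exact h1 _ ⟨(h.conj a).2 ha, h2⟩

theorem index_le_of (hAut : Nat.card (MulAut N) ≤ 12096) : A.index ≤ 379000 := by
  have := hU.finite
  have h1 : {M : Subgroup Q | ∃ x, x ∉ A ∧ M = A ⊓ cj x A} ⊆
      (fun O : Subgroup N => A ⊓ normalizer ((O.map N.subtype : Subgroup Q) : Set Q)) '' Obj N := by
    rintro _ ⟨x, hx, rfl⟩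
    obtain ⟨O, hO, e⟩ := exists_O h hNA hNn hU hC hAut hx
    exact ⟨O, hO, e.symm⟩
  have h2 := (Set.ncard_le_ncard h1 (Set.toFinite _)).trans (Set.ncard_image_le (Set.toFinite _))
  have h3 := h2.trans hU.ncard_obj
  have h4 := h.index_le
  have h5 := Nat.pow_le_pow_left h3 2
  omega

end

end Cfsg.Agent.H119.EP
end

-- part: H119/EP/ULin
section
/-!
# Linear algebra for `SU₃(3)` (helper119, task 5949)
-/

set_option autoImplicit false
set_option linter.unusedSectionVars false

namespace Cfsg.Agent.H119.EP.Lin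

open Matrix Cfsg Module
open Cfsg.Agent.LieClassical.HermBasic
open Cfsg.Agent.LieClassical.HermSiegel (mat mat_def act_def act_one act_mul act_smul act_add act_sub act_zero ext_act
  act_eq_zero herm_act act_inv_act)
open Cfsg.Agent.GTwoOdd.Core.HFiveB (emb negOne emb_negOne)

/-- the action of `SU` on vectors -/
local notation "ac" => Cfsg.Agent.LieClassical.HermSiegel.act

variable {F : Type*} [Field F] [Fintype F] (hF : Fintype.card F = 3 ^ 2)

/-- the functional `h(·, u)` -/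
def phi (u : Fin 3 → F) : (Fin 3 → F) →ₗ[F] F where
  toFun v := hermForm 3 F 3 v u
  map_add' a b := herm_add_left a b u
  map_smul' c a := herm_smul_left c a u

theorem phi_apply (u v : Fin 3 → F) : phi u v = hermForm 3 F 3 v u := rfl

/-- the fixed vectors -/
def fixS (g : SU 3 F 3) : Submodule F (Fin 3 → F) where
  carrier := {v | ac g v = v}
  add_mem' := by
    intro a b ha hb
    show ac g (a + b) = a + b
    rw [act_add, ha, hb]
  zero_mem' := act_zero g
  smul_mem' := by
    intro c a ha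
    show ac g (c • a) = c • a
    rw [act_smul, ha]

theorem card_le_mod {X : Type*} [Finite X] {p n : ℕ} [hp : Fact p.Prime] (f : X → X) (hf : f^[p ^ n] = id) :
    Nat.card X ≡ Nat.card {x // f x = x} [MOD p] := by
  classical
  have := Fintype.ofFinite X
  have h1 := Equiv.Perm.card_fixedPoints_modEq (α := X) (f := f) (p := p) (n := n) (by
    have h2 : ∀ (f : Function.End X) (k : ℕ), f ^ k = (f : X → X)^[k] := by
      intro f k
      induction k with
      | zero => rfl
      | succ k ih => rw [pow_succ, ih]; rfl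
    exact (h2 f (p ^ n)).trans hf)
  rw [Nat.card_eq_fintype_card, Nat.card_eq_fintype_card]
  exact h1

theorem act_pow (g : SU 3 F 3) (k : ℕ) (v : Fin 3 → F) : ac (g ^ k) v = (ac g)^[k] v := by
  induction k generalizing v with
  | zero => rw [pow_zero, act_one]; rfl
  | succ k ih => rw [pow_succ, act_mul, ih, Function.iterate_succ, Function.comp_apply]

/-- the fixed points of a `p`-element on an invariant subspace -/
theorem fix_mod {p n : ℕ} [hp : Fact p.Prime] {g : SU 3 F 3} (hg : g ^ p ^ n = 1) (W : Submodule F (Fin 3 → F))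
    (hW : ∀ w ∈ W, ac g w ∈ W) : Nat.card W ≡ Nat.card (W ⊓ fixS g : Submodule F (Fin 3 → F)) [MOD p] := by
  let f : W → W := fun w => ⟨ac g w, hW w w.2⟩
  have hfk : ∀ (k : ℕ) (w : W), ((f^[k] w : W) : Fin 3 → F) = (ac g)^[k] w := by
    intro k
    induction k with
    | zero => intro w; rfl
    | succ k ih => intro w; rw [Function.iterate_succ, Function.comp_apply, ih, Function.iterate_succ,
        Function.comp_apply]
  have h1 := card_le_mod (p := p) (n := n) f (by
    funext w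
    apply Subtype.ext
    rw [hfk, ← act_pow, hg, act_one]
    rfl)
  have h2 : Nat.card {x // f x = x} = Nat.card (W ⊓ fixS g : Submodule F (Fin 3 → F)) := by
    apply Nat.card_congr
    exact
      { toFun := fun x => ⟨x.1, x.1.2, congrArg Subtype.val x.2⟩
        invFun := fun x => ⟨⟨x.1, x.2.1⟩, Subtype.ext x.2.2⟩
        left_inv := fun x => rfl
        right_inv := fun x => rfl }
  rw [← h2]
  exact h1

include hF

theorem card_sub (W : Submodule F (Fin 3 → F)) : Nat.card W = 9 ^ finrank F W := by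
  rw [Module.natCard_eq_pow_finrank (K := F), Nat.card_eq_fintype_card, hF]
  norm_num

theorem pow_eight {l : F} (hl : l ≠ 0) : l ^ 8 = 1 := by
  have h1 := FiniteField.pow_card_sub_one_eq_one l hl
  rw [hF] at h1
  exact h1

theorem eq_one_of_pow_seven {l : F} (hl : l ^ 7 = 1) : l = 1 := by
  have h0 : l ≠ 0 := by
    rintro rfl
    simp at hl
  have h1 := pow_eight hF h0
  rw [pow_succ, hl, one_mul] at h1
  exact h1

theorem eq_one_of_pow_three {l : F} {n : ℕ} (hl : l ^ 3 ^ n = 1) : l = 1 := by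
  have h0 : l ≠ 0 := by
    rintro rfl
    rw [zero_pow (by positivity)] at hl
    exact zero_ne_one hl
  have h1 := pow_eight hF h0
  have h2 : orderOf l ∣ 3 ^ n := orderOf_dvd_of_pow_eq_one hl
  have h3 : orderOf l ∣ 8 := orderOf_dvd_of_pow_eq_one h1
  have h4 : (3 ^ n).Coprime 8 := Nat.Coprime.pow_left _ (by norm_num)
  have h5 : orderOf l = 1 := Nat.eq_one_of_dvd_coprimes h4 h2 h3
  exact orderOf_eq_one_iff.1 h5

theorem two_ne : (2 : F) ≠ 0 := by
  intro h2
  have h3 : (3 : F) ^ 2 = 0 := by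
    have h4 := FiniteField.cast_card_eq_zero F
    rw [hF] at h4
    exact_mod_cast h4
  have h5 : (1 : F) = 0 := by linear_combination h3 - 4 * h2
  exact one_ne_zero h5

theorem fix_eq_one {g : SU 3 F 3} (h : finrank F (fixS g) = 3) : g = 1 := by
  have h1 : fixS g = ⊤ := Submodule.eq_top_of_finrank_eq (by rw [h, Module.finrank_fin_fun])
  apply ext_act
  intro v
  rw [act_one]
  have h2 : v ∈ fixS g := by rw [h1]; trivial
  exact h2

/-- elements of order 7 have no fixed vector -/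
theorem seven_fix {g : SU 3 F 3} (hg : g ^ 7 = 1) (hg1 : g ≠ 1) {v : Fin 3 → F} (hv : ac g v = v) : v = 0 := by
  have := Fact.mk (show Nat.Prime 7 by norm_num)
  have h1 := fix_mod (p := 7) (n := 1) (g := g) (by rw [pow_one]; exact hg) ⊤ (fun w _ => trivial)
  rw [top_inf_eq, card_sub hF, card_sub hF, finrank_top, Module.finrank_fin_fun] at h1
  have h2 : finrank F (fixS g) ≤ 3 := by
    have := Submodule.finrank_le (fixS g)
    rwa [Module.finrank_fin_fun] at this
  have h3 : finrank F (fixS g) ≠ 3 := fun e => hg1 (fix_eq_one hF e)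
  have h4 : finrank F (fixS g) = 0 := by
    generalize finrank F (fixS g) = k at h1 h2 h3
    interval_cases k
    · rfl
    · exact absurd h1 (by decide)
    · exact absurd h1 (by decide)
    · exact absurd rfl h3
  rw [Submodule.finrank_eq_zero] at h4
  have h5 : v ∈ fixS g := hv
  rw [h4, Submodule.mem_bot] at h5
  exact h5

/-! ### involutions -/

theorem act_std (y : Fin 3 → F) : ac (emb hF (negOne (by decide : Odd 3) hF)) y =
    (2 * hermForm 3 F 3 y (Pi.single 0 1)) • (Pi.single 0 1 : Fin 3 → F) - y := by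
  have e1 : ac (emb hF (negOne (by decide : Odd 3) hF)) y = (emb hF (negOne (by decide : Odd 3) hF)).1.1 *ᵥ y := rfl
  rw [e1, emb_negOne, herm_single_right hF]
  funext i
  fin_cases i
  · simp [Matrix.mulVec, dotProduct, Fin.sum_univ_three]; ring
  · simp [Matrix.mulVec, dotProduct, Fin.sum_univ_three]
  · simp [Matrix.mulVec, dotProduct, Fin.sum_univ_three]

/-- the involutions of `SU_3(3)` are reflections (up to sign) -/
theorem exists_refl {h : SU 3 F 3} (hh : h * h = 1) (h1 : h ≠ 1) :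
    ∃ u : Fin 3 → F, hermForm 3 F 3 u u = 1 ∧ ∀ y, ac h y = (2 * hermForm 3 F 3 y u) • u - y := by
  obtain ⟨x, hx⟩ := Cfsg.Agent.GTwoOdd.CentPSU.exists_conj_SU hF (by decide) hh h1
  refine ⟨ac x (Pi.single 0 1), ?_, fun y => ?_⟩
  · rw [herm_act, herm_single_left]
    simp
  · rw [← hx, act_mul, act_mul, act_std hF]
    have h2 : hermForm 3 F 3 (ac x⁻¹ y) (Pi.single 0 1) = hermForm 3 F 3 y (ac x (Pi.single 0 1)) := by
      rw [← herm_act x, ← act_mul, mul_inv_cancel, act_one]
    rw [h2, act_sub, act_smul, ← act_mul, mul_inv_cancel, act_one]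

/-- commuting distinct reflections are orthogonal -/
theorem orth {h k : SU 3 F 3} {u w : Fin 3 → F} (hu : hermForm 3 F 3 u u = 1) (hw : hermForm 3 F 3 w w = 1)
    (hh : ∀ y, ac h y = (2 * hermForm 3 F 3 y u) • u - y) (hk : ∀ y, ac k y = (2 * hermForm 3 F 3 y w) • w - y)
    (hc : h * k = k * h) (hne : h ≠ k) : hermForm 3 F 3 u w = 0 := by
  by_contra h0
  apply hne
  have h2 := two_ne hF
  set c := hermForm 3 F 3 u w with hcdef
  -- apply both products to `u`
  have e1 : ac (h * k) u = (2 * c) • ((2 * hermForm 3 F 3 w u) • u - w) - u := by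
    rw [act_mul, hk, act_sub, act_smul, hh w, hh u, hu, mul_one, two_smul F u, add_sub_cancel_right]
  have e2 : ac (k * h) u = (2 * c) • w - u := by
    rw [act_mul, hh u, hu, mul_one, two_smul F u, add_sub_cancel_right, hk]
  rw [hc, e2] at e1
  have e3 : (2 * c) • w = (2 * c) • ((2 * hermForm 3 F 3 w u) • u - w) := by
    have := sub_left_inj.1 e1
    exact this
  have h2c : 2 * c ≠ 0 := mul_ne_zero h2 h0
  have e4 : w = (2 * hermForm 3 F 3 w u) • u - w := by
    have := congrArg (fun v => (2 * c)⁻¹ • v) e3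
    simpa only [smul_smul, inv_mul_cancel₀ h2c, one_smul] using this
  have e5 : w = (hermForm 3 F 3 w u) • u := by
    have e6 : (2 : F) • w = (2 : F) • ((hermForm 3 F 3 w u) • u) := by
      rw [two_smul]
      nth_rewrite 1 [e4]
      rw [sub_add_cancel, smul_smul]
    have := congrArg (fun v => (2 : F)⁻¹ • v) e6
    simpa only [smul_smul, inv_mul_cancel₀ h2, one_smul, ← mul_assoc, one_mul] using this
  set d := hermForm 3 F 3 w u with hd
  have hdd : d * d ^ 3 = 1 := by
    rw [e5, herm_smul_left, herm_smul_right, hu, mul_one] at hw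
    exact hw
  apply ext_act
  intro y
  rw [hh, hk, e5, herm_smul_right, smul_smul]
  congr 2
  linear_combination (-2 * hermForm 3 F 3 y u) * hdd

end Cfsg.Agent.H119.EP.Lin
end

-- part: H119/EP/ULin2
section
/-!
# Linear algebra for `SU₃(3)`, continued (helper119, task 5949)
-/

set_option autoImplicit false
set_option linter.unusedSectionVars false

namespace Cfsg.Agent.H119.EP.Lin

open Matrix Cfsg Module
open Cfsg.Agent.LieClassical.HermBasic
open Cfsg.Agent.LieClassical.HermSiegel (mat mat_def act_def act_one act_mul act_smul act_add act_sub act_zero ext_act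
  act_eq_zero herm_act act_inv_act)
open Cfsg.Agent.H929.U3 (Stab mem_Stab card_SU3 card_Stab eq_smul_of_orth exists_act)
open Cfsg.Agent.ClassicalGeometry.UnitAutBasic (pr pr_surjective exists_scalar_of_mem_center)

/-- the action of `SU` on vectors -/
local notation "ac" => Cfsg.Agent.LieClassical.HermSiegel.act

variable {F : Type*} [Field F] [Fintype F] (hF : Fintype.card F = 3 ^ 2)

include hF

theorem smul_refl {u w : Fin 3 → F} (hu : hermForm 3 F 3 u u = 1) (hw : hermForm 3 F 3 w w = 1) {l : F}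
    (h : w = l • u) (y : Fin 3 → F) : (hermForm 3 F 3 y w) • w = (hermForm 3 F 3 y u) • u := by
  have hdd : l * l ^ 3 = 1 := by
    rw [h, herm_smul_left, herm_smul_right, hu, mul_one] at hw
    exact hw
  rw [h, herm_smul_right, smul_smul]
  congr 1
  linear_combination (hermForm 3 F 3 y u) * hdd

/-- vectors fixed by a reflection -/
theorem fix_refl {z : SU 3 F 3} {u : Fin 3 → F} (hz : ∀ y, ac z y = (2 * hermForm 3 F 3 y u) • u - y) {y : Fin 3 → F}
    (hy : ac z y = y) : y = (hermForm 3 F 3 y u) • u := by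
  have h2 := two_ne hF
  rw [hz, sub_eq_iff_eq_add, ← two_smul F y, mul_smul] at hy
  exact (smul_right_injective _ h2 hy).symm

theorem refl_self {z : SU 3 F 3} {u : Fin 3 → F} (hu : hermForm 3 F 3 u u = 1)
    (hz : ∀ y, ac z y = (2 * hermForm 3 F 3 y u) • u - y) : ac z u = u := by
  rw [hz, hu, mul_one, two_smul, add_sub_cancel_right]

/-- an element commuting with a reflection -/
theorem eigen {z g : SU 3 F 3} {u : Fin 3 → F} (hu : hermForm 3 F 3 u u = 1)
    (hz : ∀ y, ac z y = (2 * hermForm 3 F 3 y u) • u - y) (hc : g * z = z * g) : ∃ l : F, ac g u = l • u := by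
  refine ⟨_, fix_refl hF hz (y := ac g u) ?_⟩
  rw [← act_mul, ← hc, act_mul, refl_self hF hu hz]

omit hF in
theorem eigen_pow {g : SU 3 F 3} {u : Fin 3 → F} {l : F} (h : ac g u = l • u) (k : ℕ) : ac (g ^ k) u = l ^ k • u := by
  induction k with
  | zero => rw [pow_zero, pow_zero, act_one, one_smul]
  | succ k ih => rw [pow_succ, act_mul, h, act_smul, ih, smul_smul, mul_comm, ← pow_succ]

omit hF in
theorem ne_zero_of_norm {u : Fin 3 → F} (hu : hermForm 3 F 3 u u = 1) : u ≠ 0 := by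
  rintro rfl
  rw [herm_zero_left] at hu
  exact zero_ne_one hu

omit hF in
theorem eigen_one {g : SU 3 F 3} {u : Fin 3 → F} (hu : u ≠ 0) {l : F} (h : ac g u = l • u) {k : ℕ} (hg : g ^ k = 1) :
    l ^ k = 1 := by
  have h1 := eigen_pow h k
  rw [hg, act_one] at h1
  have h2 : (l ^ k - 1) • u = 0 := by rw [sub_smul, one_smul, ← h1, sub_self]
  rcases smul_eq_zero.1 h2 with h3 | h3
  · exact sub_eq_zero.1 h3
  · exact absurd h3 hu

/-- no element of order 7 commutes with an involution -/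
theorem seven {g z : SU 3 F 3} (hg : g ^ 7 = 1) (hg1 : g ≠ 1) (hz : z * z = 1) (hc : g * z = z * g) : z = 1 := by
  by_contra hz1
  obtain ⟨u, hu, hzu⟩ := exists_refl hF hz hz1
  obtain ⟨l, hl⟩ := eigen hF hu hzu hc
  have hu0 := ne_zero_of_norm hu
  have h1 := eq_one_of_pow_seven hF (eigen_one hu0 hl hg)
  rw [h1, one_smul] at hl
  exact hu0 (seven_fix hF hg hg1 hl)

theorem finrank_ker_ge (u : Fin 3 → F) : 2 ≤ finrank F (LinearMap.ker (phi u)) := by
  have h1 := LinearMap.finrank_range_add_finrank_ker (phi u)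
  rw [Module.finrank_fin_fun] at h1
  have h2 : finrank F (LinearMap.range (phi u)) ≤ 1 := by
    have := Submodule.finrank_le (LinearMap.range (phi u))
    rwa [Module.finrank_self] at this
  omega

theorem finrank_ker_eq {u : Fin 3 → F} (hu : hermForm 3 F 3 u u ≠ 0) : finrank F (LinearMap.ker (phi u)) = 2 := by
  have h1 := LinearMap.finrank_range_add_finrank_ker (phi u)
  rw [Module.finrank_fin_fun] at h1
  have h2 := finrank_ker_ge hF u
  have h3 : finrank F (LinearMap.range (phi u)) ≠ 0 := by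
    intro e
    rw [Submodule.finrank_eq_zero] at e
    have h4 : phi u u ∈ LinearMap.range (phi u) := ⟨u, rfl⟩
    rw [e, Submodule.mem_bot] at h4
    exact hu h4
  omega

/-- a `3`-element on an invariant subspace -/
theorem exists_fix {n : ℕ} {g : SU 3 F 3} (hg : g ^ 3 ^ n = 1) (W : Submodule F (Fin 3 → F)) (hW0 : 1 ≤ finrank F W)
    (hW : ∀ w ∈ W, ac g w ∈ W) : ∃ w ∈ W, w ≠ 0 ∧ ac g w = w := by
  have := Fact.mk Nat.prime_three
  have h1 := fix_mod hg W hW
  rw [card_sub hF, card_sub hF] at h1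
  have h2 : W ⊓ fixS g ≠ ⊥ := by
    intro e
    rw [e, finrank_bot, pow_zero] at h1
    have h3 : 3 ∣ 9 ^ finrank F W := dvd_trans (by norm_num : 3 ∣ 9) (dvd_pow_self 9 (by omega))
    have h4 : 9 ^ finrank F W % 3 = 1 := h1
    omega
  obtain ⟨w, hw, hw0⟩ := Submodule.exists_mem_ne_zero_of_ne_bot h2
  exact ⟨w, hw.1, hw0, hw.2⟩

/-- the fixed space of an element of order 3 commuting with an involution -/
theorem fix_ge_two {c z : SU 3 F 3} (hc3 : c ^ 3 = 1) (hz : z * z = 1) (hz1 : z ≠ 1) (hc : c * z = z * c) :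
    2 ≤ finrank F (fixS c) := by
  obtain ⟨u, hu, hzu⟩ := exists_refl hF hz hz1
  obtain ⟨l, hl⟩ := eigen hF hu hzu hc
  have hu0 := ne_zero_of_norm hu
  have h1 : l = 1 := eq_one_of_pow_three hF (n := 1) (by rw [pow_one]; exact eigen_one hu0 hl hc3)
  rw [h1, one_smul] at hl
  obtain ⟨w, hw, hw0, hcw⟩ := exists_fix hF (n := 1) (g := c) (by rw [pow_one]; exact hc3) (LinearMap.ker (phi u))
    (by have := finrank_ker_ge hF u; omega) (by
      intro w hw
      rw [LinearMap.mem_ker, phi_apply] at hw ⊢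
      rw [← hl, herm_act]
      exact hw)
  have hli : LinearIndependent F ![u, w] := by
    rw [LinearIndependent.pair_iff]
    intro s t hst
    rw [LinearMap.mem_ker, phi_apply] at hw
    have h3 : hermForm 3 F 3 (s • u + t • w) u = 0 := by rw [hst, herm_zero_left]
    rw [herm_add_left, herm_smul_left, herm_smul_left, hu, hw, mul_one, mul_zero, add_zero] at h3
    refine ⟨h3, ?_⟩
    rw [h3, zero_smul, zero_add] at hst
    rcases smul_eq_zero.1 hst with h4 | h4
    · exact h4
    · exact absurd h4 hw0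
  have h2 : Submodule.span F (Set.range ![u, w]) ≤ fixS c := by
    rw [Submodule.span_le]
    rintro _ ⟨i, rfl⟩
    fin_cases i
    · exact hl
    · exact hcw
  have h3 := Submodule.finrank_mono h2
  rw [finrank_span_eq_card hli] at h3
  exact h3

theorem three {g c z : SU 3 F 3} (hg : g ^ 7 = 1) (hg1 : g ≠ 1) (hc3 : c ^ 3 = 1) (hc1 : c ≠ 1)
    (hcg : c * g * c⁻¹ ∈ Subgroup.zpowers g) (hz : z * z = 1) (hc : c * z = z * c) : z = 1 := by
  by_contra hz1
  have hE := fix_ge_two hF hc3 hz hz1 hc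
  have hE3 : finrank F (fixS c) ≠ 3 := fun e => hc1 (fix_eq_one hF e)
  have hEle : finrank F (fixS c) ≤ 3 := by
    have := Submodule.finrank_le (fixS c)
    rwa [Module.finrank_fin_fun] at this
  -- `g` has the image of the fixed space of `c`
  let E' : Submodule F (Fin 3 → F) := fixS (g * c * g⁻¹)
  have hE' : 2 ≤ finrank F E' := by
    have h1 : 2 ≤ finrank F (fixS (g * c * g⁻¹)) := by
      apply fix_ge_two hF (c := g * c * g⁻¹) (z := g * z * g⁻¹)
      · rw [conj_pow, hc3, mul_one, mul_inv_cancel]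
      · calc g * z * g⁻¹ * (g * z * g⁻¹) = g * (z * z) * g⁻¹ := by group
          _ = 1 := by rw [hz, mul_one, mul_inv_cancel]
      · intro e
        apply hz1
        rw [mul_inv_eq_one] at e
        exact mul_eq_left.1 e
      · calc g * c * g⁻¹ * (g * z * g⁻¹) = g * (c * z) * g⁻¹ := by group
          _ = g * (z * c) * g⁻¹ := by rw [hc]
          _ = g * z * g⁻¹ * (g * c * g⁻¹) := by group
    exact h1
  have h1 := Submodule.finrank_sup_add_finrank_inf_eq (fixS c) E'
  have h2 : finrank F (fixS c ⊔ E' : Submodule F (Fin 3 → F)) ≤ 3 := by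
    have := Submodule.finrank_le (fixS c ⊔ E')
    rwa [Module.finrank_fin_fun] at this
  have h3 : fixS c ⊓ E' ≠ ⊥ := by
    intro e
    rw [e, finrank_bot] at h1
    omega
  obtain ⟨x, hx, hx0⟩ := Submodule.exists_mem_ne_zero_of_ne_bot h3
  -- `t = g c g⁻¹ c⁻¹` fixes `x`
  have hcx : ac c x = x := hx.1
  have hcx' : ac c⁻¹ x = x := by
    conv_lhs => rw [← hcx, act_inv_act]
  have htx : ac (g * c * g⁻¹ * c⁻¹) x = x := by
    rw [act_mul, hcx']
    exact hx.2
  have ht : g * c * g⁻¹ * c⁻¹ ∈ Subgroup.zpowers g := by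
    have e : g * c * g⁻¹ * c⁻¹ = g * (c * g * c⁻¹)⁻¹ := by group
    rw [e]
    exact mul_mem (Subgroup.mem_zpowers g) (inv_mem hcg)
  have ht7 : (g * c * g⁻¹ * c⁻¹) ^ 7 = 1 := by
    obtain ⟨k, hk⟩ := Subgroup.mem_zpowers_iff.1 ht
    rw [← hk, ← zpow_natCast, ← _root_.zpow_mul, mul_comm, _root_.zpow_mul, zpow_natCast, hg, _root_.one_zpow]
  have ht1 : g * c * g⁻¹ * c⁻¹ = 1 := by
    by_contra hne
    exact hx0 (seven_fix hF ht7 hne htx)
  have hcomm : g * c = c * g := by
    rw [mul_inv_eq_one, mul_inv_eq_iff_eq_mul] at ht1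
    exact ht1
  -- `g` acts on the fixed space of `c` without fixed vectors
  have := Fact.mk (show Nat.Prime 7 by norm_num)
  have h4 := fix_mod (p := 7) (n := 1) (g := g) (by rw [pow_one]; exact hg) (fixS c) (by
    intro w hw
    show ac c (ac g w) = ac g w
    rw [← act_mul, ← hcomm, act_mul, show ac c w = w from hw])
  have h5 : fixS c ⊓ fixS g = ⊥ := by
    rw [Submodule.eq_bot_iff]
    intro v hv
    exact seven_fix hF hg hg1 hv.2
  rw [h5, card_sub hF, card_sub hF, finrank_bot] at h4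
  have h6 : finrank F (fixS c) = 2 := by omega
  rw [h6] at h4
  revert h4
  decide

/-! ### counting -/

theorem count8 {α : Type*} [Finite α] (S : Set α) (f : α → (Fin 3 → F)) (T : Set (Fin 3 → F))
    (h0 : ∀ a ∈ S, f a ≠ 0) (h1 : ∀ a ∈ S, ∀ l : F, l ≠ 0 → l • f a ∈ T)
    (h2 : ∀ a ∈ S, ∀ b ∈ S, ∀ l : F, l ≠ 0 → f b = l • f a → a = b) : S.ncard * 8 ≤ T.ncard := by
  apply double S T (fun a v => ∃ l : F, l ≠ 0 ∧ v = l • f a) 8
  · intro a ha
    have h3 : (fun l : F => l • f a) '' {l | l ≠ 0} ⊆ {b | b ∈ T ∧ ∃ l : F, l ≠ 0 ∧ b = l • f a} := by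
      rintro _ ⟨l, hl, rfl⟩
      exact ⟨h1 a ha l hl, l, hl, rfl⟩
    refine le_trans ?_ (Set.ncard_le_ncard h3 (Set.toFinite _))
    rw [Set.ncard_image_of_injective _ (smul_left_injective F (h0 a ha))]
    have h4 : ({l : F | l ≠ 0} : Set F) = {0}ᶜ := rfl
    have h5 := Set.ncard_add_ncard_compl ({0} : Set F) (Set.toFinite _) (Set.toFinite _)
    rw [Set.ncard_singleton, Nat.card_eq_fintype_card, hF] at h5
    rw [h4]
    omega
  · rintro b hb a ha a' ha' ⟨l, hl, e⟩ ⟨l', hl', e'⟩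
    apply h2 a ha a' ha' (l'⁻¹ * l) (mul_ne_zero (inv_ne_zero hl') hl)
    rw [mul_smul, ← e, e', smul_smul, inv_mul_cancel₀ hl', one_smul]

theorem card_V : Nat.card (Fin 3 → F) = 729 := by
  rw [Nat.card_eq_fintype_card, Fintype.card_fun, Fintype.card_fin, hF]
  norm_num

theorem card_iso : {v : Fin 3 → F | hermForm 3 F 3 v v = 0}.ncard = 225 := by
  have h5 := Cfsg.Agent.LieClassical.HermCount.card_isotropic hF 3
  rw [if_neg (by decide)] at h5
  norm_num at h5
  exact h5

theorem inv_le : {z : SU 3 F 3 | z * z = 1 ∧ z ≠ 1}.ncard ≤ 63 := by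
  have key : ∀ z : SU 3 F 3, z * z = 1 ∧ z ≠ 1 →
      ∃ u : Fin 3 → F, hermForm 3 F 3 u u = 1 ∧ ∀ y, ac z y = (2 * hermForm 3 F 3 y u) • u - y :=
    fun z hz => exists_refl hF hz.1 hz.2
  choose! f hf using key
  have h1 := count8 hF {z : SU 3 F 3 | z * z = 1 ∧ z ≠ 1} f {v | hermForm 3 F 3 v v = 0}ᶜ
    (fun z hz => ne_zero_of_norm (hf z hz).1) (by
      intro z hz l hl
      show ¬ hermForm 3 F 3 (l • f z) (l • f z) = 0
      rw [herm_smul_left, herm_smul_right, (hf z hz).1, mul_one]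
      exact mul_ne_zero hl (pow_ne_zero _ hl)) (by
      intro z hz w hw l hl e
      apply ext_act
      intro y
      rw [(hf z hz).2, (hf w hw).2, mul_smul, mul_smul, smul_refl hF (hf z hz).1 (hf w hw).1 e])
  have h2 := Set.ncard_add_ncard_compl {v : Fin 3 → F | hermForm 3 F 3 v v = 0} (Set.toFinite _) (Set.toFinite _)
  rw [card_iso hF, card_V hF] at h2
  omega

theorem comm_le (z : SU 3 F 3) (hz : z * z = 1) (hz1 : z ≠ 1) :
    {w : SU 3 F 3 | w * w = 1 ∧ w ≠ 1 ∧ w ≠ z ∧ w * z = z * w}.ncard ≤ 10 := by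
  obtain ⟨u, hu, hzu⟩ := exists_refl hF hz hz1
  have key : ∀ z : SU 3 F 3, z * z = 1 ∧ z ≠ 1 →
      ∃ u : Fin 3 → F, hermForm 3 F 3 u u = 1 ∧ ∀ y, ac z y = (2 * hermForm 3 F 3 y u) • u - y :=
    fun z hz => exists_refl hF hz.1 hz.2
  choose! f hf using key
  have h1 := count8 hF {w : SU 3 F 3 | w * w = 1 ∧ w ≠ 1 ∧ w ≠ z ∧ w * z = z * w} f
    ((LinearMap.ker (phi u) : Set (Fin 3 → F)) \ {0})
    (fun w hw => ne_zero_of_norm (hf w ⟨hw.1, hw.2.1⟩).1) (by
      intro w hw l hl
      refine ⟨?_, smul_ne_zero hl (ne_zero_of_norm (hf w ⟨hw.1, hw.2.1⟩).1)⟩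
      rw [SetLike.mem_coe, LinearMap.mem_ker, phi_apply, herm_smul_left,
        orth hF (hf w ⟨hw.1, hw.2.1⟩).1 hu (hf w ⟨hw.1, hw.2.1⟩).2 hzu hw.2.2.2 hw.2.2.1, mul_zero]) (by
      intro z hz w hw l hl e
      have hz' := hf z ⟨hz.1, hz.2.1⟩
      have hw' := hf w ⟨hw.1, hw.2.1⟩
      apply ext_act
      intro y
      rw [hz'.2, hw'.2, mul_smul, mul_smul, smul_refl hF hz'.1 hw'.1 e])
  have h2 : (LinearMap.ker (phi u) : Set (Fin 3 → F)).ncard = 81 := by
    have h3 := card_sub hF (LinearMap.ker (phi u))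
    rw [finrank_ker_eq hF (by rw [hu]; exact one_ne_zero)] at h3
    exact h3
  have h3 := Set.ncard_sdiff_singleton_add_one (s := (LinearMap.ker (phi u) : Set (Fin 3 → F))) (a := 0)
    (Submodule.zero_mem _) (Set.toFinite _)
  omega

theorem el (V : Subgroup (SU 3 F 3)) (hV : ∀ v ∈ V, v * v = 1) : Nat.card V ≤ 4 := by
  classical
  have key : ∀ z : SU 3 F 3, z * z = 1 ∧ z ≠ 1 →
      ∃ u : Fin 3 → F, hermForm 3 F 3 u u = 1 ∧ ∀ y, ac z y = (2 * hermForm 3 F 3 y u) • u - y :=
    fun z hz => exists_refl hF hz.1 hz.2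
  choose! f hf using key
  let S : Set (SU 3 F 3) := (V : Set (SU 3 F 3)) \ {1}
  have hS : ∀ s ∈ S, s * s = 1 ∧ s ≠ 1 := fun s hs => ⟨hV s hs.1, hs.2⟩
  have hcomm : ∀ s ∈ S, ∀ t ∈ S, s * t = t * s := by
    intro s hs t ht
    have h8 := hV _ (V.mul_mem hs.1 ht.1)
    have e1 : s * t = (s * t)⁻¹ := by
      rw [eq_inv_iff_mul_eq_one]; exact h8
    have e2 : s⁻¹ = s := (eq_inv_of_mul_eq_one_left (hS s hs).1).symm
    have e3 : t⁻¹ = t := (eq_inv_of_mul_eq_one_left (hS t ht).1).symm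
    rw [e1, _root_.mul_inv_rev, e2, e3]
  have := Fintype.ofFinite S
  have hli : LinearIndependent F (fun s : S => f s) := by
    rw [Fintype.linearIndependent_iff]
    intro c hc s
    have h1 : hermForm 3 F 3 (∑ i, c i • f i) (f s) = 0 := by rw [hc, herm_zero_left]
    rw [herm_sum_left, Finset.sum_eq_single s] at h1
    · rw [herm_smul_left, (hf s (hS s s.2)).1, mul_one] at h1
      exact h1
    · intro t _ hts
      rw [herm_smul_left, orth hF (hf t (hS t t.2)).1 (hf s (hS s s.2)).1 (hf t (hS t t.2)).2 (hf s (hS s s.2)).2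
        (hcomm t t.2 s s.2) (fun e => hts (Subtype.ext e)), mul_zero]
    · intro h2
      exact absurd (Finset.mem_univ _) h2
  have h1 := hli.fintype_card_le_finrank
  rw [Module.finrank_fin_fun] at h1
  have h2 : S.ncard ≤ 3 := by
    rw [← Nat.card_coe_set_eq, Nat.card_eq_fintype_card]
    exact h1
  have h3 := Set.ncard_sdiff_singleton_add_one (s := (V : Set (SU 3 F 3))) (a := 1) (one_mem V) (Set.toFinite _)
  have h4 : (V : Set (SU 3 F 3)).ncard ≤ 4 := by
    have h5 : S.ncard = ((V : Set (SU 3 F 3)) \ {1}).ncard := rfl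
    omega
  exact h4

end Cfsg.Agent.H119.EP.Lin
end

-- part: H119/EP/ULin3
section
/-!
# `U₃(3)` (helper119, task 5949)
-/

set_option autoImplicit false
set_option linter.unusedSectionVars false

namespace Cfsg.Agent.H119.EP

theorem U33.of_equiv {N M : Type*} [Group N] [Group M] (e : N ≃* M) (h : U33 M) : U33 N := by
  have hM := h.finite
  have hN : Finite N := Finite.of_equiv M e.symm.toEquiv
  refine ⟨?_, ?_, ?_, ?_, ?_, ?_, ?_, ?_, ?_⟩
  · rw [Nat.card_congr e.toEquiv, h.card]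
  · have := h.simple
    exact e.isSimpleGroup
  · refine le_trans (Set.ncard_le_ncard_of_injOn e ?_ e.injective.injOn (Set.toFinite _)) h.inv_le
    rintro z ⟨h1, h2⟩
    refine ⟨by rw [← map_mul, h1, map_one], fun e1 => h2 ?_⟩
    exact (map_eq_one_iff e e.injective).1 e1
  · intro z hz hz1
    refine le_trans (Set.ncard_le_ncard_of_injOn e ?_ e.injective.injOn (Set.toFinite _))
      (h.comm_le (e z) (by rw [← map_mul, hz, map_one]) (fun e1 => hz1 ((map_eq_one_iff e e.injective).1 e1)))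
    rintro w ⟨h1, h2, h3, h4⟩
    refine ⟨by rw [← map_mul, h1, map_one], fun e1 => h2 ?_, fun e1 => h3 (e.injective e1), by
      rw [← map_mul, h4, map_mul]⟩
    exact (map_eq_one_iff e e.injective).1 e1
  · intro V hV
    have h1 := h.el (V.map e.toMonoidHom) (by
      rintro _ ⟨v, hv, rfl⟩
      show e v * e v = 1
      rw [← map_mul, hV v hv, map_one])
    rwa [Subgroup.card_map_of_injective (K := V) (f := e.toMonoidHom) e.injective] at h1
  · intro g z hg hg1 hz hc
    have h1 := h.seven (e g) (e z) (by rw [← map_pow, hg, map_one])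
      (fun e1 => hg1 ((map_eq_one_iff e e.injective).1 e1)) (by rw [← map_mul, hz, map_one])
      (by rw [← map_mul, hc, map_mul])
    exact (map_eq_one_iff e e.injective).1 h1
  · intro g c z hg hg1 hc3 hc1 hcg hz hc
    have h1 := h.three (e g) (e c) (e z) (by rw [← map_pow, hg, map_one])
      (fun e1 => hg1 ((map_eq_one_iff e e.injective).1 e1)) (by rw [← map_pow, hc3, map_one])
      (fun e1 => hc1 ((map_eq_one_iff e e.injective).1 e1)) (by
        obtain ⟨k, hk⟩ := Subgroup.mem_zpowers_iff.1 hcg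
        rw [← map_inv, ← map_mul, ← map_mul, ← hk, map_zpow]
        exact Subgroup.mem_zpowers_iff.2 ⟨k, rfl⟩)
      (by rw [← map_mul, hz, map_one]) (by rw [← map_mul, hc, map_mul])
    exact (map_eq_one_iff e e.injective).1 h1
  · intro P Q x hx hP hQ
    have := Fact.mk Nat.prime_three
    have h1 := h.ti (P.mapSurjective (f := e.toMonoidHom) e.surjective)
      (Q.mapSurjective (f := e.toMonoidHom) e.surjective) (e x)
      (fun e1 => hx ((map_eq_one_iff e e.injective).1 e1)) ⟨x, hP, rfl⟩ ⟨x, hQ, rfl⟩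
    have h2 := congrArg (fun S : Sylow 3 M => (S : Subgroup M)) h1
    exact Sylow.ext (Subgroup.map_injective (f := e.toMonoidHom) e.injective h2)
  · have := Fact.mk Nat.prime_three
    refine le_trans (Nat.card_le_card_of_injective
      (fun P : Sylow 3 N => P.mapSurjective (f := e.toMonoidHom) e.surjective) ?_) h.syl
    intro P Q h1
    have h2 := congrArg (fun S : Sylow 3 M => (S : Subgroup M)) h1
    exact Sylow.ext (Subgroup.map_injective (f := e.toMonoidHom) e.injective h2)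

namespace Lin

open Matrix Cfsg Module
open scoped Pointwise
open Cfsg.Agent.LieClassical.HermBasic
open Cfsg.Agent.LieClassical.HermSiegel (mat mat_def act_def act_one act_mul act_smul act_add act_sub act_zero ext_act
  act_eq_zero herm_act act_inv_act)
open Cfsg.Agent.H929.U3 (Stab mem_Stab card_SU3 card_Stab eq_smul_of_orth exists_act)
open Cfsg.Agent.ClassicalGeometry.UnitAutBasic (pr pr_surjective exists_scalar_of_mem_center)

/-- the action of `SU` on vectors -/
local notation "ac" => Cfsg.Agent.LieClassical.HermSiegel.act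

variable {F : Type*} [Field F] [Fintype F] (hF : Fintype.card F = 3 ^ 2)

include hF

theorem card_su : Nat.card (SU 3 F 3) = 6048 := by
  rw [card_SU3 hF]
  norm_num

theorem exists_stab (S : Sylow 3 (SU 3 F 3)) :
    ∃ e : Fin 3 → F, hermForm 3 F 3 e e = 0 ∧ e ≠ 0 ∧ (S : Subgroup (SU 3 F 3)) = Stab 3 e := by
  have := Fact.mk Nat.prime_three
  obtain ⟨e, he, he0⟩ : ∃ e : Fin 3 → F, hermForm 3 F 3 e e = 0 ∧ e ≠ 0 := by
    have h1 := card_iso hF
    by_contra hcon
    push Not at hcon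
    have h2 : {v : Fin 3 → F | hermForm 3 F 3 v v = 0} ⊆ {0} := fun v hv => hcon v hv
    have h3 := Set.ncard_le_ncard h2 (Set.toFinite _)
    rw [h1, Set.ncard_singleton] at h3
    omega
  have hcard : Nat.card (Stab 3 e) = 3 ^ (Nat.card (SU 3 F 3)).factorization 3 := by
    rw [card_Stab hF he he0, card_su hF]
    congr 1
    have h1 : (6048 : ℕ) = 3 ^ 3 * 224 := by norm_num
    rw [h1, Nat.factorization_mul (by norm_num) (by norm_num), Nat.Prime.factorization_pow Nat.prime_three]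
    rw [Finsupp.add_apply, Finsupp.single_eq_same, Nat.factorization_eq_zero_of_not_dvd (by norm_num)]
  obtain ⟨g, hg⟩ := MulAction.exists_smul_eq (SU 3 F 3) (Sylow.ofCard (Stab 3 e) hcard) S
  refine ⟨ac g e, by rw [herm_act, he], by rw [Ne, act_eq_zero]; exact he0, ?_⟩
  have h1 : (S : Subgroup (SU 3 F 3)) = MulAut.conj g • (Stab 3 e) := by rw [← hg]; rfl
  rw [h1]
  ext x
  rw [Subgroup.mem_pointwise_smul_iff_inv_smul_mem, mem_Stab, mem_Stab, ← map_inv, MulAut.smul_def, MulAut.conj_apply,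
    inv_inv, act_mul, act_mul]
  constructor
  · intro h2
    have h3 := congrArg (ac g) h2
    rw [← act_mul g g⁻¹, mul_inv_cancel, act_one] at h3
    exact h3
  · intro h2
    rw [h2, act_inv_act]

theorem stab_smul {e : Fin 3 → F} {l : F} (hl : l ≠ 0) : Stab 3 (l • e) = Stab (E := F) 3 e := by
  ext x
  rw [mem_Stab, mem_Stab, act_smul]
  exact (smul_right_injective _ hl).eq_iff

theorem syl : Nat.card (Sylow 3 (SU 3 F 3)) ≤ 28 := by
  choose f h1 h2 h3 using exists_stab hF
  have h4 := count8 hF (Set.univ : Set (Sylow 3 (SU 3 F 3))) f ({v : Fin 3 → F | hermForm 3 F 3 v v = 0} \ {0})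
    (fun S _ => h2 S) (by
      intro S _ l hl
      refine ⟨?_, smul_ne_zero hl (h2 S)⟩
      show hermForm 3 F 3 (l • f S) (l • f S) = 0
      rw [herm_smul_left, herm_smul_right, h1, mul_zero, mul_zero]) (by
      intro S _ T _ l hl e
      apply Sylow.ext
      rw [h3 S, h3 T, e, stab_smul hF hl])
  have h5 := Set.ncard_sdiff_singleton_add_one (s := {v : Fin 3 → F | hermForm 3 F 3 v v = 0}) (a := 0)
    (herm_zero_left _) (Set.toFinite _)
  rw [card_iso hF] at h5
  rw [Set.ncard_univ] at h4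
  omega

theorem ti (P Q : Sylow 3 (SU 3 F 3)) (x : SU 3 F 3) (hx : x ≠ 1) (hP : x ∈ (P : Subgroup (SU 3 F 3)))
    (hQ : x ∈ (Q : Subgroup (SU 3 F 3))) : P = Q := by
  obtain ⟨e, he, he0, hPe⟩ := exists_stab hF P
  obtain ⟨e', he', he0', hQe⟩ := exists_stab hF Q
  by_contra hne
  have h0 : hermForm 3 F 3 e' e ≠ 0 := by
    intro h1
    obtain ⟨t, rfl⟩ := eq_smul_of_orth hF he he0 he' h1
    have ht : t ≠ 0 := by
      rintro rfl
      exact he0' (zero_smul _ _)
    apply hne
    apply Sylow.ext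
    rw [hPe, hQe, stab_smul hF ht]
  have h0' : hermForm 3 F 3 e e' ≠ 0 := fun h1 => h0 (herm_eq_zero_swap hF h1)
  rw [hPe, mem_Stab] at hP
  rw [hQe, mem_Stab] at hQ
  have hx27 : x ^ 3 ^ 3 = 1 := by
    have h1 : (⟨x, hP⟩ : Stab 3 e) ^ Nat.card (Stab 3 e) = 1 := pow_card_eq_one'
    rw [card_Stab hF he he0] at h1
    exact congrArg Subtype.val h1
  have h1 := Submodule.finrank_sup_add_finrank_inf_eq (LinearMap.ker (phi e)) (LinearMap.ker (phi e'))
  have h2 : finrank F (LinearMap.ker (phi e) ⊔ LinearMap.ker (phi e') : Submodule F (Fin 3 → F)) ≤ 3 := by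
    have := Submodule.finrank_le (LinearMap.ker (phi e) ⊔ LinearMap.ker (phi e'))
    rwa [Module.finrank_fin_fun] at this
  have h3 := finrank_ker_ge hF e
  have h4 := finrank_ker_ge hF e'
  obtain ⟨w, hw, hw0, hxw⟩ := exists_fix hF hx27 (LinearMap.ker (phi e) ⊓ LinearMap.ker (phi e')) (by omega) (by
    rintro w ⟨hw1, hw2⟩
    rw [SetLike.mem_coe, LinearMap.mem_ker, phi_apply] at hw1 hw2
    refine ⟨?_, ?_⟩
    · rw [SetLike.mem_coe, LinearMap.mem_ker, phi_apply, ← hP, herm_act]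
      exact hw1
    · rw [SetLike.mem_coe, LinearMap.mem_ker, phi_apply, ← hQ, herm_act]
      exact hw2)
  obtain ⟨hw1, hw2⟩ := hw
  rw [SetLike.mem_coe, LinearMap.mem_ker, phi_apply] at hw1 hw2
  have hli : LinearIndependent F ![e, e', w] := by
    rw [Fintype.linearIndependent_iff]
    intro c hc
    rw [Fin.sum_univ_three] at hc
    simp only [Matrix.cons_val_zero, Matrix.cons_val_one, Matrix.cons_val_two, Matrix.head_cons,
      Matrix.tail_cons] at hc
    have h5 : hermForm 3 F 3 (c 0 • e + c 1 • e' + c 2 • w) e = 0 := by rw [hc, herm_zero_left]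
    have h6 : hermForm 3 F 3 (c 0 • e + c 1 • e' + c 2 • w) e' = 0 := by rw [hc, herm_zero_left]
    rw [herm_add_left, herm_add_left, herm_smul_left, herm_smul_left, herm_smul_left, he, hw1, mul_zero, mul_zero,
      zero_add, add_zero] at h5
    rw [herm_add_left, herm_add_left, herm_smul_left, herm_smul_left, herm_smul_left, he', hw2, mul_zero, mul_zero,
      add_zero, add_zero] at h6
    have h7 : c 1 = 0 := (mul_eq_zero.1 h5).resolve_right h0
    have h8 : c 0 = 0 := (mul_eq_zero.1 h6).resolve_right h0'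
    rw [h7, h8, zero_smul, zero_smul, zero_add, zero_add] at hc
    have h9 : c 2 = 0 := (smul_eq_zero.1 hc).resolve_right hw0
    intro i
    fin_cases i
    · exact h8
    · exact h7
    · exact h9
  have h5 : Submodule.span F (Set.range ![e, e', w]) ≤ fixS x := by
    rw [Submodule.span_le]
    rintro _ ⟨i, rfl⟩
    fin_cases i
    · exact hP
    · exact hQ
    · exact hxw
  have h6 := Submodule.finrank_mono h5
  rw [finrank_span_eq_card hli, Fintype.card_fin] at h6
  have h7 := Submodule.finrank_le (fixS x)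
  rw [Module.finrank_fin_fun] at h7
  exact hx (fix_eq_one hF (le_antisymm h7 h6))

theorem pr_inj : Function.Injective (pr 3 F 3) := by
  rw [injective_iff_map_eq_one]
  intro g hg
  have h1 : g ∈ Subgroup.center (SU 3 F 3) := (QuotientGroup.eq_one_iff _).1 hg
  obtain ⟨c, h2, h3, h4⟩ := (Cfsg.Agent.LieClassical.SUBasic.mem_center_SU_iff hF le_rfl g).1 h1
  have h5 : c = 1 := eq_one_of_pow_three hF (n := 1) (by rw [pow_one]; exact h2)
  apply ext_act
  intro x
  rw [h4, act_one, act_def, mat_def, Cfsg.Agent.LieClassical.SUBasic.coe_suScalar]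
  ext i
  rw [Matrix.mulVec_diagonal, h5, one_mul]

/-- `SU₃(3) = PSU₃(3)` -/
noncomputable def prEquiv : SU 3 F 3 ≃* PSU 3 F 3 := MulEquiv.ofBijective (pr 3 F 3) ⟨pr_inj hF, pr_surjective⟩

theorem u33_su : U33 (SU 3 F 3) := by
  refine ⟨card_su hF, ?_, inv_le hF, comm_le hF, el hF, fun g z h1 h2 h3 h4 => seven hF h1 h2 h3 h4,
    fun g c z h1 h2 h3 h4 h5 h6 h7 => three hF h1 h2 h3 h4 h5 h6 h7, ti hF, syl hF⟩
  have h1 : IsSimpleGroup (PSU 3 F 3) := Cfsg.Agent.S0283.result hF 3 le_rfl (by norm_num)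
  exact (prEquiv hF).isSimpleGroup

theorem card_psu : Nat.card (PSU 3 F 3) = 6048 := by
  rw [← card_su hF]
  exact Nat.card_congr (prEquiv hF).symm.toEquiv

theorem card_mulAut : Nat.card (MulAut (PSU 3 F 3)) = 12096 := by
  have := Fact.mk Nat.prime_three
  have h1 := Cfsg.Agent.S0815.result (F := F) 3 1 le_rfl (q := 3) (by norm_num) hF 3 le_rfl (by norm_num)
  rw [h1, card_psu hF]
  norm_num

end Lin

end Cfsg.Agent.H119.EP
end

-- part: H119/EP/UThree
section
/-!
# S3499-IV-L, `U₃(3)` (helper119, task 5949)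
-/

set_option autoImplicit false

namespace Cfsg.Agent.H119.EP

open Subgroup Cfsg Cfsg.Agent.H284

variable {Q : Type*} [Group Q] [Finite Q] {A : Subgroup Q} {Γ : Subgroup (MulAut Q)} {N : Subgroup Q}
  {F : Type*} [Field F] [Fintype F]

theorem card_mulAut_le (hF : Fintype.card F = 3 ^ 2) (e : N ≃* PSU 3 F 3) : Nat.card (MulAut N) ≤ 12096 := by
  rw [Nat.card_congr (MulAut.congr e).toEquiv, Lin.card_mulAut hF]

theorem u33_N (hF : Fintype.card F = 3 ^ 2) (e : N ≃* PSU 3 F 3) : U33 N :=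
  U33.of_equiv (e.trans (Lin.prEquiv hF).symm) (Lin.u33_su hF)

/-- **S3499-IV-L, `U₃(3)`** -/
theorem index_le_psu33 (h : EPT A Γ) (hNA : N ≤ A) (hNn : ∀ a ∈ A, ∀ n ∈ N, a * n * a⁻¹ ∈ N)
    (hF : Fintype.card F = 3 ^ 2) (e : N ≃* PSU 3 F 3) (hC : ∀ a ∈ A, (∀ n ∈ N, a * n = n * a) → a = 1) :
    A.index ≤ 379000 :=
  index_le_of h hNA hNn (u33_N hF e) hC (card_mulAut_le hF e)

/-- the number of `A ∩ A^x` -/
theorem ncard_psu33 (h : EPT A Γ) (hNA : N ≤ A) (hNn : ∀ a ∈ A, ∀ n ∈ N, a * n * a⁻¹ ∈ N)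
    (hF : Fintype.card F = 3 ^ 2) (e : N ≃* PSU 3 F 3) (hC : ∀ a ∈ A, (∀ n ∈ N, a * n = n * a) → a = 1) :
    {M : Subgroup Q | ∃ x, x ∉ A ∧ M = A ⊓ cj x A}.ncard ≤ 592 := by
  have hU := u33_N hF e
  have := hU.finite
  have h1 : {M : Subgroup Q | ∃ x, x ∉ A ∧ M = A ⊓ cj x A} ⊆
      (fun O : Subgroup N => A ⊓ normalizer ((O.map N.subtype : Subgroup Q) : Set Q)) '' Obj N := by
    rintro _ ⟨x, hx, rfl⟩
    obtain ⟨O, hO, e⟩ := exists_O h hNA hNn hU hC (card_mulAut_le hF e) hx
    exact ⟨O, hO, e.symm⟩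
  exact ((Set.ncard_le_ncard h1 (Set.toFinite _)).trans (Set.ncard_image_le (Set.toFinite _))).trans hU.ncard_obj

/-- `|Q| < |PSp₆(3)|` -/
theorem card_le_psu33 (h : EPT A Γ) (hNA : N ≤ A) (hNn : ∀ a ∈ A, ∀ n ∈ N, a * n * a⁻¹ ∈ N)
    (hF : Fintype.card F = 3 ^ 2) (e : N ≃* PSU 3 F 3) (hC : ∀ a ∈ A, (∀ n ∈ N, a * n = n * a) → a = 1) :
    Nat.card Q ≤ 4239212544 := by
  have h1 := ncard_psu33 h hNA hNn hF e hC
  have h2 := h.index_le
  have h3 := Nat.pow_le_pow_left h1 2
  have h4 := card_A hNA hNn (u33_N hF e) hC (card_mulAut_le hF e)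
  rw [← A.card_mul_index]
  calc Nat.card A * A.index ≤ 12096 * 592 ^ 2 := Nat.mul_le_mul h4 (h2.trans h3)
    _ = 4239212544 := by norm_num

end Cfsg.Agent.H119.EP
end
end

-- part: H276/EP/PslCount
section
prune_inst 0x474106d441e40000000000000c0200414ee0005b00000080048800a4002802d2209848940b4a01102120a82854039006813000400420000000a00040001390689108886042040a008800000000080000000000000000000000000000000010004000400002
set_option linter.all false
open scoped Cfsg.Agent.FastGrp

-- part: H276/EP/SocCount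
section
/-!
# S3499: counting two-point stabilisers in the socle of `A` (helper276)

`A` almost simple with socle `N ≅ L`, `Out(L)` abelian. If every proper subgroup `X ≠ 1` of `L` has a subgroup
`S = S(X)`, `1 < S < L`, in a set `𝓔`, such that `S` is invariant under the automorphisms of `L` which leave `X` invariant,
then the number of the `A ∩ A^x` is at most `|𝓔|`.
-/

set_option autoImplicit false
set_option linter.style.haveILetI false
set_option linter.unusedSectionVars false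

namespace Cfsg.Agent.H276.EP

open Subgroup Cfsg.Agent.H284 Cfsg.Agent.H419.EP
open Cfsg.Agent.SectRankFour.OutAb (OutComm)

section Soc

theorem mem_iff_of_le {M : Type*} [Group M] [Finite M] {U : Subgroup M} {α : MulAut M} (h : ∀ u ∈ U, α u ∈ U) (u : M) :
    α u ∈ U ↔ u ∈ U := by
  refine ⟨fun hu => ?_, h u⟩
  have h1 : U.map α.toMonoidHom = U := by
    apply Subgroup.eq_of_le_of_card_ge
    · rintro _ ⟨x, hx, rfl⟩
      exact h x hx
    · rw [Subgroup.card_map_of_injective α.injective]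
  rw [← h1] at hu
  obtain ⟨x, hx, he⟩ := hu
  have : x = u := α.injective he
  rwa [← this]

variable {Q : Type*} [Group Q] [Finite Q] {A : Subgroup Q} {Γ : Subgroup (MulAut Q)}

/-- the socle is invariant under `Γ` -/
theorem soc_inv (h : EPT A Γ) {N : Subgroup Q} (hNA : N ≤ A) (hN : ∀ a ∈ A, ∀ n ∈ N, a * n * a⁻¹ ∈ N)
    (hC : ∀ a ∈ A, (∀ n ∈ N, a * n = n * a) → a = 1) (hs : IsSimpleGroup N) {σ : MulAut Q} (hσ : σ ∈ Γ) :
    ∀ n ∈ N, σ n ∈ N := by
  set N' : Subgroup Q := N.map σ.toMonoidHom with hN'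
  have hmem : ∀ y, y ∈ N' ↔ ∃ n ∈ N, σ n = y := fun y => Iff.rfl
  have hN'A : N' ≤ A := by
    intro y hy
    obtain ⟨n, hn, rfl⟩ := (hmem y).1 hy
    exact (h.inv σ hσ n).2 (hNA hn)
  have hN'n : ∀ a ∈ A, ∀ n ∈ N', a * n * a⁻¹ ∈ N' := by
    intro a ha y hy
    obtain ⟨n, hn, rfl⟩ := (hmem y).1 hy
    have ha' : σ⁻¹ a ∈ A := (h.inv _ (Γ.inv_mem hσ) a).2 ha
    refine (hmem _).2 ⟨σ⁻¹ a * n * (σ⁻¹ a)⁻¹, hN _ ha' n hn, ?_⟩
    rw [map_mul, map_mul, map_inv]
    have : σ (σ⁻¹ a) = a := MulAut.apply_inv_self _ _ _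
    rw [this]
  have hcard : Nat.card N' = Nat.card N := Subgroup.card_map_of_injective σ.injective
  have hn : ((N' ⊓ N).subgroupOf N).Normal := ⟨by
    rintro ⟨n, hn'⟩ hn ⟨a, ha⟩
    exact ⟨hN'n a (hNA ha) n hn.1, N.mul_mem (N.mul_mem ha hn') (N.inv_mem ha)⟩⟩
  have key : N ≤ N' := by
    rcases hn.eq_bot_or_eq_top with h4 | h4
    · exfalso
      -- `N'` centralises `N`
      have h5 : ∀ y ∈ N', y = 1 := by
        intro y hy
        apply hC y (hN'A hy)
        intro n hn'
        have h5 : y * n * y⁻¹ * n⁻¹ ∈ N' ⊓ N := by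
          refine ⟨?_, ?_⟩
          · have : y * n * y⁻¹ * n⁻¹ = y * (n * y⁻¹ * n⁻¹) := by group
            rw [this]
            exact N'.mul_mem hy (hN'n n (hNA hn') _ (N'.inv_mem hy))
          · exact N.mul_mem (hN y (hN'A hy) n hn') (N.inv_mem hn')
        have h6 : (⟨y * n * y⁻¹ * n⁻¹, h5.2⟩ : N) ∈ (N' ⊓ N).subgroupOf N := h5
        rw [h4, mem_bot] at h6
        have h7 : y * n * y⁻¹ * n⁻¹ = 1 := congrArg Subtype.val h6
        rw [mul_inv_eq_one, mul_inv_eq_iff_eq_mul] at h7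
        exact h7
      have h6 : N' = ⊥ := (Subgroup.eq_bot_iff_forall _).2 h5
      rw [h6, Subgroup.card_bot] at hcard
      have h7 := hs.toNontrivial
      exact (Finite.one_lt_card (α := N)).ne hcard
    · intro n hn'
      have h6 : (⟨n, hn'⟩ : N) ∈ (N' ⊓ N).subgroupOf N := by rw [h4]; exact mem_top _
      exact (mem_inf.1 h6).1
  have heq : N = N' := Subgroup.eq_of_le_of_card_ge key hcard.le
  intro n hn
  rw [heq]
  exact (hmem _).2 ⟨n, hn, rfl⟩

variable {L : Type*} [Group L]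

/-- the data of the socle -/
structure SocData (A : Subgroup Q) (Γ : Subgroup (MulAut Q)) (L : Type*) [Group L] where
  ι : L →* Q
  inj : Function.Injective ι
  le : ∀ l, ι l ∈ A
  norm : ∀ a ∈ A, ∀ l, ∃ l', ι l' = a * ι l * a⁻¹
  cent : ∀ a ∈ A, (∀ l, a * ι l = ι l * a) → a = 1
  inv : ∀ σ ∈ Γ, ∀ l, ∃ l', ι l' = σ (ι l)

theorem exists_socData (h : EPT A Γ) (hA : HasSoc A L) (hL : IsSimpleGroup L) : Nonempty (SocData A Γ L) := by
  obtain ⟨N, h1, h2, h3, ⟨e⟩⟩ := hA
  have hNs : IsSimpleGroup N := by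
    haveI := hL
    exact e.isSimpleGroup
  have hi := fun (σ : MulAut Q) (hσ : σ ∈ Γ) => soc_inv h h1 h2 h3 hNs hσ
  have hex : ∀ y ∈ N, ∃ l' : L, ((e.symm l' : N) : Q) = y := fun y hy => ⟨e ⟨y, hy⟩, by rw [e.symm_apply_apply]⟩
  exact ⟨{
    ι := N.subtype.comp e.symm.toMonoidHom
    inj := fun x y hxy => e.symm.injective (Subtype.ext hxy)
    le := fun l => h1 (e.symm l).2
    norm := fun a ha l => hex _ (h2 a ha _ (e.symm l).2)
    cent := by
      intro a ha hc
      apply h3 a ha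
      intro n hn
      have := hc (e ⟨n, hn⟩)
      have e1 : (N.subtype.comp e.symm.toMonoidHom) (e ⟨n, hn⟩) = n := by
        show ((e.symm (e ⟨n, hn⟩) : N) : Q) = n
        rw [e.symm_apply_apply]
      rw [e1] at this
      exact this
    inv := fun σ hσ l => hex _ (hi σ hσ _ (e.symm l).2) }⟩

namespace SocData

variable (D : SocData A Γ L)

/-- the automorphism of `L` induced by `σ ∈ Γ` -/
theorem exists_aut [Finite L] {σ : MulAut Q} (hσ : σ ∈ Γ) : ∃ τ : MulAut L, ∀ l, D.ι (τ l) = σ (D.ι l) := by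
  choose f hf using D.inv σ hσ
  have hmul : ∀ x y, f (x * y) = f x * f y := by
    intro x y
    apply D.inj
    rw [hf, map_mul, map_mul, map_mul, hf, hf]
  have hinj : Function.Injective f := by
    intro x y hxy
    apply D.inj
    apply σ.injective
    rw [← hf, ← hf, hxy]
  exact ⟨MulEquiv.ofBijective (MonoidHom.mk' f hmul) (Finite.injective_iff_bijective.1 hinj), hf⟩

end SocData

/-- the subgroup of `L` -/
def XL (D : SocData A Γ L) (x : Q) : Subgroup L := (A ⊓ cj x A).comap D.ι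

theorem mem_XL {D : SocData A Γ L} {x : Q} {l : L} : l ∈ XL D x ↔ D.ι l ∈ cj x A :=
  ⟨fun h => (mem_inf.1 h).2, fun h => mem_inf.2 ⟨D.le l, h⟩⟩

variable (D : SocData A Γ L)

/-- `X ≠ L` -/
theorem XL_ne_top (h : EPT A Γ) [Nontrivial L] {x : Q} (hx : x ∉ A) : XL D x ≠ ⊤ := by
  intro e
  have h1 := h.F1 x hx D.ι.range (by
    rintro _ ⟨l, rfl⟩
    exact D.le l) (by
    rintro σ hσ _ ⟨l, rfl⟩
    exact D.inv σ hσ l) (by
    rintro _ ⟨l, rfl⟩
    have : l ∈ XL D x := by rw [e]; exact mem_top _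
    exact mem_XL.1 this)
  obtain ⟨l, hl⟩ := exists_ne (1 : L)
  apply hl
  apply D.inj
  have h2 : D.ι l ∈ D.ι.range := ⟨l, rfl⟩
  rw [h1, mem_bot] at h2
  rw [h2, map_one]

/-- `X ≠ 1` -/
theorem XL_ne_bot [Finite L] (h : EPT A Γ) (hO : OutComm L)
    (hab : ∀ K : Subgroup Q, K ≤ A → (∀ a ∈ A, ∀ k ∈ K, a * k * a⁻¹ ∈ K) → (∀ a ∈ K, ∀ b ∈ K, a * b = b * a) → K = ⊥)
    {x : Q} (hx : x ∉ A) : XL D x ≠ ⊥ := by
  intro e
  obtain ⟨K, h1, h2, h3, h4⟩ := h.abM0 x hx (by
    intro a ha b hb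
    have hcaΓ : MulAut.conj a ∈ Γ := (h.conj a).2 ha.1
    have hcbΓ : MulAut.conj b ∈ Γ := (h.conj b).2 hb.1
    obtain ⟨α, hα⟩ := D.exists_aut hcaΓ
    obtain ⟨β, hβ⟩ := D.exists_aut hcbΓ
    obtain ⟨k, hk⟩ := hO α β
    -- the commutator centralises modulo an element of `N`
    have hα' : ∀ l, D.ι (α⁻¹ l) = a⁻¹ * D.ι l * a := by
      intro l
      have h5 := hα (α⁻¹ l)
      rw [MulAut.apply_inv_self, MulAut.conj_apply] at h5
      rw [h5]
      group
    have hβ' : ∀ l, D.ι (β⁻¹ l) = b⁻¹ * D.ι l * b := by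
      intro l
      have h5 := hβ (β⁻¹ l)
      rw [MulAut.apply_inv_self, MulAut.conj_apply] at h5
      rw [h5]
      group
    have hc : a * b * a⁻¹ * b⁻¹ ∈ A ⊓ cj x A :=
      mul_mem (mul_mem (mul_mem ha hb) (inv_mem ha)) (inv_mem hb)
    have h6 : (D.ι k)⁻¹ * (a * b * a⁻¹ * b⁻¹) = 1 := by
      apply D.cent
      · exact A.mul_mem (A.inv_mem (D.le k)) hc.1
      · intro l
        have h7 := congrArg D.ι (hk l)
        rw [MulAut.mul_apply, MulAut.mul_apply, MulAut.mul_apply, hα, MulAut.conj_apply, hβ, MulAut.conj_apply, hα',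
          hβ', map_mul, map_mul, map_inv] at h7
        have h8 : a * b * a⁻¹ * b⁻¹ * D.ι l = D.ι k * D.ι l * (D.ι k)⁻¹ * (a * b * a⁻¹ * b⁻¹) := by
          rw [← h7]
          group
        calc (D.ι k)⁻¹ * (a * b * a⁻¹ * b⁻¹) * D.ι l = (D.ι k)⁻¹ * (a * b * a⁻¹ * b⁻¹ * D.ι l) := by group
          _ = (D.ι k)⁻¹ * (D.ι k * D.ι l * (D.ι k)⁻¹ * (a * b * a⁻¹ * b⁻¹)) := by rw [h8]
          _ = D.ι l * ((D.ι k)⁻¹ * (a * b * a⁻¹ * b⁻¹)) := by group
    rw [inv_mul_eq_one] at h6
    have h7 : k ∈ XL D x := by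
      rw [mem_XL, h6]
      exact hc.2
    rw [e, mem_bot] at h7
    rw [h7, map_one] at h6
    have h8 : a * b * a⁻¹ * b⁻¹ = 1 := h6.symm
    rw [mul_inv_eq_one, mul_inv_eq_iff_eq_mul] at h8
    exact h8)
  exact h3 (hab K h1 (fun a ha k hk => h2 _ ((h.conj a).2 ha) k hk) h4)

/-- the stabiliser in `Γ` of `xA` leaves `X` invariant -/
theorem XL_inv (h : EPT A Γ) {x : Q} {σ : MulAut Q} (hσ : σ ∈ Γ) (hx : x⁻¹ * σ x ∈ A) {τ : MulAut L}
    (hτ : ∀ l, D.ι (τ l) = σ (D.ι l)) : ∀ l ∈ XL D x, τ l ∈ XL D x := by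
  intro l hl
  show D.ι (τ l) ∈ A ⊓ cj x A
  rw [hτ]
  exact Cfsg.Agent.H173.EP.inf_inv h hσ hx hl

/-- `A ∩ A^x` is determined by a subgroup `S` of `L`, invariant under the automorphisms leaving `X` invariant. -/
theorem mem_iff_of_S [Finite L] (h : EPT A Γ) (hL : IsSimpleGroup L) {x : Q} (hx : x ∉ A) {S : Subgroup L}
    (hS1 : S ≠ ⊥) (hS2 : S ≠ ⊤) (hS : ∀ τ : MulAut L, (∀ l ∈ XL D x, τ l ∈ XL D x) → ∀ s ∈ S, τ s ∈ S) {a : Q}
    (ha : a ∈ A) : a ∈ cj x A ↔ ∀ s ∈ S, a * D.ι s * a⁻¹ ∈ S.map D.ι := by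
  -- the stabiliser of `S` in `Γ`
  let L' : Subgroup (MulAut Q) :=
    { carrier := {σ | σ ∈ Γ ∧ ∀ y, σ y ∈ S.map D.ι ↔ y ∈ S.map D.ι}
      one_mem' := ⟨Γ.one_mem, fun y => Iff.rfl⟩
      mul_mem' := by
        rintro σ τ ⟨h1, h2⟩ ⟨h3, h4⟩
        refine ⟨Γ.mul_mem h1 h3, fun y => ?_⟩
        rw [MulAut.mul_apply, h2, h4]
      inv_mem' := by
        rintro σ ⟨h1, h2⟩
        refine ⟨Γ.inv_mem h1, fun y => ?_⟩
        rw [← h2 (σ⁻¹ y), MulAut.apply_inv_self] }
  have hfin : ∀ σ : MulAut Q, (∀ y ∈ S.map D.ι, σ y ∈ S.map D.ι) → ∀ y, σ y ∈ S.map D.ι ↔ y ∈ S.map D.ι :=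
    fun σ hσ y => mem_iff_of_le hσ y
  have hx' : ∀ σ ∈ Γ, x⁻¹ * σ x ∈ A → σ ∈ L' := by
    intro σ hσ hxσ
    obtain ⟨τ, hτ⟩ := D.exists_aut hσ
    refine ⟨hσ, hfin σ ?_⟩
    rintro _ ⟨s, hs, rfl⟩
    exact ⟨τ s, hS τ (XL_inv D h hσ hxσ hτ) s hs, hτ s⟩
  have hconj : ∀ {a : Q}, a ∈ A → (x⁻¹ * (MulAut.conj a) x ∈ A ↔ a ∈ cj x A) := by
    intro a ha
    rw [MulAut.conj_apply, mem_cj, ← mul_assoc, ← mul_assoc]
    exact Subgroup.mul_mem_cancel_right A (A.inv_mem ha)
  constructor
  · intro hax s hs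
    have h1 := hx' _ ((h.conj a).2 ha) ((hconj ha).2 hax)
    exact (h1.2 (D.ι s)).2 ⟨s, hs, rfl⟩
  · intro hn
    have h1 : MulAut.conj a ∈ L' := by
      refine ⟨(h.conj a).2 ha, hfin _ ?_⟩
      rintro _ ⟨s, hs, rfl⟩
      exact hn s hs
    rcases h.two x hx L' (fun σ hσ => hσ.1) hx' with h2 | h2
    · exfalso
      have hSn : S.Normal := ⟨by
        intro s hs l
        have h3 : MulAut.conj (D.ι l) ∈ L' := by
          rw [h2]
          exact (h.conj _).2 (D.le l)
        obtain ⟨s', hs', e⟩ := (h3.2 (D.ι s)).2 ⟨s, hs, rfl⟩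
        have h4 : s' = l * s * l⁻¹ := by
          apply D.inj
          rw [map_mul, map_mul, map_inv]
          exact e
        rw [← h4]
        exact hs'⟩
      rcases hSn.eq_bot_or_eq_top with h3 | h3
      · exact hS1 h3
      · exact hS2 h3
    · exact (hconj ha).1 (h2 _ h1)

/-- **The count**: the number of the `A ∩ A^x` is at most `|𝓔|`. -/
theorem ncard_le_of_soc [Finite L] (h : EPT A Γ) (hA : HasSoc A L) (hL : IsSimpleGroup L)
    (hLn : ¬ ∀ a b : L, a * b = b * a) (hO : OutComm L) (𝓔 : Set (Subgroup L))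
    (hE : ∀ X : Subgroup L, X ≠ ⊥ → X ≠ ⊤ → ∃ S ∈ 𝓔, S ≠ ⊥ ∧ S ≠ ⊤ ∧
      ∀ τ : MulAut L, (∀ l ∈ X, τ l ∈ X) → ∀ s ∈ S, τ s ∈ S) :
    {M : Subgroup Q | ∃ x, x ∉ A ∧ M = A ⊓ cj x A}.ncard ≤ 𝓔.ncard := by
  classical
  obtain ⟨D⟩ := exists_socData h hA hL
  haveI := hL.toNontrivial
  have hex : ∀ x, x ∉ A → ∃ S ∈ 𝓔, ∀ a ∈ A, (a ∈ cj x A ↔ ∀ s ∈ S, a * D.ι s * a⁻¹ ∈ S.map D.ι) := by
    intro x hx
    obtain ⟨S, h1, h2, h3, h4⟩ := hE (XL D x) (XL_ne_bot D h hO (fun K h1 h2 h3 => hA.no_abelian hL hLn h1 h2 h3) hx)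
      (XL_ne_top D h hx)
    exact ⟨S, h1, fun a ha => mem_iff_of_S D h hL hx h2 h3 h4 ha⟩
  let g : Subgroup L → Subgroup Q := fun S => sSup {M | (∃ x, x ∉ A ∧ M = A ⊓ cj x A) ∧
    ∀ a ∈ A, (a ∈ M ↔ ∀ s ∈ S, a * D.ι s * a⁻¹ ∈ S.map D.ι)}
  have hsub : {M : Subgroup Q | ∃ x, x ∉ A ∧ M = A ⊓ cj x A} ⊆ g '' 𝓔 := by
    rintro M ⟨x, hx, rfl⟩
    obtain ⟨S, hS, h1⟩ := hex x hx
    refine ⟨S, hS, ?_⟩
    have h2 : {M : Subgroup Q | (∃ x, x ∉ A ∧ M = A ⊓ cj x A) ∧
        ∀ a ∈ A, (a ∈ M ↔ ∀ s ∈ S, a * D.ι s * a⁻¹ ∈ S.map D.ι)} = {A ⊓ cj x A} := by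
      ext M
      rw [Set.mem_singleton_iff]
      constructor
      · rintro ⟨⟨y, hy, rfl⟩, h3⟩
        ext a
        constructor
        · intro ha
          exact ⟨ha.1, (h1 a ha.1).2 ((h3 a ha.1).1 ha)⟩
        · intro ha
          exact (h3 a ha.1).2 ((h1 a ha.1).1 ha.2)
      · rintro rfl
        refine ⟨⟨x, hx, rfl⟩, fun a ha => ?_⟩
        rw [← h1 a ha]
        exact ⟨fun h => h.2, fun h => ⟨ha, h⟩⟩
    show sSup _ = _
    rw [h2, sSup_singleton]
  exact (Set.ncard_le_ncard hsub (Set.toFinite _)).trans (Set.ncard_image_le (Set.toFinite _))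

end Soc

end Cfsg.Agent.H276.EP
end

-- part: H276/EP/PslFam
section
/-!
# A small family of subgroups of `PSL₂(k)`, `k` odd (helper276)

Every proper subgroup `X ≠ 1` of `L = PSL₂(K)` has a subgroup (or an overgroup) `S`, `1 < S < L`, invariant under the
automorphisms of `L` leaving `X` invariant, of one of the forms: cyclic, Sylow `p`-subgroup, `⟨u, v⟩` with `u² = 1` or
`u ^ p = 1`.
-/

set_option autoImplicit false
set_option linter.style.haveILetI false
set_option linter.unusedSectionVars false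

namespace Cfsg.Agent.H276.EP

open Subgroup MulAction OnePoint
open Cfsg.Agent.ClassicalGeometry.PoleCount Cfsg.Agent.ClassicalGeometry.PoleCount.Pole
open Cfsg.Agent.ClassicalGeometry.PoleBridge
open Cfsg.Agent.ClassicalGeometry.PoleCases
open Cfsg.Agent.ClassicalGeometry.PSL2Basic Cfsg.Agent.ClassicalGeometry.PSL2ElemOrder
open Cfsg.Agent.Lib.Mobius
open Cfsg.Agent.LieClassical.SLTwoUnipotent (u l coe_u coe_l u_add l_add u_zero l_zero)

local notation "SL2" => Matrix.SpecialLinearGroup (Fin 2)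
local notation "PSL2" => Matrix.ProjectiveSpecialLinearGroup (Fin 2)

/-! ### the tame case of Dickson's theorem -/

theorem tame {F : Type*} [Field F] (p : ℕ) [Fact p.Prime] [CharP F p] [Finite F]
    (H : Subgroup (PSL2 F)) (hp : ¬ p ∣ Nat.card H) :
    IsCyclic H ∨ (∃ k : ℕ, Nonempty (H ≃* DihedralGroup k)) ∨ Nonempty (H ≃* alternatingGroup (Fin 4)) ∨
      Nonempty (H ≃* Equiv.Perm (Fin 4)) ∨ Nonempty (H ≃* alternatingGroup (Fin 5)) := by
  classical
  let K := AlgebraicClosure F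
  haveI : CharP K p := charP_of_injective_algebraMap (algebraMap F K).injective p
  let ι : F →+* K := algebraMap F K
  let φ : H →* PSL2 K := (pslMap ι).comp H.subtype
  have hφ : Function.Injective φ := (pslMap_injective ι).comp H.subtype_injective
  letI := act φ
  have pole : Pole p K H (OnePoint K) := pole_of_injective p φ hφ
  have hpow : ∀ g : H, g ≠ 1 → g ^ p ≠ 1 := by
    intro g hg hgp
    apply hp
    rw [← orderOf_eq_prime hgp hg]
    exact _root_.orderOf_dvd_natCard g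
  have hcyc : ∀ x : OnePoint K, IsCyclic (stabilizer H x) := by
    intro x
    obtain ⟨χ, hχ⟩ := pole.chi x
    have hinj : Function.Injective χ := by
      rw [injective_iff_map_eq_one]
      intro g hg
      by_contra hne
      have h1 := (hχ g).mp hg
      exact hpow g (fun h => hne (Subtype.ext h)) (congrArg Subtype.val h1)
    have hcoe : Function.Injective (Units.coeHom K) := Units.val_injective
    exact isCyclic_of_injective_ringHom ((Units.coeHom K).comp χ) (hcoe.comp hinj)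
  rcases Cfsg.Agent.ClassicalGeometry.PolePrime.pole_prime
    (fun (g : H) hg => pole.two g (hpow g hg)) hcyc with h1 | ⟨k, -, h1⟩ | h1 | h1 | h1
  · exact Or.inl h1
  · exact Or.inr (Or.inl ⟨k, h1⟩)
  · exact Or.inr (Or.inr (Or.inl h1))
  · exact Or.inr (Or.inr (Or.inr (Or.inl h1)))
  · exact Or.inr (Or.inr (Or.inr (Or.inr h1)))

/-! ### groups with two generators, one an involution -/

/-- generated by `u`, `v` with `u² = 1` -/
def InvGen (G : Type*) [Group G] : Prop := ∃ u v : G, u ^ 2 = 1 ∧ _root_.Subgroup.closure ({u, v} : Set G) = ⊤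

theorem InvGen.congr {G H : Type*} [Group G] [Group H] (e : G ≃* H) (h : InvGen H) : InvGen G := by
  obtain ⟨u, v, h1, h2⟩ := h
  refine ⟨e.symm u, e.symm v, by rw [← map_pow, h1, map_one], ?_⟩
  have h3 := congrArg (Subgroup.map e.symm.toMonoidHom) h2
  rw [MonoidHom.map_closure, ← MonoidHom.range_eq_map, MonoidHom.range_eq_top.2 e.symm.surjective] at h3
  rw [← h3]
  congr 1
  rw [Set.image_pair]
  rfl

theorem invGen_dihedral (k : ℕ) : InvGen (DihedralGroup k) := by
  refine ⟨DihedralGroup.sr 0, DihedralGroup.sr 1, ?_, ?_⟩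
  · rw [pow_two, DihedralGroup.sr_mul_self]
  · rw [Subgroup.eq_top_iff']
    have h0 : (DihedralGroup.sr 0 : DihedralGroup k) ∈ _root_.Subgroup.closure ({DihedralGroup.sr 0, DihedralGroup.sr 1} : Set _) :=
      _root_.Subgroup.subset_closure (by simp only [_root_.Set.mem_insert_iff, _root_.Set.mem_singleton_iff, _root_.DihedralGroup.sr.injEq, _root_.true_or])
    have h1 : (DihedralGroup.sr 1 : DihedralGroup k) ∈ _root_.Subgroup.closure ({DihedralGroup.sr 0, DihedralGroup.sr 1} : Set _) :=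
      _root_.Subgroup.subset_closure (by simp only [_root_.Set.mem_insert_iff, _root_.DihedralGroup.sr.injEq, _root_.Set.mem_singleton_iff, _root_.or_true])
    have h2 : (DihedralGroup.r 1 : DihedralGroup k) ∈ _root_.Subgroup.closure ({DihedralGroup.sr 0, DihedralGroup.sr 1} : Set _) := by
      have := mul_mem h0 h1
      rwa [DihedralGroup.sr_mul_sr, sub_zero] at this
    have h3 : ∀ i : ZMod k, (DihedralGroup.r i : DihedralGroup k) ∈
        _root_.Subgroup.closure ({DihedralGroup.sr 0, DihedralGroup.sr 1} : Set _) := by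
      intro i
      obtain ⟨z, rfl⟩ := ZMod.intCast_surjective i
      rw [← DihedralGroup.r_one_zpow]
      exact zpow_mem h2 z
    rintro (i | i)
    · exact h3 i
    · have := mul_mem h0 (h3 i)
      rwa [DihedralGroup.sr_mul_r, zero_add] at this

theorem invGen_alt4 : InvGen (alternatingGroup (Fin 4)) := by
  let u : alternatingGroup (Fin 4) := ⟨Equiv.swap 0 1 * Equiv.swap 2 3, by rw [Equiv.Perm.mem_alternatingGroup]; decide⟩
  let v : alternatingGroup (Fin 4) := ⟨Equiv.swap 0 1 * Equiv.swap 1 2, by rw [Equiv.Perm.mem_alternatingGroup]; decide⟩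
  have key : ∀ g : alternatingGroup (Fin 4), ∃ i : Fin 3, ∃ j : Fin 2, ∃ k : Fin 3,
      g = v ^ (i : ℕ) * u ^ (j : ℕ) * v ^ (k : ℕ) := by decide +kernel
  refine ⟨u, v, by decide +kernel, ?_⟩
  rw [Subgroup.eq_top_iff']
  intro g
  obtain ⟨i, j, k, rfl⟩ := key g
  have h0 : u ∈ _root_.Subgroup.closure ({u, v} : Set (alternatingGroup (Fin 4))) := _root_.Subgroup.subset_closure (by simp)
  have h1 : v ∈ _root_.Subgroup.closure ({u, v} : Set (alternatingGroup (Fin 4))) := _root_.Subgroup.subset_closure (by simp)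
  exact mul_mem (mul_mem (pow_mem h1 _) (pow_mem h0 _)) (pow_mem h1 _)

theorem invGen_perm4 : InvGen (Equiv.Perm (Fin 4)) := by
  have h := Equiv.Perm.closure_cycle_adjacent_swap (isCycle_finRotate (n := 2)) support_finRotate 0
  refine ⟨Equiv.swap 0 (finRotate 4 0), finRotate 4, ?_, ?_⟩
  · rw [pow_two, Equiv.swap_mul_self]
  · rw [Set.pair_comm]
    exact h

theorem invGen_alt5 : InvGen (alternatingGroup (Fin 5)) := by
  let u : alternatingGroup (Fin 5) := ⟨Equiv.swap 0 1 * Equiv.swap 2 3, by rw [Equiv.Perm.mem_alternatingGroup]; decide⟩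
  let v : alternatingGroup (Fin 5) := ⟨finRotate 5, by rw [Equiv.Perm.mem_alternatingGroup]; decide⟩
  refine ⟨u, v, by decide +kernel, ?_⟩
  set H := _root_.Subgroup.closure ({u, v} : Set (alternatingGroup (Fin 5))) with hH
  have h0 : u ∈ H := _root_.Subgroup.subset_closure (by simp)
  have h1 : v ∈ H := _root_.Subgroup.subset_closure (by simp)
  have hcard : Nat.card (alternatingGroup (Fin 5)) = 60 := by
    rw [Nat.card_eq_fintype_card]
    (set_option synthInstance.maxSize 9000 in open scoped Cfsg.Agent.Lib.FastPerm in decide +kernel)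
  have o2 : orderOf u = 2 := orderOf_eq_prime (by decide +kernel) (by decide +kernel)
  have : Fact (Nat.Prime 3) := ⟨by norm_num⟩
  have : Fact (Nat.Prime 5) := ⟨by norm_num⟩
  have o5 : orderOf v = 5 := orderOf_eq_prime (by decide +kernel) (by decide +kernel)
  have o3 : orderOf (u * v) = 3 := orderOf_eq_prime (by decide +kernel) (by decide +kernel)
  have d2 : 2 ∣ Nat.card H := by
    have h := _root_.orderOf_dvd_natCard (⟨u, h0⟩ : H)
    rwa [Subgroup.orderOf_mk, o2] at h
  have d5 : 5 ∣ Nat.card H := by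
    have h := _root_.orderOf_dvd_natCard (⟨v, h1⟩ : H)
    rwa [Subgroup.orderOf_mk, o5] at h
  have d3 : 3 ∣ Nat.card H := by
    have h := _root_.orderOf_dvd_natCard (⟨u * v, mul_mem h0 h1⟩ : H)
    rwa [Subgroup.orderOf_mk, o3] at h
  have hm := H.card_mul_index
  rw [hcard] at hm
  have h30 : 30 ∣ Nat.card H := by omega
  obtain ⟨c, hc⟩ := h30
  rw [hc] at hm
  have hci : c * H.index = 2 := by
    have : 30 * (c * H.index) = 30 * 2 := by rw [← mul_assoc, hm]
    exact Nat.eq_of_mul_eq_mul_left (by norm_num) this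
  have hi : H.index ∣ 2 := ⟨c, by rw [← hci, mul_comm]⟩
  rcases (Nat.dvd_prime Nat.prime_two).1 hi with h2 | h2
  · exact Subgroup.index_eq_one.1 h2
  · exfalso
    have hn : H.Normal := Subgroup.normal_of_index_eq_two h2
    have hs : IsSimpleGroup (alternatingGroup (Fin 5)) := inferInstance
    rcases hn.eq_bot_or_eq_top with h3 | h3
    · rw [h3, Subgroup.index_bot, hcard] at h2
      omega
    · rw [h3, Subgroup.index_top] at h2
      omega

/-! ### `PSL₂(K)` and `PGL₂(K)` -/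

/-- the elements with `g ^ p = 1` generate a subgroup generated by two of them -/
def PGen (p : ℕ) (G : Type*) [Group G] : Prop :=
  ∃ u v : G, u ^ p = 1 ∧ v ^ p = 1 ∧ u ≠ 1 ∧ ∀ g : G, g ^ p = 1 → g ∈ _root_.Subgroup.closure ({u, v} : Set G)

theorem PGen.congr {p : ℕ} {G H : Type*} [Group G] [Group H] (e : G ≃* H) (h : PGen p H) : PGen p G := by
  obtain ⟨u, v, h1, h2, h3, h4⟩ := h
  refine ⟨e.symm u, e.symm v, by rw [← map_pow, h1, map_one], by rw [← map_pow, h2, map_one],
    fun h => h3 ((map_eq_one_iff e.symm e.symm.injective).1 h), fun g hg => ?_⟩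
  have h5 := h4 (e g) (by rw [← map_pow, hg, map_one])
  have h6 : e.symm (e g) ∈ (_root_.Subgroup.closure ({u, v} : Set H)).map e.symm.toMonoidHom := ⟨_, h5, rfl⟩
  rw [MonoidHom.map_closure, e.symm_apply_apply, Set.image_pair] at h6
  exact h6

section Field

variable {K : Type*} [Field K]

theorem l_pow (n : ℕ) (x : K) : (l x : SL2 K) ^ n = l (n • x) := by
  induction n with
  | zero => rw [pow_zero, zero_smul, l_zero]
  | succ n ih => rw [pow_succ, ih, ← l_add, succ_nsmul]

theorem u_pow (n : ℕ) (x : K) : (u x : SL2 K) ^ n = u (n • x) := by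
  induction n with
  | zero => rw [pow_zero, zero_smul, u_zero]
  | succ n ih => rw [pow_succ, ih, ← u_add, succ_nsmul]

theorem sl_gen [Finite K] (h2 : (2 : K) ≠ 0) :
    ∃ c : K, _root_.Subgroup.closure ({l 1, u c} : Set (SL2 K)) = ⊤ := by
  letI := Fintype.ofFinite K
  obtain ⟨g, hg⟩ := IsCyclic.exists_generator (α := Kˣ)
  have hgen : Subfield.closure ({(g : K)} : Set K) = ⊤ := by
    rw [eq_top_iff]
    intro x _
    by_cases hx : x = 0
    · rw [hx]
      exact zero_mem _
    · obtain ⟨z, hz⟩ := Subgroup.mem_zpowers_iff.1 (hg (Units.mk0 x hx))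
      have : x = (g : K) ^ z := by
        have := congrArg (fun y : Kˣ => (y : K)) hz
        simp only [Units.val_zpow_eq_zpow_val, Units.val_mk0] at this
        exact this.symm
      rw [this]
      exact zpow_mem (Subfield.subset_closure (Set.mem_singleton _)) z
  refine ⟨g, ?_⟩
  have h := Cfsg.Agent.S0801.result h2 (g : K) g.ne_zero hgen
  rw [Cfsg.Agent.S0801.closure_set_eq] at h
  rcases h with h | ⟨h9, hsq, -⟩
  · exact h.1
  · exfalso
    have h4 : g ^ 4 = 1 := by
      apply Units.ext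
      rw [Units.val_pow_eq_pow_val, Units.val_one, show (4 : ℕ) = 2 * 2 by norm_num, pow_mul, hsq]
      norm_num
    have h5 := orderOf_dvd_of_pow_eq_one h4
    rw [orderOf_eq_card_of_forall_mem_zpowers hg, Nat.card_units, Nat.card_eq_fintype_card, h9] at h5
    exact absurd (Nat.le_of_dvd (by norm_num) h5) (by norm_num)

variable (p : ℕ) [hp : Fact p.Prime] [CharP K p]

theorem pGen_of_hom [Finite K] (h2 : (2 : K) ≠ 0) {G : Type*} [Group G] (φ : SL2 K →* G) (h1 : φ (l 1) ≠ 1)
    (hr : ∀ g : G, g ^ p = 1 → g ∈ φ.range) : PGen p G := by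
  obtain ⟨c, hc⟩ := sl_gen (K := K) h2
  have hl : (l (1 : K) : SL2 K) ^ p = 1 := by
    rw [l_pow, nsmul_eq_mul, CharP.cast_eq_zero, zero_mul, l_zero]
  have hu : (u c : SL2 K) ^ p = 1 := by
    rw [u_pow, nsmul_eq_mul, CharP.cast_eq_zero, zero_mul, u_zero]
  refine ⟨φ (l 1), φ (u c), by rw [← map_pow, hl, map_one], by rw [← map_pow, hu, map_one], h1, fun g hg => ?_⟩
  have h3 := hr g hg
  rw [MonoidHom.range_eq_map, ← hc, MonoidHom.map_closure, Set.image_pair] at h3
  exact h3

theorem pGen_psl [Finite K] (h2 : (2 : K) ≠ 0) : PGen p (PSL2 K) := by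
  refine pGen_of_hom p h2 (QuotientGroup.mk' (Subgroup.center (SL2 K))) ?_ ?_
  · intro h
    rw [QuotientGroup.mk'_apply, QuotientGroup.eq_one_iff, mem_center_SL2_iff] at h
    rcases h with h | h
    · have := congrArg (fun A : SL2 K => (A : Matrix (Fin 2) (Fin 2) K) 1 0) h
      simp [coe_l] at this
    · have := congrArg (fun A : SL2 K => (A : Matrix (Fin 2) (Fin 2) K) 1 0) h
      simp [coe_l] at this
  · intro g _
    rw [MonoidHom.range_eq_top.2 (QuotientGroup.mk'_surjective _)]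
    exact mem_top _

theorem pGen_pgl [Finite K] (h2 : (2 : K) ≠ 0) : PGen p (Matrix.ProjGenLinGroup (Fin 2) K) := by
  refine pGen_of_hom p h2 (Matrix.ProjGenLinGroup.mk.comp Matrix.SpecialLinearGroup.toGL) ?_ ?_
  · intro h
    rw [MonoidHom.comp_apply, Matrix.ProjGenLinGroup.mk_eq_one, Matrix.GeneralLinearGroup.center_eq_range_scalar] at h
    obtain ⟨c, hc⟩ := h
    have := congrArg (fun A : GL (Fin 2) K => (A : Matrix (Fin 2) (Fin 2) K) 1 0) hc
    simp [coe_l] at this
  · intro g hg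
    induction g using Matrix.ProjGenLinGroup.induction_on with | mk M =>
    rw [← map_pow, Matrix.ProjGenLinGroup.mk_eq_one, Matrix.GeneralLinearGroup.center_eq_range_scalar] at hg
    obtain ⟨c, hc⟩ := hg
    have h3 := congrArg Matrix.GeneralLinearGroup.det hc
    rw [Matrix.GeneralLinearGroup.det_scalar, Fintype.card_fin, map_pow] at h3
    -- the determinant is a square
    have hodd : Odd p := by
      refine hp.out.odd_of_ne_two ?_
      rintro rfl
      exact h2 (by exact_mod_cast CharP.cast_eq_zero K 2)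
    obtain ⟨m, hm⟩ := hodd
    set D := Matrix.GeneralLinearGroup.det M with hD
    have h4 : D = (c * (D ^ m)⁻¹) ^ 2 := by
      rw [mul_pow, h3, hm, inv_pow, ← pow_mul, mul_comm m 2, pow_succ', mul_inv_cancel_right]
    set d := c * (D ^ m)⁻¹ with hd
    have h5 : M * Matrix.GeneralLinearGroup.scalar (Fin 2) d⁻¹ ∈
        (Matrix.SpecialLinearGroup.toGL : SL2 K →* GL (Fin 2) K).range := by
      rw [range_toGL, MonoidHom.mem_ker, map_mul, Matrix.GeneralLinearGroup.det_scalar, Fintype.card_fin, ← hD, h4,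
        inv_pow, mul_inv_cancel]
    obtain ⟨M', hM'⟩ := h5
    refine ⟨M', ?_⟩
    rw [MonoidHom.comp_apply, hM', map_mul, Matrix.ProjGenLinGroup.mk_scalar, mul_one]

end Field

/-! ### the family -/

section Fam

variable {L : Type*} [Group L]

/-- cyclic subgroups, Sylow `p`-subgroups, `⟨u, v⟩` with `u² = 1` or `u ^ p = 1` -/
def Fam (p : ℕ) (L : Type*) [Group L] : Set (Subgroup L) :=
  Set.range (fun g : L => zpowers g) ∪ Set.range (fun P : Sylow p L => (P : Subgroup L)) ∪
    Set.image2 (fun u v : L => _root_.Subgroup.closure ({u, v} : Set L)) {u | u ^ 2 = 1 ∨ u ^ p = 1} Set.univ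

/-- `S` belongs to `X` -/
def Belongs (p : ℕ) (X : Subgroup L) : Prop := ∃ S ∈ Fam p L, S ≠ ⊥ ∧ S ≠ ⊤ ∧
  ∀ τ : MulAut L, (∀ l ∈ X, τ l ∈ X) → ∀ s ∈ S, τ s ∈ S

theorem belongs_of_isCyclic {p : ℕ} {X : Subgroup L} (h1 : X ≠ ⊥) (h2 : X ≠ ⊤) (hc : IsCyclic X) : Belongs p X := by
  obtain ⟨⟨g, hgX⟩, hg⟩ := hc.exists_generator
  have hX : zpowers g = X := by
    apply le_antisymm
    · rw [zpowers_le]
      exact hgX
    · intro x hx
      obtain ⟨z, hz⟩ := mem_zpowers_iff.1 (hg ⟨x, hx⟩)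
      exact mem_zpowers_iff.2 ⟨z, congrArg Subtype.val hz⟩
  exact ⟨X, Or.inl (Or.inl ⟨g, hX⟩), h1, h2, fun τ hτ => hτ⟩

theorem closure_val {X : Subgroup L} (u v : X) :
    _root_.Subgroup.closure ({(u : L), (v : L)} : Set L) = (_root_.Subgroup.closure ({u, v} : Set X)).map X.subtype := by
  rw [MonoidHom.map_closure, Set.image_pair]
  rfl

theorem belongs_of_invGen {p : ℕ} {X : Subgroup L} (h1 : X ≠ ⊥) (h2 : X ≠ ⊤) (hc : InvGen X) : Belongs p X := by
  obtain ⟨u, v, hu, huv⟩ := hc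
  have hX : _root_.Subgroup.closure ({(u : L), (v : L)} : Set L) = X := by
    rw [closure_val, huv, ← MonoidHom.range_eq_map, Subgroup.range_subtype]
  exact ⟨X, Or.inr ⟨u, Or.inl (by rw [← Subgroup.coe_pow, hu, Subgroup.coe_one]), v, Set.mem_univ _, hX⟩, h1, h2,
    fun τ hτ => hτ⟩

theorem belongs_of_pGen {p : ℕ} {X : Subgroup L} (h2 : X ≠ ⊤) (hc : PGen p X) : Belongs p X := by
  obtain ⟨u, v, hu, hv, hu1, hg⟩ := hc
  have hle : _root_.Subgroup.closure ({(u : L), (v : L)} : Set L) ≤ X := by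
    rw [closure_le]
    rintro x (rfl | rfl)
    · exact u.2
    · exact v.2
  have hg' : ∀ g ∈ X, g ^ p = 1 → g ∈ closure ({(u : L), (v : L)} : Set L) := by
    intro g hgX hgp
    rw [closure_val]
    exact ⟨⟨g, hgX⟩, hg ⟨g, hgX⟩ (Subtype.ext hgp), rfl⟩
  have hu' : (u : L) ^ p = 1 := by rw [← Subgroup.coe_pow, hu, Subgroup.coe_one]
  have hv' : (v : L) ^ p = 1 := by rw [← Subgroup.coe_pow, hv, Subgroup.coe_one]
  refine ⟨_, Or.inr ⟨u, Or.inr hu', v, Set.mem_univ _, rfl⟩, ?_, ?_, ?_⟩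
  · intro e
    apply hu1
    have : (u : L) ∈ closure ({(u : L), (v : L)} : Set L) := _root_.Subgroup.subset_closure (by simp)
    change _root_.Subgroup.closure ({(u : L), (v : L)} : Set L) = ⊥ at e
    rw [e, mem_bot] at this
    exact Subtype.ext this
  · intro e
    apply h2
    change closure ({(u : L), (v : L)} : Set L) = ⊤ at e
    rw [eq_top_iff, ← e]
    exact hle
  · intro τ hτ s hs
    change s ∈ closure ({(u : L), (v : L)} : Set L) at hs
    have h3 : closure ({(u : L), (v : L)} : Set L) ≤ (closure ({(u : L), (v : L)} : Set L)).comap τ.toMonoidHom := by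
      rw [closure_le]
      rintro x (rfl | rfl)
      · exact hg' _ (hτ _ u.2) (by
          show (τ (u : L)) ^ p = 1
          rw [← map_pow, hu', map_one])
      · exact hg' _ (hτ _ v.2) (by
          show (τ (v : L)) ^ p = 1
          rw [← map_pow, hv', map_one])
    exact h3 hs

end Fam

section Psl

variable {K : Type*} [Field K] [Fintype K] (p : ℕ) [hp : Fact p.Prime] [CharP K p]

theorem belongs_of_borel (hs : IsSimpleGroup (PSL2 K)) (hn : ¬ ∀ a b : PSL2 K, a * b = b * a)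
    {X : Subgroup (PSL2 K)} (hX : p ∣ Nat.card X) (P : Sylow p (PSL2 K)) {Y : Subgroup (PSL2 K)}
    (hY : Y ≤ Subgroup.normalizer ((P : Subgroup (PSL2 K)) : Set (PSL2 K))) (e : X ≃* Y) : Belongs p X := by
  classical
  -- the elements of `p`-power order of `X`
  set R : Subgroup (PSL2 K) := ((((P : Subgroup (PSL2 K)).subgroupOf Y).comap e.toMonoidHom).map X.subtype) with hR
  have hmem : ∀ x (hx : x ∈ X), ((e ⟨x, hx⟩ : Y) : PSL2 K) ∈ (P : Subgroup (PSL2 K)) → x ∈ R := by
    intro x hx h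
    exact ⟨⟨x, hx⟩, h, rfl⟩
  have hRp : IsPGroup p R := by
    have h1 : IsPGroup p ((P : Subgroup (PSL2 K)).subgroupOf Y) := P.2.comap_subtype
    exact (h1.comap_of_injective e.toMonoidHom e.injective).map X.subtype
  have key : ∀ x ∈ X, (∃ k : ℕ, x ^ p ^ k = 1) → x ∈ R := by
    rintro x hx ⟨k, hk⟩
    apply hmem x hx
    set y : PSL2 K := ((e ⟨x, hx⟩ : Y) : PSL2 K) with hy
    have hyk : y ^ p ^ k = 1 := by
      rw [hy, ← Subgroup.coe_pow, ← map_pow]
      have : (⟨x, hx⟩ : X) ^ p ^ k = 1 := Subtype.ext hk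
      rw [this, map_one, Subgroup.coe_one]
    have hz : IsPGroup p (zpowers y) := by
      rintro ⟨_, n, rfl⟩
      refine ⟨k, Subtype.ext ?_⟩
      show (y ^ n) ^ p ^ k = 1
      rw [← zpow_natCast, ← zpow_mul, mul_comm, zpow_mul, zpow_natCast, hyk, one_zpow]
    have h1 := hz.inf_normalizer_sylow P
    have h2 : y ∈ zpowers y ⊓ Subgroup.normalizer ((P : Subgroup (PSL2 K)) : Set (PSL2 K)) :=
      ⟨mem_zpowers y, hY (e ⟨x, hx⟩).2⟩
    exact (h1.le h2).2
  obtain ⟨P₁, hP₁⟩ := hRp.exists_le_sylow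
  obtain ⟨⟨x₀, hx₀X⟩, hx₀⟩ := exists_prime_orderOf_dvd_card' p hX
  have hx₀p : x₀ ^ p = 1 := by
    rw [Subgroup.orderOf_mk] at hx₀
    rw [← hx₀]
    exact pow_orderOf_eq_one x₀
  have hx₀1 : x₀ ≠ 1 := by
    rintro rfl
    rw [Subgroup.orderOf_mk, orderOf_one] at hx₀
    exact hp.out.one_lt.ne hx₀
  refine ⟨P₁, Or.inl (Or.inr ⟨P₁, rfl⟩), ?_, ?_, ?_⟩
  · intro h
    have h1 := hP₁ (key x₀ hx₀X ⟨1, by rw [pow_one, hx₀p]⟩)
    rw [h, mem_bot] at h1
    exact hx₀1 h1
  · intro h
    have h1 : IsPGroup p (PSL2 K) := by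
      intro g
      obtain ⟨k, hk⟩ := P₁.2 ⟨g, by rw [h]; exact mem_top _⟩
      exact ⟨k, congrArg Subtype.val hk⟩
    haveI := hs.toNontrivial
    have h2 := h1.center_nontrivial
    rcases (inferInstance : (Subgroup.center (PSL2 K)).Normal).eq_bot_or_eq_top with h3 | h3
    · rw [h3] at h2
      exact not_nontrivial _ h2
    · apply hn
      intro a b
      have h4 : a ∈ Subgroup.center (PSL2 K) := by rw [h3]; exact mem_top _
      exact ((mem_center_iff.1 h4) b).symm
  · intro τ hτ s hs'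
    have h1 : τ x₀ ∈ R := key _ (hτ _ hx₀X) ⟨1, by rw [pow_one, ← map_pow, hx₀p, map_one]⟩
    have h2 : τ x₀ ∈ ((τ • P₁ : Sylow p (PSL2 K)) : Subgroup (PSL2 K)) := by
      rw [Sylow.pointwise_smul_def]
      exact Subgroup.smul_mem_pointwise_smul _ τ _ (hP₁ (key x₀ hx₀X ⟨1, by rw [pow_one, hx₀p]⟩))
    have h3 := sylow_eq_of_mem p (τ • P₁) P₁ (τ x₀) (fun h => hx₀1 ((map_eq_one_iff τ τ.injective).1 h)) h2 (hP₁ h1)
    rw [← h3, Sylow.pointwise_smul_def]
    exact Subgroup.smul_mem_pointwise_smul _ τ _ hs'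

/-- **The family**: every `X`, `1 < X < PSL₂(K)`, has an `S` in `Fam`. -/
theorem belongs (h2 : (2 : K) ≠ 0) (hs : IsSimpleGroup (PSL2 K)) (hn : ¬ ∀ a b : PSL2 K, a * b = b * a)
    {X : Subgroup (PSL2 K)} (hX1 : X ≠ ⊥) (hX2 : X ≠ ⊤) : Belongs p X := by
  by_cases hpX : p ∣ Nat.card X
  · rcases Cfsg.Agent.S0799.result (F := K) rfl p X with ⟨k, -, h | ⟨⟨e⟩⟩⟩ | ⟨P, Y, hY, ⟨e⟩⟩ | ⟨⟨e⟩⟩ | ⟨⟨e⟩⟩ | ⟨⟨e⟩⟩ |
      ⟨K', _, _, m, hm, h⟩
    · exact belongs_of_isCyclic hX1 hX2 h.1
    · exact belongs_of_invGen hX1 hX2 ((invGen_dihedral k).congr e)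
    · exact belongs_of_borel p hs hn hpX P hY e
    · exact belongs_of_invGen hX1 hX2 (invGen_alt4.congr e)
    · exact belongs_of_invGen hX1 hX2 (invGen_perm4.congr e)
    · exact belongs_of_invGen hX1 hX2 (invGen_alt5.congr e)
    · have hm0 : m ≠ 0 := by
        rintro rfl
        rw [pow_zero] at hm
        exact (Fintype.one_lt_card (α := K)).ne hm
      obtain ⟨f⟩ : Nonempty (K' →+* K) := exists_ringHom_of_card_pow hm
      haveI : CharP K' p := (f.charP_iff f.injective p).2 inferInstance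
      have h2' : (2 : K') ≠ 0 := fun h => h2 (by
        have := congrArg f h
        rwa [map_ofNat, map_zero] at this)
      rcases h with ⟨⟨e⟩⟩ | ⟨⟨e⟩⟩
      · exact belongs_of_pGen hX2 ((pGen_psl p h2').congr e)
      · exact belongs_of_pGen hX2 ((pGen_pgl p h2').congr e)
  · rcases tame p X hpX with h | ⟨k, ⟨e⟩⟩ | ⟨⟨e⟩⟩ | ⟨⟨e⟩⟩ | ⟨⟨e⟩⟩
    · exact belongs_of_isCyclic hX1 hX2 h
    · exact belongs_of_invGen hX1 hX2 ((invGen_dihedral k).congr e)
    · exact belongs_of_invGen hX1 hX2 (invGen_alt4.congr e)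
    · exact belongs_of_invGen hX1 hX2 (invGen_perm4.congr e)
    · exact belongs_of_invGen hX1 hX2 (invGen_alt5.congr e)

end Psl

end Cfsg.Agent.H276.EP
end

-- part: H276/EP/PslCount
section
/-!
# S3499: `A` with socle `PSL₂(k)`, `k` odd (helper276)

* `ncard_le_psl`: the number of the `A ∩ A^x` is at most `|PSL₂(k)| (4 k² + 2)`;
* `index_le_psl`: with the line bound, `|Q : A| ≤ 1 + |PSL₂(k)| (4 k² + 2) |A| / 3`.
-/

set_option autoImplicit false
set_option linter.style.haveILetI false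
set_option linter.unusedSectionVars false

namespace Cfsg.Agent.H276.EP

open Subgroup Cfsg.Agent.H284 Cfsg.Agent.H419.EP
open Cfsg.Agent.ClassicalGeometry.PSL2Basic Cfsg.Agent.ClassicalGeometry.PSL2ElemOrder

local notation "SL2" => Matrix.SpecialLinearGroup (Fin 2)
local notation "PSL2" => Matrix.ProjectiveSpecialLinearGroup (Fin 2)

/-! ### counting the family -/

theorem ncard_fam_le {L : Type*} [Group L] [Finite L] (p : ℕ) [hp : Fact p.Prime] :
    (Fam p L).ncard ≤ Nat.card L * (2 + {u : L | u ^ 2 = 1 ∨ u ^ p = 1}.ncard) := by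
  classical
  set T : Set L := {u : L | u ^ 2 = 1 ∨ u ^ p = 1} with hT
  have h1 : (Set.range (fun g : L => zpowers g)).ncard ≤ Nat.card L := by
    rw [← Set.image_univ, ← Set.ncard_univ]
    exact Set.ncard_image_le (Set.toFinite _)
  have h2 : (Set.range (fun P : Sylow p L => (P : Subgroup L))).ncard ≤ Nat.card L := by
    have h3 : (Set.range (fun P : Sylow p L => (P : Subgroup L))).ncard ≤ Nat.card (Sylow p L) := by
      rw [← Set.image_univ, ← Set.ncard_univ]
      exact Set.ncard_image_le (Set.toFinite _)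
    refine h3.trans ?_
    rw [Sylow.card_eq_index_normalizer (default : Sylow p L)]
    exact Nat.le_of_dvd Nat.card_pos (Subgroup.index_dvd_card _)
  have h3 : (Set.image2 (fun u v : L => _root_.Subgroup.closure ({u, v} : Set L)) T Set.univ).ncard ≤ T.ncard * Nat.card L := by
    rw [← Set.image_uncurry_prod]
    refine (Set.ncard_image_le (Set.toFinite _)).trans ?_
    rw [Set.ncard_prod, Set.ncard_univ]
  have h4 := (Set.ncard_union_le (Set.range (fun g : L => zpowers g) ∪ Set.range (fun P : Sylow p L => (P : Subgroup L)))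
    (Set.image2 (fun u v : L => closure ({u, v} : Set L)) T Set.univ)).trans (Nat.add_le_add_right
    (Set.ncard_union_le _ _) _)
  calc (Fam p L).ncard ≤ Nat.card L + Nat.card L + T.ncard * Nat.card L :=
        h4.trans (Nat.add_le_add (Nat.add_le_add h1 h2) h3)
    _ = Nat.card L * (2 + T.ncard) := by ring

section Trace

variable {K : Type*} [Field K]

/-- the elements of given trace -/
theorem ncard_trace_le [Finite K] (t : K) :
    {M : SL2 K | (M : Matrix (Fin 2) (Fin 2) K).trace = t}.ncard ≤ 2 * Nat.card K ^ 2 := by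
  classical
  let f : SL2 K → Bool × K × K := fun M =>
    if M.1 1 0 = 0 then (true, M.1 0 0, M.1 0 1) else (false, M.1 0 0, M.1 1 0)
  have hinj : Set.InjOn f {M : SL2 K | (M : Matrix (Fin 2) (Fin 2) K).trace = t} := by
    intro M hM N hN hMN
    have tM : M.1 0 0 + M.1 1 1 = t := by
      have : (M : Matrix (Fin 2) (Fin 2) K).trace = t := hM
      rwa [Matrix.trace_fin_two] at this
    have tN : N.1 0 0 + N.1 1 1 = t := by
      have : (N : Matrix (Fin 2) (Fin 2) K).trace = t := hN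
      rwa [Matrix.trace_fin_two] at this
    have dM : M.1 0 0 * M.1 1 1 - M.1 0 1 * M.1 1 0 = 1 := by rw [← Matrix.det_fin_two]; exact M.2
    have dN : N.1 0 0 * N.1 1 1 - N.1 0 1 * N.1 1 0 = 1 := by rw [← Matrix.det_fin_two]; exact N.2
    have key : M.1 0 0 = N.1 0 0 ∧ M.1 0 1 = N.1 0 1 ∧ M.1 1 0 = N.1 1 0 := by
      by_cases hMc : M.1 1 0 = 0
      · by_cases hNc : N.1 1 0 = 0
        · simp only [f, hMc, hNc, if_true, Prod.mk.injEq, true_and] at hMN
          exact ⟨hMN.1, hMN.2, by rw [hMc, hNc]⟩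
        · simp only [f, hMc, hNc, _root_.Fin.isValue, ↓ _root_.reduceIte, _root_.Prod.mk.injEq, _root_.Bool.true_eq_false, _root_.false_and] at hMN
      · by_cases hNc : N.1 1 0 = 0
        · simp only [f, hMc, hNc, _root_.Fin.isValue, ↓ _root_.reduceIte, _root_.Prod.mk.injEq, _root_.Bool.false_eq_true, _root_.false_and] at hMN
        · simp only [f, hMc, hNc, if_false, Prod.mk.injEq, true_and] at hMN
          refine ⟨hMN.1, ?_, hMN.2⟩
          have h11 : M.1 1 1 = N.1 1 1 := by linear_combination tM - tN - hMN.1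
          apply mul_right_cancel₀ hMc
          have e := hMN.2
          rw [h11, hMN.1] at dM
          rw [← e] at dN
          linear_combination dN - dM
    have h11 : M.1 1 1 = N.1 1 1 := by linear_combination tM - tN - key.1
    apply Subtype.ext
    ext i j
    fin_cases i <;> fin_cases j
    · exact key.1
    · exact key.2.1
    · exact key.2.2
    · exact h11
  have h1 := Set.ncard_le_ncard_of_injOn (t := (Set.univ : Set (Bool × K × K))) f (fun _ _ => Set.mem_univ _) hinj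
    (Set.toFinite _)
  rw [Set.ncard_univ, Nat.card_prod, Nat.card_prod] at h1
  have hb : Nat.card Bool = 2 := by rw [Nat.card_eq_fintype_card, Fintype.card_bool]
  rw [hb, ← pow_two] at h1
  exact h1

/-- the lifts of the elements `u` with `u² = 1` -/
theorem lift_two {g : PSL2 K} (hg : g ^ 2 = 1) :
    ∃ M : SL2 K, (QuotientGroup.mk' (Subgroup.center (SL2 K))) M = g ∧
      ((M : Matrix (Fin 2) (Fin 2) K).trace = 0 ∨ (M : Matrix (Fin 2) (Fin 2) K).trace = 2) := by
  obtain ⟨M, rfl⟩ := QuotientGroup.mk'_surjective _ g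
  by_cases h1 : (QuotientGroup.mk' (Subgroup.center (SL2 K))) M = 1
  · refine ⟨1, by rw [map_one, h1], Or.inr ?_⟩
    rw [Matrix.SpecialLinearGroup.coe_one, Matrix.trace_one, Fintype.card_fin]
    norm_num
  · refine ⟨M, rfl, Or.inl ?_⟩
    rw [← map_pow, QuotientGroup.mk'_apply, QuotientGroup.eq_one_iff, Matrix.SpecialLinearGroup.mem_center_iff] at hg
    obtain ⟨r, -, hr⟩ := hg
    have hM := sl2_mul_self M
    rw [← pow_two, ← Matrix.SpecialLinearGroup.coe_pow, ← hr] at hM
    by_contra ht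
    apply h1
    rw [QuotientGroup.mk'_apply, QuotientGroup.eq_one_iff, Matrix.SpecialLinearGroup.mem_center_iff]
    -- `t • M = (r + 1) • 1`
    have hM2 : (M : Matrix (Fin 2) (Fin 2) K) = Matrix.scalar (Fin 2)
        ((r + 1) / (M : Matrix (Fin 2) (Fin 2) K).trace) := by
      set t := (M : Matrix (Fin 2) (Fin 2) K).trace with htt
      ext i j
      have h2 := congrFun (congrFun hM i) j
      fin_cases i <;> fin_cases j <;>
        simp only [Matrix.scalar_apply, Matrix.diagonal, Matrix.sub_apply, Matrix.smul_apply, _root_.Fin.zero_eta, _root_.Fin.isValue, _root_.Matrix.of_apply, ↓ _root_.reduceIte, _root_.smul_eq_mul, _root_.Matrix.one_apply_eq, _root_.Fin.mk_one, _root_.zero_ne_one, _root_.Nat.reduceAdd, _root_.ne_eq, _root_.not_false_eq_true, _root_.Matrix.one_apply_ne, _root_.sub_zero, _root_.zero_eq_mul, _root_.one_ne_zero] at h2 ⊢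
      · field_simp
        linear_combination -h2
      · exact h2.resolve_left ht
      · exact h2.resolve_left ht
      · field_simp
        linear_combination -h2
    refine ⟨_, ?_, hM2.symm⟩
    have := M.2
    rw [hM2, Matrix.scalar_apply, Matrix.det_diagonal, Finset.prod_const, Finset.card_univ] at this
    exact this

/-- the lifts of the elements `u` with `u ^ p = 1` -/
theorem lift_p (p : ℕ) [hp : Fact p.Prime] [CharP K p] (hodd : Odd p) {g : PSL2 K} (hg : g ^ p = 1) :
    ∃ M : SL2 K, (QuotientGroup.mk' (Subgroup.center (SL2 K))) M = g ∧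
      (M : Matrix (Fin 2) (Fin 2) K).trace = 2 := by
  obtain ⟨M, rfl⟩ := QuotientGroup.mk'_surjective _ g
  have key : ∀ N : SL2 K, N ^ p = 1 → (N : Matrix (Fin 2) (Fin 2) K).trace = 2 := by
    intro N hN
    have h1 : ((N : Matrix (Fin 2) (Fin 2) K) - 1) ^ p = 0 := by
      have hc : CharP (Matrix (Fin 2) (Fin 2) K) p := inferInstance
      rw [sub_pow_char_of_commute p (Commute.one_right _), one_pow, ← Matrix.SpecialLinearGroup.coe_pow, hN,
        Matrix.SpecialLinearGroup.coe_one, sub_self]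
    have h2 := Matrix.isNilpotent_trace_of_isNilpotent (⟨p, h1⟩ : IsNilpotent ((N : Matrix (Fin 2) (Fin 2) K) - 1))
    have h3 := h2.eq_zero
    rw [Matrix.trace_sub, Matrix.trace_one, Fintype.card_fin] at h3
    have := sub_eq_zero.1 h3
    rw [this]
    norm_num
  rw [← map_pow, QuotientGroup.mk'_apply, QuotientGroup.eq_one_iff, mem_center_SL2_iff] at hg
  rcases hg with hg | hg
  · exact ⟨M, rfl, key M hg⟩
  · refine ⟨-M, ?_, key _ ?_⟩
    · rw [QuotientGroup.mk'_apply, QuotientGroup.mk'_apply, QuotientGroup.eq, mem_center_SL2_iff]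
      right
      rw [inv_mul_eq_iff_eq_mul, neg_mul_neg, mul_one]
    · rw [hodd.neg_pow, hg, neg_neg]

theorem ncard_T_le [Finite K] (p : ℕ) [hp : Fact p.Prime] [CharP K p] (hodd : Odd p) :
    {u : PSL2 K | u ^ 2 = 1 ∨ u ^ p = 1}.ncard ≤ 4 * Nat.card K ^ 2 := by
  have hsub : {u : PSL2 K | u ^ 2 = 1 ∨ u ^ p = 1} ⊆
      (QuotientGroup.mk' (Subgroup.center (SL2 K))) '' ({M : SL2 K | (M : Matrix (Fin 2) (Fin 2) K).trace = 0} ∪
        {M : SL2 K | (M : Matrix (Fin 2) (Fin 2) K).trace = 2}) := by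
    rintro g (hg | hg)
    · obtain ⟨M, h1, h2⟩ := lift_two hg
      exact ⟨M, h2, h1⟩
    · obtain ⟨M, h1, h2⟩ := lift_p p hodd hg
      exact ⟨M, Or.inr h2, h1⟩
  refine (Set.ncard_le_ncard hsub (Set.toFinite _)).trans ((Set.ncard_image_le (Set.toFinite _)).trans
    ((Set.ncard_union_le _ _).trans ((Nat.add_le_add (ncard_trace_le 0) (ncard_trace_le 2)).trans (le_of_eq ?_))))
  ring

end Trace

/-! ### the count -/

section Main

variable {Q : Type*} [Group Q] [Finite Q] {A : Subgroup Q} {Γ : Subgroup (MulAut Q)} {K : Type*} [Field K] [Fintype K]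

theorem not_comm_psl (h4 : 4 ≤ Fintype.card K) : ¬ ∀ a b : PSL2 K, a * b = b * a := fun hc =>
  Cfsg.Agent.ClassicalGeometry.PSL2Solvable.not_isSolvable_psl K h4 (Group.isSolvable_of_comm hc)

theorem simple_psl (h4 : 4 ≤ Fintype.card K) : IsSimpleGroup (PSL2 K) :=
  Matrix.ProjectiveSpecialLinearGroup.rank_two_simple (by rwa [Nat.card_eq_fintype_card])

/-- the number of two-point stabilisers -/
theorem ncard_le_psl (h : EPT A Γ) (hA : HasSoc A (PSL2 K)) (hodd : Odd (Fintype.card K)) (h4 : 4 ≤ Fintype.card K) :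
    {M : Subgroup Q | ∃ x, x ∉ A ∧ M = A ⊓ cj x A}.ncard ≤
      Nat.card (PSL2 K) * (2 + 4 * Fintype.card K ^ 2) := by
  obtain ⟨p, hpc⟩ := CharP.exists K
  haveI : Fact p.Prime := ⟨CharP.char_is_prime K p⟩
  have h2 : (2 : K) ≠ 0 := (two_ne_zero_iff_odd K).2 hodd
  have hp : Odd p := by
    refine (Fact.out : p.Prime).odd_of_ne_two ?_
    rintro rfl
    exact h2 (by exact_mod_cast CharP.cast_eq_zero K 2)
  have hs := simple_psl h4
  have hn := not_comm_psl h4
  refine (ncard_le_of_soc h hA hs hn (Cfsg.Agent.SectRankFour.OutAb.outComm_psl_two K) (Fam p (PSL2 K))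
    (fun X h1 h3 => belongs p h2 hs hn h1 h3)).trans ?_
  refine (ncard_fam_le p).trans (Nat.mul_le_mul_left _ (Nat.add_le_add_left ?_ _))
  rw [← Nat.card_eq_fintype_card]
  exact ncard_T_le p hp

/-- the index -/
theorem index_le_psl (hs : IsSimpleGroup Q) (h : EPT A Γ) (hA : HasSoc A (PSL2 K)) (hodd : Odd (Fintype.card K))
    (h4 : 4 ≤ Fintype.card K) :
    A.index ≤ 1 + Nat.card (PSL2 K) * (2 + 4 * Fintype.card K ^ 2) * (2 * (Nat.card A / 6)) := by
  have hab : ∀ K : Subgroup Q, K ≤ A → (∀ a ∈ A, ∀ k ∈ K, a * k * a⁻¹ ∈ K) → (∀ a ∈ K, ∀ b ∈ K, a * b = b * a) →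
      K = ⊥ := fun K h1 h2 h3 => hA.no_abelian (simple_psl h4) (not_comm_psl h4) h1 h2 h3
  refine (Cfsg.Agent.H173.EP.ub1 hs h (μ := 6) (by norm_num)
    (fun x hx => Cfsg.Agent.H59.EP.EPT.six_le h hab hx)).trans ?_
  exact Nat.add_le_add_left (Nat.mul_le_mul_right _ (ncard_le_psl h hA hodd h4)) _

/-- `3 |Q| ≤ 3 a + r a²` for `|A| ≤ a` -/
theorem card_le_psl (hs : IsSimpleGroup Q) (h : EPT A Γ) (hA : HasSoc A (PSL2 K)) (hodd : Odd (Fintype.card K))
    (h4 : 4 ≤ Fintype.card K) {a : ℕ} (ha : Nat.card A ≤ a) :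
    3 * Nat.card Q ≤ 3 * a + Nat.card (PSL2 K) * (2 + 4 * Fintype.card K ^ 2) * a ^ 2 := by
  have h1 := index_le_psl hs h hA hodd h4
  set r := Nat.card (PSL2 K) * (2 + 4 * Fintype.card K ^ 2) with hr
  have h2 : 3 * (2 * (Nat.card A / 6)) ≤ Nat.card A := by omega
  rw [← A.card_mul_index]
  calc 3 * (Nat.card A * A.index) ≤ 3 * (Nat.card A * (1 + r * (2 * (Nat.card A / 6)))) :=
        Nat.mul_le_mul_left _ (Nat.mul_le_mul_left _ h1)
    _ = 3 * Nat.card A + r * Nat.card A * (3 * (2 * (Nat.card A / 6))) := by ring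
    _ ≤ 3 * Nat.card A + r * Nat.card A * Nat.card A := Nat.add_le_add_left (Nat.mul_le_mul_left _ h2) _
    _ = 3 * Nat.card A + r * Nat.card A ^ 2 := by ring
    _ ≤ 3 * a + r * a ^ 2 :=
        Nat.add_le_add (Nat.mul_le_mul_left _ ha) (Nat.mul_le_mul_left _ (Nat.pow_le_pow_left ha 2))

/-- `|A| ≤ f k (k² - 1)`, `k = p ^ f` -/
theorem card_A_le_psl (hA : HasSoc A (PSL2 K)) {p f : ℕ} [Fact p.Prime] (hf : 1 ≤ f) (hK : Fintype.card K = p ^ f)
    (h4 : 4 ≤ Fintype.card K) : Nat.card A ≤ f * (Fintype.card K * (Fintype.card K ^ 2 - 1)) := by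
  refine hA.card_le.trans (le_of_eq ?_)
  rw [Cfsg.Agent.S0813.result p f hf hK 2 le_rfl (fun _ => by rw [← hK]; exact h4), if_pos rfl, one_mul, card_PGL2]

end Main

end Cfsg.Agent.H276.EP
end
end

-- part: H689/EP/L27Row
section
prune_inst 0x434200d400f40120000008012c02024546e0005b000230800d9a10f420a867f630982af40fc901f03430822a540390028120804694000000000000600413907a990aa54063374ad0cb6009f80b081180c00000000000000000000000000051004000400002
set_option linter.all false
open scoped Cfsg.Agent.FastGrp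

-- part: H689/EP/S168
section
/-!
# Task 5941 (S3499-IV-L `L₂(7)`): self-normalizing subgroups of the simple group of order 168 (helper689)
-/

set_option autoImplicit false

namespace Cfsg.Agent.H689.EP

open Subgroup

section
variable {G : Type*} [Group G] [Finite G]

/-- a class of conjugate subgroups -/
theorem ncard_conj_le (M : Subgroup G) :
    {D : Subgroup G | ∃ g : G, D = M.map (MulAut.conj g).toMonoidHom}.ncard ≤ M.index := by
  classical
  let f : G ⧸ M → Subgroup G := fun c => M.map (MulAut.conj c.out).toMonoidHom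
  have h1 : {D : Subgroup G | ∃ g : G, D = M.map (MulAut.conj g).toMonoidHom} ⊆ Set.range f := by
    rintro _ ⟨g, rfl⟩
    refine ⟨(g : G ⧸ M), ?_⟩
    obtain ⟨m, hm⟩ := QuotientGroup.mk_out_eq_mul M g
    change M.map (MulAut.conj (Quotient.out (g : G ⧸ M))).toMonoidHom = _
    rw [hm]
    ext y
    simp only [Subgroup.mem_map, MulEquiv.coe_toMonoidHom, MulAut.conj_apply]
    constructor
    · rintro ⟨z, hz, rfl⟩
      exact ⟨m * z * (m : G)⁻¹, M.mul_mem (M.mul_mem m.2 hz) (M.inv_mem m.2), by group⟩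
    · rintro ⟨z, hz, rfl⟩
      exact ⟨(m : G)⁻¹ * z * m, M.mul_mem (M.mul_mem (M.inv_mem m.2) hz) m.2, by group⟩
  calc _ ≤ (Set.range f).ncard := Set.ncard_le_ncard h1 (Set.toFinite _)
    _ ≤ Nat.card (G ⧸ M) := by
      rw [← Set.image_univ]
      refine (Set.ncard_image_le (Set.toFinite _)).trans ?_
      rw [Set.ncard_univ]
    _ = M.index := rfl

theorem exists_coatom {D : Subgroup G} (hD : D ≠ ⊤) : ∃ M : Subgroup G, IsCoatom M ∧ D ≤ M := by
  rcases eq_top_or_exists_le_coatom D with h | h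
  · exact absurd h hD
  · exact h

end

section
variable {G : Type*} [Group G] [Finite G] [IsSimpleGroup G] (h : Nat.card G = 168)
include h

theorem coatom_card {M : Subgroup G} (hM : IsCoatom M) : Nat.card M = 24 ∨ Nat.card M = 21 := by
  rcases (Cfsg.Agent.S1008.result h).1 M hM with ⟨⟨e⟩⟩ | ⟨h1, -⟩
  · left
    rw [Nat.card_congr e.toEquiv, Nat.card_perm, Nat.card_eq_fintype_card, Fintype.card_fin]
    rfl
  · right; exact h1

omit [IsSimpleGroup G] in
theorem card_norm {p n : ℕ} [Fact p.Prime] (hn : Nat.card (Sylow p G) * n = 168) (P : Sylow p G) :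
    Nat.card (normalizer (P : Set G)) = n := by
  have h1 := (normalizer (P : Set G)).card_mul_index
  rw [← P.card_eq_index_normalizer, h, ← hn, mul_comm] at h1
  have h2 : 0 < Nat.card (Sylow p G) := Nat.card_pos
  exact Nat.eq_of_mul_eq_mul_left h2 h1

theorem card_norm7 [Fact (Nat.Prime 7)] (P : Sylow 7 G) : Nat.card (normalizer (P : Set G)) = 21 :=
  card_norm h (by rw [(Cfsg.Agent.S1003.result h).2.2]) P

theorem card_norm3 [Fact (Nat.Prime 3)] (P : Sylow 3 G) : Nat.card (normalizer (P : Set G)) = 6 :=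
  card_norm h (by rw [(Cfsg.Agent.S1003.result h).2.1]) P

theorem card_norm2 [Fact (Nat.Prime 2)] (P : Sylow 2 G) : Nat.card (normalizer (P : Set G)) = 8 :=
  card_norm h (by rw [(Cfsg.Agent.S1003.result h).1]) P

omit [IsSimpleGroup G] h in
/-- a subgroup of full prime power order is a Sylow subgroup -/
theorem exists_sylow_eq {p k : ℕ} [Fact p.Prime] {D : Subgroup G} (hD : Nat.card D = p ^ k)
    (hk : ¬ p ^ (k + 1) ∣ Nat.card G) : ∃ P : Sylow p G, (P : Subgroup G) = D := by
  obtain ⟨P, hP⟩ := (IsPGroup.of_card hD).exists_le_sylow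
  refine ⟨P, (Subgroup.eq_of_le_of_card_ge hP ?_).symm⟩
  obtain ⟨i, hi⟩ := IsPGroup.iff_card.mp P.2
  have h1 : Nat.card P ∣ Nat.card G := Subgroup.card_subgroup_dvd_card _
  rw [hi] at h1
  have h2 : i ≤ k := by
    by_contra hlt
    push Not at hlt
    exact hk ((pow_dvd_pow p hlt).trans h1)
  rw [hD, hi]
  exact Nat.pow_le_pow_right (Fact.out : p.Prime).pos h2

omit [IsSimpleGroup G] h in
/-- a subgroup of prime power order is contained in a larger normalizer -/
theorem grow {p k : ℕ} [Fact p.Prime] {D : Subgroup G} (hD : Nat.card D = p ^ k)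
    (hk : p ^ (k + 1) ∣ Nat.card G) : ¬ normalizer (D : Set G) ≤ D := by
  intro hle
  have h1 := Sylow.prime_pow_dvd_card_normalizer hk hD
  have h2 := h1.trans (Subgroup.card_dvd_of_le hle)
  rw [hD] at h2
  have h3 := (Nat.pow_dvd_pow_iff_le_right (Fact.out : p.Prime).one_lt).mp h2
  omega

omit [IsSimpleGroup G] h in
/-- a subgroup of index two of a subgroup -/
theorem norm_of_two {D M : Subgroup G} (hDM : D ≤ M) (h2 : Nat.card M = 2 * Nat.card D) :
    M ≤ normalizer (D : Set G) := by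
  have h3 : D.relIndex M = 2 := by
    have := Subgroup.relIndex_mul_relIndex ⊥ D M bot_le hDM
    rw [relIndex_bot_left, relIndex_bot_left, h2, mul_comm] at this
    exact Nat.eq_of_mul_eq_mul_right Nat.card_pos this
  have h4 : (D.subgroupOf M).Normal := Subgroup.normal_of_index_eq_two h3
  exact Subgroup.normal_subgroupOf_iff_le_normalizer hDM |>.mp h4

/-- **orders of self-normalizing subgroups** -/
theorem selfnorm_card {D : Subgroup G} (hD : D ≠ ⊤) (hself : normalizer (D : Set G) ≤ D) :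
    Nat.card D = 6 ∨ Nat.card D = 8 ∨ Nat.card D = 21 ∨ Nat.card D = 24 := by
  have f2 : Fact (Nat.Prime 2) := ⟨by norm_num⟩
  have f3 : Fact (Nat.Prime 3) := ⟨by norm_num⟩
  have f7 : Fact (Nat.Prime 7) := ⟨by norm_num⟩
  obtain ⟨M, hM, hDM⟩ := exists_coatom hD
  have hdvd := Subgroup.card_dvd_of_le hDM
  have h1 : Nat.card D ≠ 1 := by
    intro h1
    have h2 : D = ⊥ := Subgroup.card_eq_one.mp h1
    apply hD
    rw [eq_top_iff]
    refine le_trans ?_ hself
    intro g _
    rw [h2, Subgroup.mem_normalizer_iff]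
    intro y
    rw [mem_bot, mem_bot]
    constructor
    · rintro rfl; group
    · intro h3
      have : y = g⁻¹ * (g * y * g⁻¹) * g := by group
      rw [this, h3]; group
  have h2 : Nat.card D ≠ 2 := fun h2 => grow (p := 2) (k := 1) h2 (by rw [h]; norm_num) hself
  have h4 : Nat.card D ≠ 4 := fun h2 => grow (p := 2) (k := 2) h2 (by rw [h]; norm_num) hself
  have h3 : Nat.card D ≠ 3 := by
    intro h3
    obtain ⟨P, hP⟩ := exists_sylow_eq (p := 3) (k := 1) h3 (by rw [h]; norm_num)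
    have h5 := card_norm3 h P
    have h6 : (P : Set G) = (D : Set G) := by rw [← hP]; rfl
    rw [h6] at h5
    have := Subgroup.card_le_of_le hself
    omega
  have h7 : Nat.card D ≠ 7 := by
    intro h3
    obtain ⟨P, hP⟩ := exists_sylow_eq (p := 7) (k := 1) h3 (by rw [h]; norm_num)
    have h5 := card_norm7 h P
    have h6 : (P : Set G) = (D : Set G) := by rw [← hP]; rfl
    rw [h6] at h5
    have := Subgroup.card_le_of_le hself
    omega
  rcases coatom_card h hM with hM2 | hM2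
  · rw [hM2] at hdvd
    have h12 : Nat.card D ≠ 12 := by
      intro h12
      have := Subgroup.card_le_of_le ((norm_of_two hDM (by rw [hM2, h12])).trans hself)
      omega
    have h5 : Nat.card D ∈ Nat.divisors 24 := Nat.mem_divisors.mpr ⟨hdvd, by norm_num⟩
    have key : ∀ d ∈ Nat.divisors 24, d = 1 ∨ d = 2 ∨ d = 3 ∨ d = 4 ∨ d = 6 ∨ d = 8 ∨ d = 12 ∨ d = 24 := by decide
    rcases key _ h5 with h6 | h6 | h6 | h6 | h6 | h6 | h6 | h6 <;> (clear * - h1 h2 h4 h3 h7 h12 h6; omega)
  · rw [hM2] at hdvd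
    have h5 : Nat.card D ∈ Nat.divisors 21 := Nat.mem_divisors.mpr ⟨hdvd, by norm_num⟩
    have key : ∀ d ∈ Nat.divisors 21, d = 1 ∨ d = 3 ∨ d = 7 ∨ d = 21 := by decide
    rcases key _ h5 with h6 | h6 | h6 | h6 <;> omega

omit [IsSimpleGroup G] in
/-- a subgroup of order 6 or 21 is the normalizer of a Sylow subgroup -/
theorem eq_normalizer {p n : ℕ} [Fact p.Prime] (hn : ∀ P : Sylow p G, Nat.card (normalizer (P : Set G)) = p * n)
    (hp : ¬ p ^ 2 ∣ 168) (hu : ∀ m, m ∣ n → m % p = 1 → m = 1) {D : Subgroup G} (hD : Nat.card D = p * n) :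
    ∃ P : Sylow p G, D = normalizer (P : Set G) ∧ (P : Subgroup G) ≤ D := by
  let P0 : Sylow p D := default
  have hp0 : Nat.card P0 = p := by
    obtain ⟨i, hi⟩ := IsPGroup.iff_card.mp P0.2
    have h1 : p ^ i ∣ 168 := by
      rw [← hi, ← h]
      exact (Subgroup.card_subgroup_dvd_card _).trans (Subgroup.card_subgroup_dvd_card D)
    have h2 : i < 2 := by
      by_contra hlt
      push Not at hlt
      exact hp ((pow_dvd_pow p hlt).trans h1)
    have h3 : i ≠ 0 := by
      rintro rfl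
      rw [pow_zero] at hi
      have h4 := P0.dvd_card_of_dvd_card (by rw [hD]; exact dvd_mul_right p n)
      rw [hi] at h4
      exact (Fact.out : p.Prime).one_lt.ne' (Nat.dvd_one.mp h4)
    have h4 : i = 1 := by omega
    rw [hi, h4, pow_one]
  have hcard : Nat.card ((P0 : Subgroup D).map D.subtype) = p ^ 1 := by
    rw [Subgroup.card_map_of_injective (Subgroup.subtype_injective D), pow_one]
    exact hp0
  obtain ⟨P, hP⟩ := exists_sylow_eq hcard (by rw [h]; exact hp)
  have hPD : (P : Subgroup G) ≤ D := by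
    rw [hP]; exact Subgroup.map_subtype_le _
  have hnorm : (P0 : Subgroup D).Normal := by
    have h1 : Nat.card (Sylow p D) = 1 := by
      apply hu
      · have h2 := P0.card_dvd_index
        have h3 := (P0 : Subgroup D).card_mul_index
        rw [hD, hp0] at h3
        rw [← Nat.eq_of_mul_eq_mul_left (Fact.out : p.Prime).pos h3]
        exact h2
      · have h2 := card_sylow_modEq_one p D
        rw [Nat.ModEq, Nat.mod_eq_of_lt (Fact.out : p.Prime).one_lt] at h2
        exact h2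
    have h2 : Subsingleton (Sylow p D) := (Nat.card_eq_one_iff_unique.mp h1).1
    exact P0.normal_of_subsingleton
  refine ⟨P, ?_, hPD⟩
  refine Subgroup.eq_of_le_of_card_ge ?_ (by rw [hn P, hD])
  have h6 : (P : Set G) = ((P : Subgroup G) : Set G) := rfl
  rw [h6, hP]
  apply (Subgroup.normal_subgroupOf_iff_le_normalizer (Subgroup.map_subtype_le _)).mp
  have h7 : ((P0 : Subgroup D).map D.subtype).subgroupOf D = P0 :=
    Subgroup.comap_map_eq_self_of_injective (Subgroup.subtype_injective D) _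
  rw [h7]
  exact hnorm

/-- the self-normalizing proper subgroups -/
def SN (G : Type*) [Group G] : Set (Subgroup G) := {D | D ≠ ⊤ ∧ normalizer (D : Set G) ≤ D}

theorem ncard24 : {D : Subgroup G | Nat.card D = 24}.ncard ≤ 14 := by
  obtain ⟨h1, -, M₁, M₂, hM₁, hM₂, ⟨e₁⟩, ⟨e₂⟩, -, h4⟩ := Cfsg.Agent.S1008.result h
  have hsub : {D : Subgroup G | Nat.card D = 24} ⊆
      {D : Subgroup G | ∃ g : G, D = M₁.map (MulAut.conj g).toMonoidHom} ∪
      {D : Subgroup G | ∃ g : G, D = M₂.map (MulAut.conj g).toMonoidHom} := by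
    intro D hD
    have hD : Nat.card D = 24 := hD
    have hDt : D ≠ ⊤ := by
      rintro rfl
      rw [Subgroup.card_top, h] at hD
      omega
    obtain ⟨M, hM, hDM⟩ := exists_coatom hDt
    have hM24 : Nat.card M = 24 := by
      rcases coatom_card h hM with h5 | h5
      · exact h5
      · have := Subgroup.card_dvd_of_le hDM
        rw [hD, h5] at this
        omega
    have hDM' : D = M := Subgroup.eq_of_le_of_card_ge hDM (by rw [hM24, hD])
    have hS4 : Nonempty (D ≃* Equiv.Perm (Fin 4)) := by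
      rcases h1 D (hDM' ▸ hM) with h5 | ⟨h5, -⟩
      · exact h5
      · omega
    obtain ⟨g, hg | hg⟩ := h4 D (hDM' ▸ hM) hS4
    · left; exact ⟨g, hg⟩
    · right; exact ⟨g, hg⟩
  have hidx : ∀ M : Subgroup G, Nonempty (M ≃* Equiv.Perm (Fin 4)) → M.index = 7 := by
    rintro M ⟨e⟩
    have h5 : Nat.card M = 24 := by
      rw [Nat.card_congr e.toEquiv, Nat.card_perm, Nat.card_eq_fintype_card, Fintype.card_fin]; rfl
    have := M.card_mul_index
    rw [h5, h] at this
    omega
  calc _ ≤ _ := Set.ncard_le_ncard hsub (Set.toFinite _)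
    _ ≤ _ := Set.ncard_union_le _ _
    _ ≤ 7 + 7 := add_le_add ((ncard_conj_le M₁).trans (hidx M₁ ⟨e₁⟩).le) ((ncard_conj_le M₂).trans (hidx M₂ ⟨e₂⟩).le)
    _ = 14 := rfl

theorem ncard8 : {D : Subgroup G | Nat.card D = 8}.ncard ≤ 21 := by
  have f2 : Fact (Nat.Prime 2) := ⟨by norm_num⟩
  have hsub : {D : Subgroup G | Nat.card D = 8} ⊆ Set.range (fun P : Sylow 2 G => (P : Subgroup G)) := by
    intro D hD
    obtain ⟨P, hP⟩ := exists_sylow_eq (p := 2) (k := 3) (D := D) hD (by rw [h]; norm_num)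
    exact ⟨P, hP⟩
  calc _ ≤ _ := Set.ncard_le_ncard hsub (Set.toFinite _)
    _ ≤ Nat.card (Sylow 2 G) := by
      rw [← Set.image_univ]
      refine (Set.ncard_image_le (Set.toFinite _)).trans ?_
      rw [Set.ncard_univ]
    _ = 21 := (Cfsg.Agent.S1003.result h).1

theorem eq6 [Fact (Nat.Prime 3)] {D : Subgroup G} (hD : Nat.card D = 6) :
    ∃ P : Sylow 3 G, D = normalizer (P : Set G) ∧ (P : Subgroup G) ≤ D :=
  eq_normalizer (n := 2) h (fun P => card_norm3 h P) (by norm_num)
    (by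
      intro m hm hm3
      have := Nat.le_of_dvd (by norm_num) hm
      interval_cases m <;> simp_all only [_root_.zero_dvd_iff, _root_.OfNat.ofNat_ne_zero, _root_.isUnit_iff_eq_one, _root_.IsUnit.dvd, _root_.Nat.one_mod, _root_.Nat.one_le_ofNat, _root_.dvd_refl, _root_.Nat.mod_succ, _root_.OfNat.ofNat_ne_one]) hD

theorem eq21 [Fact (Nat.Prime 7)] {D : Subgroup G} (hD : Nat.card D = 21) :
    ∃ P : Sylow 7 G, D = normalizer (P : Set G) ∧ (P : Subgroup G) ≤ D :=
  eq_normalizer (n := 3) h (fun P => card_norm7 h P) (by norm_num)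
    (by
      intro m hm hm3
      have := Nat.le_of_dvd (by norm_num) hm
      interval_cases m <;> simp_all only [_root_.zero_dvd_iff, _root_.OfNat.ofNat_ne_zero, _root_.isUnit_iff_eq_one, _root_.IsUnit.dvd, _root_.Nat.one_mod, _root_.Nat.one_le_ofNat, _root_.Nat.reduceDvd, _root_.dvd_refl, _root_.Nat.reduceMod, _root_.OfNat.ofNat_ne_one]) hD

theorem ncard6 : {D : Subgroup G | Nat.card D = 6}.ncard ≤ 28 := by
  have f3 : Fact (Nat.Prime 3) := ⟨by norm_num⟩
  have hsub : {D : Subgroup G | Nat.card D = 6} ⊆ Set.range (fun P : Sylow 3 G => normalizer (P : Set G)) := by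
    intro D hD
    obtain ⟨P, hP, -⟩ := eq6 h hD
    exact ⟨P, hP.symm⟩
  calc _ ≤ _ := Set.ncard_le_ncard hsub (Set.toFinite _)
    _ ≤ Nat.card (Sylow 3 G) := by
      rw [← Set.image_univ]
      refine (Set.ncard_image_le (Set.toFinite _)).trans ?_
      rw [Set.ncard_univ]
    _ = 28 := (Cfsg.Agent.S1003.result h).2.1

theorem ncard21 : {D : Subgroup G | Nat.card D = 21}.ncard ≤ 8 := by
  have f7 : Fact (Nat.Prime 7) := ⟨by norm_num⟩
  have hsub : {D : Subgroup G | Nat.card D = 21} ⊆ Set.range (fun P : Sylow 7 G => normalizer (P : Set G)) := by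
    intro D hD
    obtain ⟨P, hP, -⟩ := eq21 h hD
    exact ⟨P, hP.symm⟩
  calc _ ≤ _ := Set.ncard_le_ncard hsub (Set.toFinite _)
    _ ≤ Nat.card (Sylow 7 G) := by
      rw [← Set.image_univ]
      refine (Set.ncard_image_le (Set.toFinite _)).trans ?_
      rw [Set.ncard_univ]
    _ = 8 := (Cfsg.Agent.S1003.result h).2.2

/-- **there are at most 71 self-normalizing proper subgroups** -/
theorem ncard_SN : (SN G).ncard ≤ 71 := by
  have hsub : SN G ⊆ (({D : Subgroup G | Nat.card D = 6} ∪ {D : Subgroup G | Nat.card D = 8}) ∪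
      {D : Subgroup G | Nat.card D = 21}) ∪ {D : Subgroup G | Nat.card D = 24} := by
    rintro D ⟨h1, h2⟩
    rcases selfnorm_card h h1 h2 with h3 | h3 | h3 | h3
    · left; left; left; exact h3
    · left; left; right; exact h3
    · left; right; exact h3
    · right; exact h3
  calc _ ≤ _ := Set.ncard_le_ncard hsub (Set.toFinite _)
    _ ≤ _ := Set.ncard_union_le _ _
    _ ≤ _ := Nat.add_le_add_right (Set.ncard_union_le _ _) _
    _ ≤ _ := Nat.add_le_add_right (Nat.add_le_add_right (Set.ncard_union_le _ _) _) _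
    _ ≤ 28 + 21 + 8 + 14 := add_le_add (add_le_add (add_le_add (ncard6 h) (ncard8 h)) (ncard21 h)) (ncard24 h)
    _ = 71 := rfl

/-- the automorphism group has order 336 -/
theorem card_aut : Nat.card (MulAut G) = 336 := by
  have f7 : Fact (Nat.Prime 7) := ⟨by norm_num⟩
  obtain ⟨e⟩ := Cfsg.Agent.S0495.result h (F := ZMod 7) (ZMod.card 7)
  rw [Nat.card_congr (MulAut.congr e).toEquiv]
  set L := Matrix.ProjectiveSpecialLinearGroup (Fin 2) (ZMod 7) with hL
  have hLs : IsSimpleGroup L := e.symm.isSimpleGroup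
  have hLc : Nat.card L = 168 := by rw [← h]; exact (Nat.card_congr e.toEquiv).symm
  have hLf : Finite L := Finite.of_equiv _ e.toEquiv
  obtain ⟨φ, hφ, -, hk⟩ := Cfsg.Agent.S2602.result (F := ZMod 7) (p := 7) (f := 1) le_rfl (by rw [ZMod.card]; norm_num)
    (by norm_num)
  have hker : φ.ker = ⊤ := by
    rw [eq_top_iff]
    intro x _
    rw [MonoidHom.mem_ker]
    have : Subsingleton (Multiplicative (ZMod 1)) := inferInstanceAs (Subsingleton (ZMod 1))
    exact Subsingleton.elim _ _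
  have hout : (Cfsg.Inn L).index = 2 := by
    have h1 : Nat.card (Cfsg.Out L) = 2 := by
      rw [← Subgroup.card_top (G := Cfsg.Out L), ← hker, hk]
      norm_num
    exact h1
  have hinn : Nat.card (Cfsg.Inn L) = 168 := by
    have h1 : Function.Injective (MulAut.conj : L →* MulAut L) := by
      rw [injective_iff_map_eq_one]
      intro g hg
      have hgc : g ∈ center L := by
        rw [Subgroup.mem_center_iff]
        intro y
        have := congrArg (fun σ : MulAut L => σ y) hg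
        simp only [MulAut.conj_apply, MulAut.one_apply] at this
        rw [mul_inv_eq_iff_eq_mul] at this
        exact this.symm
      rcases Subgroup.Normal.eq_bot_or_eq_top (H := center L) inferInstance with h2 | h2
      · rw [h2] at hgc; exact hgc
      · exfalso
        let i : CommGroup L := { (inferInstance : Group L) with
          mul_comm := fun a b => ((Subgroup.mem_center_iff.1 (h2 ▸ Subgroup.mem_top b : b ∈ center L) a)) }
        have h3 : (Nat.card L).Prime := @IsSimpleGroup.prime_card L i hLs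
        rw [hLc] at h3
        exact absurd h3 (by norm_num)
    have h2 : Nat.card (MulAut.conj : L →* MulAut L).range = Nat.card L :=
      (Nat.card_congr (MonoidHom.ofInjective h1).toEquiv).symm
    rw [← hLc]; exact h2
  have h1 := (Cfsg.Inn L).card_mul_index
  rw [hinn, hout] at h1
  exact h1.symm

end

end Cfsg.Agent.H689.EP
end

-- part: H689/EP/L27
section
/-!
# Task 5941 (S3499-IV-L `L₂(7)`): extremely primitive groups with `soc(A) = L₂(7)` (helper689)

* `index_le` : `|Q : A| ≤ 5041`, `card_le` : `|Q| ≤ 1693776`;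
* `tight` : `|Q| ≠ 6048`.
-/

set_option autoImplicit false

namespace Cfsg.Agent.H689.EP

open Subgroup Cfsg.Agent.H284
open scoped Pointwise

/-- the situation: `N ⊴ A` is simple of order 168 and `C_A(N) = 1` -/
structure Soc {Q : Type*} [Group Q] (A : Subgroup Q) (Γ : Subgroup (MulAut Q)) (N : Subgroup Q) : Prop where
  ept : EPT A Γ
  le : N ≤ A
  nrm : ∀ a ∈ A, ∀ n ∈ N, a * n * a⁻¹ ∈ N
  simple : IsSimpleGroup N
  card : Nat.card N = 168
  cent : ∀ a ∈ A, (∀ n ∈ N, a * n = n * a) → a = 1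

namespace Soc

variable {Q : Type*} [Group Q] [Finite Q] {A : Subgroup Q} {Γ : Subgroup (MulAut Q)} {N : Subgroup Q} (h : Soc A Γ N)
include h

theorem ne_bot : N ≠ ⊥ := by
  intro e
  have := h.card
  rw [e, Subgroup.card_bot] at this
  omega

theorem not_comm : ¬ ∀ a ∈ N, ∀ b ∈ N, a * b = b * a := by
  intro hc
  obtain ⟨x, hx⟩ := Subgroup.ne_bot_iff_exists_ne_one.1 h.ne_bot
  apply hx
  apply Subtype.ext
  exact h.cent x (h.le x.2) (fun n hn => hc x x.2 n hn)

theorem card_A_dvd : Nat.card A ∣ 336 := by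
  have hn : (N.subgroupOf A).Normal := ⟨by
    intro n hn a
    exact h.nrm a a.2 n hn⟩
  let e : N.subgroupOf A ≃* N := Subgroup.subgroupOfEquivOfLe h.le
  have hs := h.simple
  have hs' : IsSimpleGroup (N.subgroupOf A) := e.isSimpleGroup
  have hc : Nat.card (N.subgroupOf A) = 168 := by rw [Nat.card_congr e.toEquiv]; exact h.card
  rw [← card_aut hc]
  refine Subgroup.card_dvd_of_injective (MulAut.conjNormal : A →* MulAut (N.subgroupOf A)) ?_
  rw [injective_iff_map_eq_one]
  intro a ha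
  apply Subtype.ext
  refine h.cent a a.2 (fun n hn => ?_)
  have h1 := congrArg (fun σ : MulAut (N.subgroupOf A) => ((σ ⟨⟨n, h.le hn⟩, hn⟩ : N.subgroupOf A) : A)) ha
  have h2 := congrArg Subtype.val h1
  have h3 : (a : Q) * n * (a : Q)⁻¹ = n := h2
  rw [mul_inv_eq_iff_eq_mul] at h3
  exact h3

theorem card_A : Nat.card A = 168 ∨ Nat.card A = 336 := by
  have h1 := h.card_A_dvd
  have h2 := Subgroup.card_dvd_of_le h.le
  rw [h.card] at h2
  obtain ⟨k, hk⟩ := h2
  rw [hk] at h1 ⊢
  have h3 : k ∣ 2 := Nat.dvd_of_mul_dvd_mul_left (k := 168) (by norm_num) (by norm_num; exact h1)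
  rcases (Nat.dvd_prime (by norm_num)).mp h3 with rfl | rfl
  · left; rfl
  · right; rfl

theorem comm_mem {a b : Q} (ha : a ∈ A) (hb : b ∈ A) : a * b * a⁻¹ * b⁻¹ ∈ N := by
  have h1 : N.relIndex A ∣ 2 := by
    have h2 := Subgroup.relIndex_mul_relIndex ⊥ N A bot_le h.le
    rw [relIndex_bot_left, relIndex_bot_left, h.card] at h2
    rcases h.card_A with h3 | h3
    · rw [h3] at h2
      have : N.relIndex A = 1 := by omega
      rw [this]; norm_num
    · rw [h3] at h2
      have : N.relIndex A = 2 := by omega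
      rw [this]
  rcases (Nat.dvd_prime (by norm_num)).mp h1 with h3 | h3
  · rw [relIndex_eq_one] at h3
    exact h3 (A.mul_mem (A.mul_mem (A.mul_mem ha hb) (A.inv_mem ha)) (A.inv_mem hb))
  · have h4 : (N.subgroupOf A).index = 2 := h3
    have h5 : (⟨a, ha⟩ : A) * ⟨b, hb⟩ * (⟨a, ha⟩ : A)⁻¹ * (⟨b, hb⟩ : A)⁻¹ ∈ N.subgroupOf A := by
      rw [Subgroup.mul_mem_iff_of_index_two h4, Subgroup.mul_mem_iff_of_index_two h4,
        Subgroup.mul_mem_iff_of_index_two h4, inv_mem_iff, inv_mem_iff]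
      (clear * -; tauto)
    exact h5

/-- a nontrivial normal subgroup of `A` contains `N` -/
theorem le_of_normal {K : Subgroup Q} (hK : K ≤ A) (hKn : ∀ a ∈ A, ∀ k ∈ K, a * k * a⁻¹ ∈ K) (hne : K ≠ ⊥) : N ≤ K := by
  have hs := h.simple
  have h1 : (K.subgroupOf N).Normal := ⟨by
    intro k hk n
    exact hKn n (h.le n.2) k hk⟩
  rcases h1.eq_bot_or_eq_top with h2 | h2
  · exfalso
    apply hne
    rw [Subgroup.eq_bot_iff_forall]
    intro k hk
    refine h.cent k (hK hk) (fun n hn => ?_)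
    have h3 : k * n * k⁻¹ * n⁻¹ ∈ K := by
      have := K.mul_mem hk (hKn n (h.le hn) _ (K.inv_mem hk))
      have e : k * (n * k⁻¹ * n⁻¹) = k * n * k⁻¹ * n⁻¹ := by group
      rwa [e] at this
    have h4 : k * n * k⁻¹ * n⁻¹ ∈ N := N.mul_mem (h.nrm k (hK hk) n hn) (N.inv_mem hn)
    have h5 : (⟨_, h4⟩ : N) ∈ K.subgroupOf N := h3
    rw [h2, mem_bot] at h5
    have h6 : k * n * k⁻¹ * n⁻¹ = 1 := congrArg Subtype.val h5
    rw [mul_inv_eq_one, mul_inv_eq_iff_eq_mul] at h6
    exact h6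
  · exact Subgroup.subgroupOf_eq_top.mp h2

/-- `N` is invariant under `Γ` -/
theorem inv {σ : MulAut Q} (hσ : σ ∈ Γ) {n : Q} (hn : n ∈ N) : σ n ∈ N := by
  have hA : N.map σ.toMonoidHom ≤ A := by
    rintro _ ⟨y, hy, rfl⟩
    exact (h.ept.inv σ hσ y).2 (h.le hy)
  have h1 : N ≤ N.map σ.toMonoidHom := by
    refine h.le_of_normal hA ?_ ?_
    · rintro a ha _ ⟨y, hy, rfl⟩
      have h2 : σ⁻¹ a ∈ A := (h.ept.inv σ⁻¹ (Γ.inv_mem hσ) a).2 ha
      refine ⟨σ⁻¹ a * y * (σ⁻¹ a)⁻¹, h.nrm _ h2 y hy, ?_⟩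
      change σ (σ⁻¹ a * y * (σ⁻¹ a)⁻¹) = a * σ y * a⁻¹
      rw [map_mul, map_mul, map_inv, MulAut.apply_inv_self]
    · intro e
      rw [Subgroup.map_eq_bot_iff_of_injective _ σ.injective] at e
      exact h.ne_bot e
  have h2 : N = N.map σ.toMonoidHom := Subgroup.eq_of_le_of_card_ge h1 (by
    rw [Subgroup.card_map_of_injective σ.injective])
  rw [h2]
  exact ⟨n, hn, rfl⟩

theorem not_le {x : Q} (hx : x ∉ A) : ¬ N ≤ cj x A := fun hle =>
  h.ne_bot (h.ept.F1 x hx N h.le (fun _ hσ _ hn => h.inv hσ hn) hle)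

/-- `D(x) = N ∩ A^x` is not trivial -/
theorem D_ne {x : Q} (hx : x ∉ A) : N ⊓ cj x A ≠ ⊥ := by
  intro e
  obtain ⟨K, hK, hKΓ, hne, hab⟩ := h.ept.abM0 x hx (by
    rintro a ha b hb
    have h1 : a * b * a⁻¹ * b⁻¹ ∈ N ⊓ cj x A := by
      refine ⟨h.comm_mem (mem_inf.1 ha).1 (mem_inf.1 hb).1, ?_⟩
      exact (cj x A).mul_mem ((cj x A).mul_mem ((cj x A).mul_mem (mem_inf.1 ha).2 (mem_inf.1 hb).2)
        ((cj x A).inv_mem (mem_inf.1 ha).2)) ((cj x A).inv_mem (mem_inf.1 hb).2)
    rw [e, mem_bot, mul_inv_eq_one, mul_inv_eq_iff_eq_mul] at h1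
    exact h1)
  have h2 : N ≤ K := h.le_of_normal hK (fun a ha k hk => by
    have := hKΓ _ ((h.ept.conj a).2 ha) k hk
    rwa [MulAut.conj_apply] at this) hne
  exact h.not_comm (fun a ha b hb => hab a (h2 ha) b (h2 hb))

theorem D_inv {x : Q} {σ : MulAut Q} (hσ : σ ∈ Γ) (hσx : x⁻¹ * σ x ∈ A) {y : Q} (hy : y ∈ N ⊓ cj x A) :
    σ y ∈ N ⊓ cj x A :=
  ⟨h.inv hσ (mem_inf.1 hy).1, (mem_inf.1 (h.ept.stab_M0 hσ hσx ⟨h.le (mem_inf.1 hy).1, (mem_inf.1 hy).2⟩)).2⟩

/-- elements of `Γ` normalizing `D(x)` fix the point -/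
theorem norm_D {x : Q} (hx : x ∉ A) {σ : MulAut Q} (hσ : σ ∈ Γ) (hn : ∀ y ∈ N ⊓ cj x A, σ y ∈ N ⊓ cj x A) :
    x⁻¹ * σ x ∈ A :=
  h.ept.norm x hx (N ⊓ cj x A) (fun y hy => ⟨h.le (mem_inf.1 hy).1, (mem_inf.1 hy).2⟩)
    (fun _ hτ hτx _ hz => h.D_inv hτ hτx hz) (h.D_ne hx) σ hσ hn

/-- the subgroup `D(x)` in `N` -/
theorem mem_SN {x : Q} (hx : x ∉ A) : (cj x A).subgroupOf N ∈ SN N := by
  refine ⟨?_, ?_⟩
  · intro e
    exact h.not_le hx (Subgroup.subgroupOf_eq_top.mp e)
  · intro n hn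
    rw [Subgroup.mem_normalizer_iff] at hn
    have h1 : x⁻¹ * MulAut.conj (n : Q) x ∈ A := by
      refine h.norm_D hx ((h.ept.conj _).2 (h.le n.2)) ?_
      intro y hy
      have h2 := (hn ⟨y, (mem_inf.1 hy).1⟩).mp (mem_inf.1 hy).2
      exact ⟨N.mul_mem (N.mul_mem n.2 (mem_inf.1 hy).1) (N.inv_mem n.2), h2⟩
    exact (h.ept.conj_stab (h.le n.2)).1 h1

theorem M0_of_D {x y : Q} (hy : y ∉ A) (he : (cj x A).subgroupOf N = (cj y A).subgroupOf N) :
    A ⊓ cj x A ≤ A ⊓ cj y A := by
  have he' : ∀ z, z ∈ N → (z ∈ cj x A ↔ z ∈ cj y A) := by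
    intro z hz
    have := congrArg (fun K : Subgroup N => (⟨z, hz⟩ : N) ∈ K) he
    simpa only [Subgroup.mem_subgroupOf, _root_.Subgroup.mem_map, _root_.MulEquiv.toMonoidHom_eq_coe, _root_.MonoidHom.coe_coe, _root_.MulAut.conj_apply, _root_.eq_iff_iff] using this
  rintro a ⟨ha1, ha2⟩
  refine ⟨ha1, (h.ept.conj_stab ha1).1 (h.norm_D hy ((h.ept.conj _).2 ha1) ?_)⟩
  intro z hz
  have hz1 := (mem_inf.1 hz).1
  have hz2 := (he' z hz1).2 (mem_inf.1 hz).2
  have h3 : MulAut.conj a z ∈ N := h.nrm a ha1 z hz1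
  refine ⟨h3, (he' _ h3).1 ?_⟩
  rw [MulAut.conj_apply]
  exact mul_mem (mul_mem ha2 hz2) (inv_mem ha2)

/-- the number of two-point stabilisers -/
theorem ncard_le (S : Set (Subgroup N)) (hS : ∀ x, x ∉ A → (cj x A).subgroupOf N ∈ S) :
    {M : Subgroup Q | ∃ x, x ∉ A ∧ M = A ⊓ cj x A}.ncard ≤ S.ncard := by
  have hsub : ∀ x, (A ⊓ cj x A).subgroupOf N = (cj x A).subgroupOf N := by
    intro x
    ext n
    rw [Subgroup.mem_subgroupOf, Subgroup.mem_subgroupOf, mem_inf]
    exact ⟨fun h1 => h1.2, fun h1 => ⟨h.le n.2, h1⟩⟩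
  refine Set.ncard_le_ncard_of_injOn (fun M => M.subgroupOf N) ?_ ?_ (Set.toFinite _)
  · rintro _ ⟨x, hx, rfl⟩
    rw [hsub]; exact hS x hx
  · rintro _ ⟨x, hx, rfl⟩ _ ⟨y, hy, rfl⟩ he
    have he : (A ⊓ cj x A).subgroupOf N = (A ⊓ cj y A).subgroupOf N := he
    rw [hsub, hsub] at he
    exact le_antisymm (h.M0_of_D hy he) (h.M0_of_D hx he.symm)

/-- **the bound** -/
theorem index_le : A.index ≤ 5041 := by
  have hs := h.simple
  refine h.ept.index_le.trans ?_
  have h1 := (h.ncard_le (SN N) (fun x hx => h.mem_SN hx)).trans (ncard_SN h.card)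
  calc _ ≤ 71 ^ 2 := Nat.pow_le_pow_left h1 2
    _ = 5041 := by norm_num

theorem card_le : Nat.card Q ≤ 1693776 := by
  rw [← A.card_mul_index]
  have h1 := h.index_le
  have h2 : Nat.card A ≤ 336 := by rcases h.card_A with h3 | h3 <;> omega
  calc _ ≤ 336 * 5041 := Nat.mul_le_mul h2 h1
    _ = 1693776 := by norm_num

/-! ### the action of `N` on the points -/

omit h in
/-- if all stabilizers have order `d`, the group order divides `d` times the number of points -/
theorem dvd_of_stab {G X : Type*} [Group G] [Finite G] [MulAction G X] [Finite X] (d : ℕ) :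
    Nat.card G ∣ d * Nat.card {c : X // Nat.card (MulAction.stabilizer G c) = d} := by
  classical
  let Y : SubMulAction G X :=
    { carrier := {c | Nat.card (MulAction.stabilizer G c) = d}
      smul_mem' := by
        intro g c hc
        change Nat.card (MulAction.stabilizer G (g • c)) = d
        rw [← hc]
        exact Nat.card_congr (MulAction.stabilizerEquivStabilizer (g := g) rfl).symm.toEquiv }
  have hY : ∀ y : Y, Nat.card (MulAction.stabilizer G y) = d := by
    intro y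
    rw [SubMulAction.stabilizer_of_subMul]
    exact y.2
  change Nat.card G ∣ d * Nat.card Y
  have := Fintype.ofFinite G
  have := Fintype.ofFinite (MulAction.orbitRel.Quotient G Y)
  rw [Nat.card_congr (MulAction.selfEquivSigmaOrbitsQuotientStabilizer G Y), Nat.card_sigma, Finset.mul_sum]
  refine Finset.dvd_sum fun ω _ => ?_
  have h1 := (MulAction.stabilizer G ω.out).card_mul_index
  rw [hY] at h1
  exact ⟨1, by rw [mul_one]; exact h1⟩

omit h in
theorem stab_eq (x : Q) : MulAction.stabilizer N ((x : Q) : Q ⧸ A) = (cj x A).subgroupOf N := by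
  ext n
  rw [MulAction.mem_stabilizer_iff, Subgroup.mem_subgroupOf, mem_cj]
  change ((((n : Q) * x : Q) : Q ⧸ A) = x) ↔ _
  rw [eq_comm, QuotientGroup.eq, mul_assoc]

theorem card_D {x : Q} (hx : x ∉ A) : Nat.card ((cj x A).subgroupOf N) = 6 ∨ Nat.card ((cj x A).subgroupOf N) = 8 ∨
    Nat.card ((cj x A).subgroupOf N) = 21 ∨ Nat.card ((cj x A).subgroupOf N) = 24 := by
  have hs := h.simple
  exact selfnorm_card h.card (h.mem_SN hx).1 (h.mem_SN hx).2

theorem card_D_mem {x : Q} (hx : x ∈ A) : Nat.card ((cj x A).subgroupOf N) = 168 := by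
  rw [cj_eq_self hx, Subgroup.subgroupOf_eq_top.mpr h.le, Subgroup.card_top, h.card]

omit h in
/-- the number of points with stabilizer of order `d` in `N` -/
noncomputable def np (A N : Subgroup Q) (d : ℕ) : ℕ :=
  Nat.card {c : Q ⧸ A // Nat.card (MulAction.stabilizer N c) = d}

theorem np_dvd (d k : ℕ) (hd : 0 < d) (hk : d * k = 168) : k ∣ np A N d := by
  have h1 := dvd_of_stab (G := N) (X := Q ⧸ A) d
  rw [h.card, ← hk] at h1
  exact Nat.dvd_of_mul_dvd_mul_left hd h1

theorem np_one : np A N 168 = 1 := by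
  unfold np
  rw [Nat.card_eq_one_iff_unique]
  constructor
  · constructor
    have key : ∀ c : Q ⧸ A, Nat.card (MulAction.stabilizer N c) = 168 → c = ((1 : Q) : Q ⧸ A) := by
      intro c hc
      induction c using QuotientGroup.induction_on with
      | H x =>
        rw [stab_eq] at hc
        by_cases hx : x ∈ A
        · rw [eq_comm, QuotientGroup.eq, inv_one, one_mul]; exact hx
        · exfalso
          rcases h.card_D hx with h1 | h1 | h1 | h1 <;> omega
    rintro ⟨c, hc⟩ ⟨d, hd⟩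
    apply Subtype.ext
    change c = d
    rw [key c hc, key d hd]
  · exact ⟨⟨((1 : Q) : Q ⧸ A), by rw [stab_eq]; exact h.card_D_mem A.one_mem⟩⟩

theorem index_eq : A.index = 1 + np A N 6 + np A N 8 + np A N 21 + np A N 24 := by
  classical
  have := Fintype.ofFinite (Q ⧸ A)
  have h1 : A.index = (Finset.univ : Finset (Q ⧸ A)).card := by
    rw [Finset.card_univ, ← Nat.card_eq_fintype_card]; rfl
  have h2 := Finset.card_eq_sum_card_fiberwise (s := (Finset.univ : Finset (Q ⧸ A)))
    (t := ({168, 6, 8, 21, 24} : Finset ℕ)) (f := fun c => Nat.card (MulAction.stabilizer N c)) (by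
      intro c _
      induction c using QuotientGroup.induction_on with
      | H x =>
        change Nat.card (MulAction.stabilizer N (x : Q ⧸ A)) ∈ _
        rw [stab_eq]
        by_cases hx : x ∈ A
        · rw [h.card_D_mem hx]; simp only [_root_.Finset.coe_insert, _root_.Finset.coe_singleton, _root_.Set.mem_insert_iff, _root_.Nat.reduceEqDiff, _root_.Set.mem_singleton_iff, _root_.or_self, _root_.or_false]
        · rcases h.card_D hx with h3 | h3 | h3 | h3 <;> rw [h3] <;> simp only [_root_.Finset.coe_insert, _root_.Finset.coe_singleton, _root_.Set.mem_insert_iff, _root_.Nat.reduceEqDiff, _root_.Set.mem_singleton_iff, _root_.or_self, _root_.or_false, _root_.or_true])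
  have h3 : ∀ d, (Finset.univ.filter (fun c : Q ⧸ A => Nat.card (MulAction.stabilizer N c) = d)).card = np A N d := by
    intro d
    unfold np
    rw [Nat.card_eq_fintype_card, Fintype.card_subtype]
  rw [h1, h2]
  simp only [h3]
  rw [Finset.sum_insert (by decide), Finset.sum_insert (by decide), Finset.sum_insert (by decide),
    Finset.sum_insert (by decide), Finset.sum_singleton, h.np_one]
  ring

theorem exists_of_np {d : ℕ} (hd : d ≠ 168) (hn : np A N d ≠ 0) : ∃ x, x ∉ A ∧ Nat.card ((cj x A).subgroupOf N) = d := by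
  obtain ⟨⟨c, hc⟩⟩ := (Nat.card_ne_zero.mp hn).1
  induction c using QuotientGroup.induction_on with
  | H x =>
    rw [stab_eq] at hc
    refine ⟨x, ?_, hc⟩
    intro hx
    rw [h.card_D_mem hx] at hc
    exact hd hc.symm

/-- the case of index 18 and 36 -/
theorem tight_counts (hQ : Nat.card Q = 6048) : Nat.card A = 168 ∧
    (np A N 24 = 35 ∨ (np A N 24 ≠ 0 ∧ (np A N 6 ≠ 0 ∨ np A N 8 ≠ 0))) := by
  have h0 := A.card_mul_index
  have h1 := h.index_eq
  obtain ⟨a, ha⟩ := h.np_dvd 6 28 (by norm_num) (by norm_num)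
  obtain ⟨b, hb⟩ := h.np_dvd 8 21 (by norm_num) (by norm_num)
  obtain ⟨c, hc⟩ := h.np_dvd 21 8 (by norm_num) (by norm_num)
  obtain ⟨d, hd⟩ := h.np_dvd 24 7 (by norm_num) (by norm_num)
  rw [hQ] at h0
  rcases h.card_A with h2 | h2
  · refine ⟨h2, ?_⟩
    rw [h2] at h0
    have h3 : A.index = 36 := by omega
    omega
  · exfalso
    rw [h2] at h0
    have h3 : A.index = 18 := by (clear * - h0; omega)
    omega

/-- the automorphism of `N` induced by `σ ∈ Γ` -/
def rs {σ : MulAut Q} (hσ : σ ∈ Γ) : MulAut N where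
  toFun n := ⟨σ n, h.inv hσ n.2⟩
  invFun n := ⟨σ⁻¹ n, h.inv (Γ.inv_mem hσ) n.2⟩
  left_inv n := Subtype.ext (MulAut.inv_apply_self Q σ n)
  right_inv n := Subtype.ext (MulAut.apply_inv_self Q σ n)
  map_mul' a b := Subtype.ext (map_mul σ (a : Q) b)

omit [Finite Q] h in
theorem conj_in {G : Type*} [Group G] [Finite G] {p : ℕ} [Fact p.Prime] {M : Subgroup G} {P R : Sylow p G}
    (hP : (P : Subgroup G) ≤ M) (hR : (R : Subgroup G) ≤ M) : ∃ m ∈ M, m • P = R := by
  obtain ⟨m, hm⟩ := MulAction.exists_smul_eq M (P.subtype hP) (R.subtype hR)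
  rw [Sylow.smul_subtype] at hm
  exact ⟨m, m.2, Sylow.subtype_injective hm⟩

/-- a point whose stabilizer in `N` is the normalizer of a Sylow subgroup contained in a larger stabilizer: impossible -/
theorem bad_pair {x₁ x₂ : Q} (h1 : x₁ ∉ A) (h2 : x₂ ∉ A) {p : ℕ} [Fact p.Prime] (P : Sylow p N)
    (hD : (cj x₁ A).subgroupOf N = normalizer (P : Set N)) (hPM : (P : Subgroup N) ≤ (cj x₂ A).subgroupOf N)
    (hNM : normalizer (P : Set N) ≤ (cj x₂ A).subgroupOf N)
    (hne : Nat.card (normalizer (P : Set N)) < Nat.card ((cj x₂ A).subgroupOf N)) : False := by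
  -- the stabilizer of the second point
  let L : Subgroup (MulAut Q) :=
    { carrier := {σ | σ ∈ Γ ∧ x₂⁻¹ * σ x₂ ∈ A}
      one_mem' := ⟨Γ.one_mem, by rw [MulAut.one_apply, inv_mul_cancel]; exact A.one_mem⟩
      mul_mem' := by
        rintro σ τ ⟨hσ, hσx⟩ ⟨hτ, hτx⟩
        refine ⟨Γ.mul_mem hσ hτ, ?_⟩
        have e : x₂⁻¹ * (σ * τ) x₂ = (x₂⁻¹ * σ x₂) * σ (x₂⁻¹ * τ x₂) := by
          rw [MulAut.mul_apply, map_mul, map_inv]; group
        rw [e]
        exact A.mul_mem hσx ((h.ept.inv σ hσ _).2 hτx)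
      inv_mem' := by
        rintro σ ⟨hσ, hσx⟩
        refine ⟨Γ.inv_mem hσ, ?_⟩
        have h3 := (h.ept.inv _ (Γ.inv_mem hσ) _).2 (A.inv_mem hσx)
        have e4 : σ⁻¹ (x₂⁻¹ * σ x₂)⁻¹ = x₂⁻¹ * σ⁻¹ x₂ := by
          rw [mul_inv_rev, map_mul, map_inv, MulAut.inv_apply_self, inv_inv]
        rwa [e4] at h3 }
  have hLΓ : L ≤ Γ := fun σ hσ => hσ.1
  have hcard : Nat.card P ≤ Nat.card P := le_rfl
  rcases h.ept.two x₁ h1 L hLΓ (by
    intro σ hσ hσx
    refine ⟨hσ, ?_⟩
    -- `σ` fixes `P`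
    have hσP : h.rs hσ • P = P := by
      have h3 : ((h.rs hσ • P : Sylow p N) : Subgroup N) ≤ normalizer (P : Set N) := by
        rw [← hD, Sylow.pointwise_smul_def]
        rintro _ ⟨y, hy, rfl⟩
        have hy2 : y ∈ (cj x₁ A).subgroupOf N := by rw [hD]; exact le_normalizer hy
        exact (mem_inf.1 (h.D_inv hσ hσx ⟨y.2, hy2⟩)).2
      have h4 := (h.rs hσ • P : Sylow p N).2.inf_normalizer_sylow P
      rw [inf_eq_left.2 h3, eq_comm, inf_eq_left] at h4
      exact Sylow.ext (Subgroup.eq_of_le_of_card_ge h4 (by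
        exact (Nat.card_congr (Sylow.equiv P (h.rs hσ • P)).toEquiv).le))
    obtain ⟨k, hk, τ, hτ, hτx, e⟩ := h.ept.fac h.le (fun _ hτ _ hn => h.inv hτ hn) h.ne_bot h2 hσ
    have hτP : ((h.rs hτ • P : Sylow p N) : Subgroup N) ≤ (cj x₂ A).subgroupOf N := by
      rw [Sylow.pointwise_smul_def]
      rintro _ ⟨y, hy, rfl⟩
      exact (mem_inf.1 (h.D_inv hτ hτx ⟨y.2, hPM hy⟩)).2
    obtain ⟨m, hm, hmP⟩ := conj_in hPM hτP
    have hrs : h.rs hσ = MulAut.conj (⟨k, hk⟩ : N) * h.rs hτ := by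
      ext n
      change σ n = k * τ n * k⁻¹
      rw [e]; rfl
    have h5 : ((⟨k, hk⟩ : N) * m) • P = P := by
      rw [mul_smul, hmP, Sylow.smul_def, ← mul_smul, ← hrs, hσP]
    have h6 : (⟨k, hk⟩ : N) * m ∈ (cj x₂ A).subgroupOf N := hNM (Sylow.smul_eq_iff_mem_normalizer.mp h5)
    have h7 : (⟨k, hk⟩ : N) ∈ (cj x₂ A).subgroupOf N := (Subgroup.mul_mem_cancel_right _ hm).1 h6
    have h8 : k ∈ cj x₂ A := h7
    have h9 := (h.ept.conj_stab (h.le hk)).2 h8
    have e10 : x₂⁻¹ * σ x₂ = (x₂⁻¹ * MulAut.conj k x₂) * MulAut.conj k (x₂⁻¹ * τ x₂) := by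
      rw [e, MulAut.mul_apply, map_mul, map_inv]; group
    rw [e10]
    exact A.mul_mem h9 ((h.ept.inv _ ((h.ept.conj k).2 (h.le hk)) _).2 hτx)) with h3 | h3
  · apply h.not_le h2
    intro n hn
    have h4 : MulAut.conj n ∈ L := by rw [h3]; exact (h.ept.conj n).2 (h.le hn)
    exact (h.ept.conj_stab (h.le hn)).1 h4.2
  · have h4 : (cj x₂ A).subgroupOf N ≤ normalizer (P : Set N) := by
      rw [← hD]
      intro n hn
      have h5 : MulAut.conj (n : Q) ∈ L := ⟨(h.ept.conj _).2 (h.le n.2), (h.ept.conj_stab (h.le n.2)).2 hn⟩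
      exact (h.ept.conj_stab (h.le n.2)).1 (h3 _ h5)
    have := Subgroup.card_le_of_le h4
    omega

/-- moving a point -/
theorem D_smul (x : Q) (n : N) : (cj ((n : Q) * x) A).subgroupOf N = MulAut.conj n • (cj x A).subgroupOf N := by
  ext y
  rw [Subgroup.mem_subgroupOf, cj_mul, mem_cj, Subgroup.mem_pointwise_smul_iff_inv_smul_mem, Subgroup.mem_subgroupOf]
  rfl

omit [Finite Q] h in
theorem exists_sylow_in {G : Type*} [Group G] [Finite G] {p k : ℕ} [Fact p.Prime] {M : Subgroup G}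
    (hM : p ^ k ∣ Nat.card M) (hk : ¬ p ^ (k + 1) ∣ Nat.card G) : ∃ P : Sylow p G, (P : Subgroup G) ≤ M := by
  obtain ⟨K, hK⟩ := Sylow.exists_subgroup_card_pow_prime p hM
  obtain ⟨P, hP⟩ := exists_sylow_eq (D := K.map M.subtype) (k := k)
    (by rw [Subgroup.card_map_of_injective (Subgroup.subtype_injective M)]; exact hK) hk
  exact ⟨P, by rw [hP]; exact Subgroup.map_subtype_le _⟩

omit [Finite Q] h in
theorem normalizer_smul {G : Type*} [Group G] {p : ℕ} (n : G) (P : Sylow p G) :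
    MulAut.conj n • normalizer (P : Set G) = normalizer ((n • P : Sylow p G) : Set G) := by
  ext g
  rw [Subgroup.mem_pointwise_smul_iff_inv_smul_mem, ← Sylow.smul_eq_iff_mem_normalizer,
    ← Sylow.smul_eq_iff_mem_normalizer]
  have e : (MulAut.conj n)⁻¹ • g = n⁻¹ * g * n := by
    rw [← map_inv]
    change n⁻¹ * g * n⁻¹⁻¹ = _
    rw [inv_inv]
  rw [e, mul_smul, mul_smul, inv_smul_eq_iff]

theorem smul_notMem {x : Q} (hx : x ∉ A) (n : N) : (n : Q) * x ∉ A := fun hn =>
  hx ((A.mul_mem_cancel_left (h.le n.2)).1 hn)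

/-- moving the first point such that its stabilizer is the normalizer of a given Sylow subgroup -/
theorem move {x : Q} (hx : x ∉ A) {p : ℕ} [Fact p.Prime] {P R : Sylow p N}
    (hD : (cj x A).subgroupOf N = normalizer (P : Set N)) :
    ∃ y, y ∉ A ∧ (cj y A).subgroupOf N = normalizer (R : Set N) := by
  obtain ⟨n, hn⟩ := MulAction.exists_smul_eq N P R
  exact ⟨n * x, h.smul_notMem hx n, by rw [h.D_smul, hD, normalizer_smul, hn]⟩

theorem no_eight {x₁ x₂ : Q} (h1 : x₁ ∉ A) (h2 : x₂ ∉ A) (hc1 : Nat.card ((cj x₁ A).subgroupOf N) = 8)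
    (hc2 : Nat.card ((cj x₂ A).subgroupOf N) = 24) : False := by
  have f2 : Fact (Nat.Prime 2) := ⟨by norm_num⟩
  have hs := h.simple
  obtain ⟨P, hP⟩ := exists_sylow_eq (p := 2) (k := 3) (D := (cj x₁ A).subgroupOf N) hc1 (by rw [h.card]; norm_num)
  obtain ⟨R, hR⟩ := exists_sylow_in (p := 2) (k := 3) (M := (cj x₂ A).subgroupOf N) (by rw [hc2]; norm_num)
    (by rw [h.card]; norm_num)
  have hself : ∀ P : Sylow 2 N, (P : Subgroup N) = normalizer (P : Set N) := by
    intro P
    refine Subgroup.eq_of_le_of_card_ge le_normalizer ?_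
    have h3 : (8 : ℕ) ≤ Nat.card P := by
      have h4 := (Sylow.card_eq_multiplicity P)
      rw [h4, h.card]
      have : (3 : ℕ) ≤ (168 : ℕ).factorization 2 :=
        (Nat.Prime.pow_dvd_iff_le_factorization (by norm_num) (by norm_num)).mp (by norm_num)
      calc 8 = 2 ^ 3 := by norm_num
        _ ≤ _ := Nat.pow_le_pow_right (by norm_num) this
    have h5 := card_norm2 h.card P
    exact h5.le.trans h3
  obtain ⟨y, hy, hyD⟩ := h.move h1 (P := P) (R := R) (by rw [← hself P, hP])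
  exact h.bad_pair hy h2 R hyD hR (by rw [← hself R]; exact hR) (by rw [card_norm2 h.card R, hc2]; norm_num)

theorem no_six {x₁ x₂ : Q} (h1 : x₁ ∉ A) (h2 : x₂ ∉ A) (hc1 : Nat.card ((cj x₁ A).subgroupOf N) = 6)
    (hc2 : Nat.card ((cj x₂ A).subgroupOf N) = 24) : False := by
  have f3 : Fact (Nat.Prime 3) := ⟨by norm_num⟩
  have hs := h.simple
  obtain ⟨P, hP, -⟩ := eq6 h.card hc1
  obtain ⟨R, hR⟩ := exists_sylow_in (p := 3) (k := 1) (M := (cj x₂ A).subgroupOf N) (by rw [hc2]; norm_num)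
    (by rw [h.card]; norm_num)
  obtain ⟨y, hy, hyD⟩ := h.move h1 (P := P) (R := R) hP
  have hn6 := card_norm3 h.card R
  refine h.bad_pair hy h2 R hyD hR ?_ (by rw [hn6, hc2]; norm_num)
  -- the normalizer of `R` in the group of order 24 has order 6
  generalize (cj x₂ A).subgroupOf N = M at hc2 hR
  set S : Sylow 3 M := R.subtype hR with hS
  have hle : (normalizer (S : Set M)).map M.subtype ≤ normalizer (R : Set N) := by
    rintro _ ⟨m, hm, rfl⟩
    have h3 := Sylow.smul_eq_iff_mem_normalizer.mpr hm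
    rw [hS, Sylow.smul_subtype] at h3
    exact Sylow.smul_eq_iff_mem_normalizer.mp (Sylow.subtype_injective h3)
  have hc3 : Nat.card ((normalizer (S : Set M)).map M.subtype) = Nat.card (normalizer (S : Set M)) :=
    Subgroup.card_map_of_injective (Subgroup.subtype_injective M)
  have h4 := (normalizer (S : Set M)).card_mul_index
  rw [← S.card_eq_index_normalizer, hc2] at h4
  have h5 := card_sylow_modEq_one 3 M
  have h6 : Nat.card (Sylow 3 M) ∣ 24 := ⟨_, by rw [mul_comm]; exact h4.symm⟩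
  have h7 : Nat.card (normalizer (S : Set M)) ≤ 6 := by
    rw [← hc3, ← hn6]; exact Subgroup.card_le_of_le hle
  have h8 : Nat.card (normalizer (S : Set M)) = 6 := by
    have h9 : Nat.card (Sylow 3 M) ∈ Nat.divisors 24 := Nat.mem_divisors.mpr ⟨h6, by norm_num⟩
    have key : ∀ n ∈ Nat.divisors 24, n % 3 = 1 → n = 1 ∨ n = 4 := by decide
    rcases key _ h9 h5 with h10 | h10
    · rw [h10] at h4; omega
    · rw [h10] at h4; omega
  have h9 : (normalizer (S : Set M)).map M.subtype = normalizer (R : Set N) :=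
    Subgroup.eq_of_le_of_card_ge hle (by rw [hc3, h8, hn6])
  rw [← h9]
  exact Subgroup.map_subtype_le _

omit [Finite Q] h in
theorem inv_S4 : Nat.card {g : Equiv.Perm (Fin 4) // orderOf g = 2} = 9 := by
  have h2 : ∀ g : Equiv.Perm (Fin 4), orderOf g = 2 ↔ (g * g = 1 ∧ g ≠ 1) := by
    intro g
    have : Fact (Nat.Prime 2) := ⟨by norm_num⟩
    rw [orderOf_eq_prime_iff, pow_two]
  rw [Nat.card_congr (Equiv.subtypeEquivRight h2), Nat.card_eq_fintype_card]
  decide +kernel

/-- **the tight case** -/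
theorem tight : Nat.card Q ≠ 6048 := by
  classical
  intro hQ
  obtain ⟨hA, hcase⟩ := h.tight_counts hQ
  have hs := h.simple
  rcases hcase with h24 | ⟨h24, h68⟩
  · have hidx : A.index = 36 := by
      have := A.card_mul_index
      rw [hA, hQ] at this
      omega
    have heq := h.index_eq
    have hall : ∀ x, x ∉ A → Nat.card ((cj x A).subgroupOf N) = 24 := by
      intro x hx
      have hpos : ∀ d, Nat.card ((cj x A).subgroupOf N) = d → np A N d ≠ 0 := by
        intro d hd
        unfold np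
        have : Nonempty {c : Q ⧸ A // Nat.card (MulAction.stabilizer N c) = d} :=
          ⟨⟨(x : Q ⧸ A), by rw [stab_eq]; exact hd⟩⟩
        exact Nat.card_pos.ne'
      rcases h.card_D hx with h3 | h3 | h3 | h3
      · have := hpos 6 h3; omega
      · have := hpos 8 h3; omega
      · have := hpos 21 h3; omega
      · exact h3
    have := Fintype.ofFinite (Q ⧸ A)
    have := Fintype.ofFinite N
    have hdc := Finset.sum_card_bipartiteAbove_eq_sum_card_bipartiteBelow
      (s := (Finset.univ : Finset (Q ⧸ A))) (t := (Finset.univ.filter (fun t : N => orderOf t = 2)))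
      (fun c t => t • c = c)
    have hinvN : (Finset.univ.filter (fun t : N => orderOf t = 2)).card = 21 := by
      rw [← (Cfsg.Agent.S1005.result h.card).2.1, Nat.card_eq_fintype_card, Fintype.card_subtype]
    have hup : ∑ t ∈ Finset.univ.filter (fun t : N => orderOf t = 2),
        ((Finset.univ : Finset (Q ⧸ A)).bipartiteBelow (fun c t => t • c = c) t).card ≤ 21 * 14 := by
      rw [← hinvN, ← smul_eq_mul]
      refine Finset.sum_le_card_nsmul _ _ _ ?_
      intro t ht
      have ht2 : orderOf t = 2 := (Finset.mem_filter.mp ht).2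
      have ht1 : (t : Q) ≠ 1 := by
        intro e
        have : t = 1 := Subtype.ext e
        rw [this, orderOf_one] at ht2
        omega
      have h3 := h.ept.fix_le t ht1
      have h4 := (h.ncard_le {D : Subgroup N | Nat.card D = 24} hall).trans (ncard24 h.card)
      refine le_trans ?_ (h3.trans h4)
      rw [Set.ncard_eq_toFinset_card']
      apply Finset.card_le_card
      intro c hc
      rw [Finset.mem_bipartiteBelow] at hc
      rw [Set.mem_toFinset]
      exact hc.2
    have hlow : 21 + 35 * 9 ≤ ∑ c : Q ⧸ A,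
        ((Finset.univ.filter (fun t : N => orderOf t = 2)).bipartiteAbove (fun c t => t • c = c) c).card := by
      have hval : ∀ c : Q ⧸ A, ((Finset.univ.filter (fun t : N => orderOf t = 2)).bipartiteAbove
          (fun c t => t • c = c) c).card = Nat.card {g : MulAction.stabilizer N c // orderOf g = 2} := by
        intro c
        rw [← Fintype.card_coe, ← Nat.card_eq_fintype_card]
        refine Nat.card_congr ⟨fun t => ⟨⟨t.1, (Finset.mem_filter.mp t.2).2⟩, ?_⟩,
          fun g => ⟨g.1.1, Finset.mem_filter.mpr ⟨Finset.mem_filter.mpr ⟨Finset.mem_univ _, ?_⟩, g.1.2⟩⟩, ?_, ?_⟩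
        · rw [← Subgroup.orderOf_coe]
          exact (Finset.mem_filter.mp (Finset.mem_filter.mp t.2).1).2
        · have := g.2
          rw [← Subgroup.orderOf_coe] at this
          exact this
        · intro t; rfl
        · intro g; rfl
      simp only [hval]
      have hone : Nat.card {g : MulAction.stabilizer N ((1 : Q) : Q ⧸ A) // orderOf g = 2} = 21 := by
        rw [← (Cfsg.Agent.S1005.result h.card).2.1]
        have e1 : MulAction.stabilizer N ((1 : Q) : Q ⧸ A) = ⊤ := by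
          rw [stab_eq, cj_eq_self A.one_mem]
          exact Subgroup.subgroupOf_eq_top.mpr h.le
        rw [e1]
        refine Nat.card_congr (Equiv.subtypeEquiv Subgroup.topEquiv.toEquiv ?_)
        intro g
        have := orderOf_injective (Subgroup.topEquiv (G := N)).toMonoidHom (Subgroup.topEquiv (G := N)).injective g
        exact (Eq.congr_left this).symm
      have hnine : ∀ c : Q ⧸ A, c ≠ ((1 : Q) : Q ⧸ A) →
          Nat.card {g : MulAction.stabilizer N c // orderOf g = 2} = 9 := by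
        intro c hc
        induction c using QuotientGroup.induction_on with
        | H x =>
          have hx : x ∉ A := by
            intro hx
            apply hc
            rw [eq_comm, QuotientGroup.eq, inv_one, one_mul]; exact hx
          rw [stab_eq]
          have h24x := hall x hx
          generalize (cj x A).subgroupOf N = D at h24x
          have hDt : D ≠ ⊤ := by
            rintro rfl
            rw [Subgroup.card_top, h.card] at h24x
            omega
          obtain ⟨M, hM, hDM⟩ := exists_coatom hDt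
          have hM24 : Nat.card M = 24 := by
            rcases coatom_card h.card hM with h5 | h5
            · exact h5
            · have := Subgroup.card_dvd_of_le hDM
              rw [h24x, h5] at this
              omega
          have hDM' : D = M := Subgroup.eq_of_le_of_card_ge hDM (by rw [hM24, h24x])
          rcases (Cfsg.Agent.S1008.result h.card).1 D (hDM' ▸ hM) with ⟨⟨e⟩⟩ | ⟨h5, -⟩
          · rw [← inv_S4]
            refine Nat.card_congr (Equiv.subtypeEquiv e.toEquiv ?_)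
            intro g
            have := orderOf_injective e.toMonoidHom e.injective g
            exact (Eq.congr_left this).symm
          · omega
      rw [← Finset.add_sum_erase _ _ (Finset.mem_univ ((1 : Q) : Q ⧸ A)), hone,
        Finset.sum_congr rfl (fun c hc => hnine c (Finset.ne_of_mem_erase hc)), Finset.sum_const,
        Finset.card_erase_of_mem (Finset.mem_univ _), Finset.card_univ, ← Nat.card_eq_fintype_card]
      have : Nat.card (Q ⧸ A) = 36 := hidx
      rw [this]
      norm_num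
    rw [hdc] at hlow
    omega
  · obtain ⟨x₂, hx₂, hc₂⟩ := h.exists_of_np (by norm_num) h24
    rcases h68 with h6 | h8
    · obtain ⟨x₁, hx₁, hc₁⟩ := h.exists_of_np (by norm_num) h6
      exact h.no_six hx₁ hx₂ hc₁ hc₂
    · obtain ⟨x₁, hx₁, hc₁⟩ := h.exists_of_np (by norm_num) h8
      exact h.no_eight hx₁ hx₂ hc₁ hc₂

end Soc

end Cfsg.Agent.H689.EP
end

-- part: H689/EP/L27Row
section
/-!
# Task 5941 (S3499-IV-L `L₂(7)`): the row (helper689)

`psl27` : `soc(A) = PSL₂(7)` ⟹ `|Q : A| ≤ 5041`, `|Q| ≤ 1693776` and `|Q| ≠ 6048`.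
-/

set_option autoImplicit false

namespace Cfsg.Agent.H689.EP

open Subgroup Cfsg.Agent.H284

variable {Q : Type*} [Group Q] [Finite Q] {A : Subgroup Q} {Γ : Subgroup (MulAut Q)}

/-- the hypotheses in the form of the task -/
theorem soc_of_psl (h : EPT A Γ) {N : Subgroup Q} (hNA : N ≤ A) (hN : ∀ a ∈ A, ∀ n ∈ N, a * n * a⁻¹ ∈ N)
    {F : Type*} [Field F] [Fintype F] (hF : Fintype.card F = 7) (e : N ≃* Matrix.ProjectiveSpecialLinearGroup (Fin 2) F)
    (hC : ∀ a ∈ A, (∀ n ∈ N, a * n = n * a) → a = 1) : Soc A Γ N := by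
  classical
  have hs : IsSimpleGroup (Matrix.ProjectiveSpecialLinearGroup (Fin 2) F) :=
    Matrix.ProjectiveSpecialLinearGroup.rank_two_simple (by rw [Nat.card_eq_fintype_card, hF]; norm_num)
  have hc : Nat.card (Matrix.ProjectiveSpecialLinearGroup (Fin 2) F) = 168 := by
    have h1 := Cfsg.Agent.S0243.result hF 2 le_rfl
    rw [Fin.prod_univ_two] at h1
    norm_num at h1
    rw [Nat.card_eq_fintype_card]
    omega
  exact ⟨h, hNA, hN, e.isSimpleGroup, by rw [Nat.card_congr e.toEquiv, hc], hC⟩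

/-- **the row `L₂(7)`** -/
theorem psl27 (h : EPT A Γ) {N : Subgroup Q} (hNA : N ≤ A) (hN : ∀ a ∈ A, ∀ n ∈ N, a * n * a⁻¹ ∈ N)
    {F : Type*} [Field F] [Fintype F] (hF : Fintype.card F = 7) (e : N ≃* Matrix.ProjectiveSpecialLinearGroup (Fin 2) F)
    (hC : ∀ a ∈ A, (∀ n ∈ N, a * n = n * a) → a = 1) :
    A.index ≤ 5041 ∧ Nat.card Q ≤ 1693776 ∧ Nat.card Q ≠ 6048 :=
  let hS := soc_of_psl h hNA hN hF e hC
  ⟨hS.index_le, hS.card_le, hS.tight⟩

/-- the rows `T = L₃(p), p ≥ 11`, `U₃(p), p ≥ 13`, `PSp₆`, `PSp₈` -/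
theorem psl27_false (h : EPT A Γ) {N : Subgroup Q} (hNA : N ≤ A) (hN : ∀ a ∈ A, ∀ n ∈ N, a * n * a⁻¹ ∈ N)
    {F : Type*} [Field F] [Fintype F] (hF : Fintype.card F = 7) (e : N ≃* Matrix.ProjectiveSpecialLinearGroup (Fin 2) F)
    (hC : ∀ a ∈ A, (∀ n ∈ N, a * n = n * a) → a = 1) (hQ : 1693776 < Nat.card Q ∨ Nat.card Q = 6048) : False := by
  obtain ⟨-, h1, h2⟩ := psl27 h hNA hN hF e hC
  rcases hQ with h3 | h3
  · omega
  · exact h2 h3

end Cfsg.Agent.H689.EP
end

private theorem dce_d02886fb7d62 : _root_.True := by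
  try have : _root_.True := by simp only [_root_.Matrix.ProjectiveSpecialLinearGroup.congr_simp]
  exact _root_.True.intro
end

-- part: H839/EP/AltTen
section
prune_inst 0x454206d440740020000008002c0202454ee0005b000230800d9a10a4002867f230982af40fc801f03530aa22500390028020800794000000020000600411901a090aaf6863340a10ca6009f809881180c00000000000000000000000000051004000000002
set_option linter.all false
open scoped Cfsg.Agent.FastGrp

/-!
# S3499 (IV-L), `soc(A) = A₁₀`: the index of `A` is at most `2 ^ 34` (helper839)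

`Br` is the statement of S1000 (simple groups of order `p 3^a 2^b`). The maximal subgroups of `G`, `A₁₀ ≤ G ≤ S₁₀`, which do not contain
`A₁₀`: stabilisers of sets, of partitions in two blocks of size five, centralizers of fixed point free involutions, normalizers of transitive
`A₅` or `A₆`.
-/

set_option autoImplicit false

namespace Cfsg.Agent.H839.EP

open Subgroup Equiv Equiv.Perm Cfsg.Agent.H284

/-- a primitive group of degree `10` not containing `A₁₀` contains no Sylow subgroup of `S₁₀` -/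
theorem not_pow_dvd {L : Subgroup (Perm (Fin 10))} (hP : MulAction.IsPreprimitive L (Fin 10))
    (hn : ¬ alternatingGroup (Fin 10) ≤ L) {p : ℕ} (hp : p.Prime) (hp7 : p ≤ 7) :
    ¬ p ^ ((Nat.factorial 10).factorization p) ∣ Nat.card L := by
  intro hd
  have hpf := Fact.mk hp
  have hc10 : Nat.card (Perm (Fin 10)) = Nat.factorial 10 := by
    rw [Nat.card_perm, Nat.card_eq_fintype_card, Fintype.card_fin]
  obtain ⟨c, hc⟩ : ∃ c : Perm (Fin 10), c.cycleType = {p} :=
    (Equiv.Perm.exists_with_cycleType_iff _).2 ⟨by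
      simp only [Multiset.sum_singleton, Fintype.card_fin]; omega, by
      intro a ha
      rw [Multiset.mem_singleton] at ha
      rw [ha]
      exact hp.two_le⟩
  have hcy : c.IsCycle := by rw [← card_cycleType_eq_one, hc]; simp
  have hsup : c.support.card = p := by rw [← sum_cycleType, hc]; simp
  have hord : orderOf c = p := by rw [hcy.orderOf, hsup]
  have hcp : IsPGroup p (zpowers c) := by
    refine IsPGroup.of_card (n := 1) ?_
    rw [Nat.card_zpowers, hord, pow_one]
  obtain ⟨S, hS⟩ := hcp.exists_le_sylow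
  obtain ⟨P⟩ : Nonempty (Sylow p L) := inferInstance
  have hcardP : Nat.card ((P : Subgroup L).map L.subtype : Subgroup (Perm (Fin 10))) =
      p ^ (Nat.card (Perm (Fin 10))).factorization p := by
    have h1 : Nat.card ((P : Subgroup L).map L.subtype : Subgroup (Perm (Fin 10))) = Nat.card P :=
      (Nat.card_congr ((P : Subgroup L).equivMapOfInjective L.subtype L.subtype_injective).toEquiv).symm
    rw [h1, P.card_eq_multiplicity]
    congr 1
    apply le_antisymm
    · exact (Nat.factorization_le_iff_dvd Nat.card_pos.ne' Nat.card_pos.ne').2 L.card_subgroup_dvd_card p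
    · rw [hc10]
      exact (hp.pow_dvd_iff_le_factorization Nat.card_pos.ne').1 hd
  obtain ⟨g, hg⟩ := MulAction.exists_smul_eq (Perm (Fin 10)) S (Sylow.ofCard _ hcardP)
  have h2 : g * c * g⁻¹ ∈ L := by
    have h3 : g * c * g⁻¹ ∈ ((Sylow.ofCard _ hcardP : Sylow p (Perm (Fin 10))) : Subgroup (Perm (Fin 10))) := by
      rw [← hg, Sylow.smul_def]
      refine ⟨c, hS (mem_zpowers c), rfl⟩
    obtain ⟨y, -, hy⟩ := h3
    rw [← hy]
    exact y.2
  apply hn
  refine Cfsg.Agent.S0713.result L hP hp (by simp) (by simp; omega) (g := g * c * g⁻¹) ?_ ?_ h2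
  · exact (card_cycleType_eq_one).1 (by rw [cycleType_conj, hc]; simp)
  · rw [card_support_conj, hsup]

/-- the subgroup generated by the elements of order `p` -/
def gp (p : ℕ) (L : Type*) [Group L] : Subgroup L := closure {g | g ^ p = 1}

instance gp_normal (p : ℕ) (L : Type*) [Group L] : (gp p L).Normal := by
  constructor
  intro x hx g
  refine closure_induction (p := fun x _ => g * x * g⁻¹ ∈ gp p L) ?_ ?_ ?_ ?_ hx
  · intro x hx
    apply Subgroup.subset_closure
    show (g * x * g⁻¹) ^ p = 1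
    rw [conj_pow, show x ^ p = 1 from hx, mul_one, mul_inv_cancel]
  · rw [mul_one, mul_inv_cancel]
    exact one_mem _
  · intro x y _ _ h1 h2
    have e : g * (x * y) * g⁻¹ = (g * x * g⁻¹) * (g * y * g⁻¹) := by group
    rw [e]
    exact mul_mem h1 h2
  · intro x _ h1
    have e : g * x⁻¹ * g⁻¹ = (g * x * g⁻¹)⁻¹ := by group
    rw [e]
    exact inv_mem h1

/-- the elements of order `p` generate a simple group -/
theorem gp_simple {L : Type*} [Group L] [Finite L] {p : ℕ} [hp : Fact p.Prime] (h1 : ¬ p ^ 2 ∣ Nat.card L)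
    (h2 : ∀ N : Subgroup L, N.Normal → N ≠ ⊥ → p ∣ Nat.card N) (h0 : p ∣ Nat.card L) : IsSimpleGroup (gp p L) := by
  have hmem : ∀ g : L, g ^ p = 1 → g ∈ gp p L := fun g hg => Subgroup.subset_closure hg
  obtain ⟨c, hc⟩ := exists_prime_orderOf_dvd_card' p h0
  have hcK : c ∈ gp p L := hmem c (by rw [← hc]; exact pow_orderOf_eq_one c)
  have hc1 : c ≠ 1 := by
    rintro rfl
    rw [orderOf_one] at hc
    exact hp.out.one_lt.ne hc
  have hnt : Nontrivial (gp p L) := ⟨⟨⟨c, hcK⟩, 1, fun e => hc1 (Subtype.ext_iff.1 e)⟩⟩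
  have hcore : Cfsg.pPrimeCore p (gp p L) = ⊥ := by
    by_contra hne
    have h3 : ((Cfsg.pPrimeCore p (gp p L)).map (gp p L).subtype).Normal := by
      have := Cfsg.Agent.Lib.Cores.pPrimeCore_characteristic (G := gp p L) p
      infer_instance
    have h4 := h2 _ h3 (by rw [Ne, Subgroup.map_eq_bot_iff_of_injective _ (gp p L).subtype_injective]; exact hne)
    have h5 : Nat.card ((Cfsg.pPrimeCore p (gp p L)).map (gp p L).subtype : Subgroup L) = Nat.card (Cfsg.pPrimeCore p (gp p L)) :=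
      (Nat.card_congr ((Cfsg.pPrimeCore p (gp p L)).equivMapOfInjective _ (gp p L).subtype_injective).toEquiv).symm
    rw [h5] at h4
    have h6 := Cfsg.Agent.Lib.Cores.pPrimeCore_coprime (G := gp p L) p
    exact (hp.out.coprime_iff_not_dvd.1 h6.symm) h4
  have h1K : ¬ p ^ 2 ∣ Nat.card (gp p L) := fun hd => h1 (hd.trans (gp p L).card_subgroup_dvd_card)
  refine { exists_pair_ne := hnt.exists_pair_ne, eq_bot_or_eq_top_of_normal := ?_ }
  intro M hM
  by_cases hpM : p ∣ Nat.card M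
  · right
    obtain ⟨m, hm⟩ := exists_prime_orderOf_dvd_card' p hpM
    have hm' : orderOf (m : gp p L) = p := by rw [Subgroup.orderOf_coe, hm]
    have hcs : ∀ g : gp p L, orderOf g = p → Nat.card (zpowers g) = p ^ (Nat.card (gp p L)).factorization p := by
      intro g hg
      rw [Nat.card_zpowers, hg]
      have h7 : (Nat.card (gp p L)).factorization p = 1 := by
        apply le_antisymm
        · by_contra hcon
          push Not at hcon
          exact h1K ((hp.out.pow_dvd_iff_le_factorization Nat.card_pos.ne').2 hcon)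
        · have : p ^ 1 ∣ Nat.card (gp p L) := by
            have h9 := _root_.orderOf_dvd_natCard g
            rw [hg] at h9
            rwa [pow_one]
          exact (hp.out.pow_dvd_iff_le_factorization Nat.card_pos.ne').1 this
      rw [h7, pow_one]
    have key : ∀ g : gp p L, g ^ p = 1 → g ∈ M := by
      intro g hg
      by_cases hg1 : g = 1
      · rw [hg1]; exact one_mem _
      have hgo : orderOf g = p := orderOf_eq_prime hg hg1
      obtain ⟨x, hx⟩ := MulAction.exists_smul_eq (gp p L) (Sylow.ofCard _ (hcs m hm')) (Sylow.ofCard _ (hcs g hgo))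
      have h8 : g ∈ ((Sylow.ofCard _ (hcs g hgo) : Sylow p (gp p L)) : Subgroup (gp p L)) := mem_zpowers g
      rw [← hx, Sylow.smul_def] at h8
      obtain ⟨y, hy, h9⟩ := h8
      rw [← h9]
      exact hM.conj_mem y (zpowers_le_of_mem m.2 hy) x
    rw [eq_top_iff]
    rintro ⟨x, hx⟩ -
    have h8 : gp p L ≤ M.map (gp p L).subtype := by
      refine (closure_le _).2 ?_
      intro g hg
      exact ⟨⟨g, hmem g hg⟩, key _ (Subtype.ext hg), rfl⟩
    obtain ⟨y, hy, h9⟩ := h8 hx
    have h10 : y = ⟨x, hx⟩ := Subtype.ext h9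
    rw [← h10]
    exact hy
  · left
    have h3 := Cfsg.Agent.Lib.Cores.le_pPrimeCore hM ((hp.out.coprime_iff_not_dvd.2 hpM).symm)
    rw [hcore] at h3
    exact le_bot_iff.1 h3

theorem not_pow_dvd' {L : Subgroup (Perm (Fin 10))} (hP : MulAction.IsPreprimitive L (Fin 10))
    (hn : ¬ alternatingGroup (Fin 10) ≤ L) {p k : ℕ} (hp : p.Prime) (hp7 : p ≤ 7)
    (hk : ¬ p ^ (k + 1) ∣ Nat.factorial 10) : ¬ p ^ k ∣ Nat.card L := by
  intro hd
  apply not_pow_dvd hP hn hp hp7
  refine (Nat.pow_dvd_pow p ?_).trans hd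
  by_contra hcon
  push Not at hcon
  exact hk ((hp.pow_dvd_iff_le_factorization (Nat.factorial_ne_zero 10)).2 hcon)

/-- the theorem of Brauer and Wales (S1000) -/
def Br : Prop :=
  ∀ {G : Type} [Group G] [Finite G] [IsSimpleGroup G], ¬ IsMulCommutative G → ∀ (p a b : ℕ), p.Prime →
    Nat.card G = p * 3 ^ a * 2 ^ b → Nonempty (G ≃* alternatingGroup (Fin 5)) ∨ Nonempty (G ≃* alternatingGroup (Fin 6)) ∨
      (∃ (F : Type) (_ : Field F) (_ : Fintype F), Fintype.card F = 3 ∧ Nonempty (G ≃* Cfsg.PSp 2 F)) ∨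
      (∃ (F : Type) (_ : Field F) (_ : Fintype F), (Fintype.card F = 7 ∨ Fintype.card F = 8 ∨ Fintype.card F = 17) ∧
        Nonempty (G ≃* Matrix.ProjectiveSpecialLinearGroup (Fin 2) F)) ∨
      (∃ (F : Type) (_ : Field F) (_ : Fintype F), Fintype.card F = 9 ∧ Nonempty (G ≃* Cfsg.PSU 3 F 3)) ∨
      (∃ (F : Type) (_ : Field F) (_ : Fintype F), Fintype.card F = 3 ∧
        Nonempty (G ≃* Matrix.ProjectiveSpecialLinearGroup (Fin 3) F))

/-- a nontrivial normal subgroup of a primitive group is transitive -/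
theorem trans_of_normal {L : Subgroup (Perm (Fin 10))} (hP : MulAction.IsPreprimitive L (Fin 10)) (N : Subgroup L)
    (hN : N.Normal) (hne : N ≠ ⊥) : MulAction.IsPretransitive N (Fin 10) := by
  apply MulAction.IsQuasiPreprimitive.isPretransitive_of_normal (G := L)
  intro h1
  apply hne
  rw [Subgroup.eq_bot_iff_forall]
  intro g hg
  apply Subtype.ext
  ext i
  have h2 : i ∈ MulAction.fixedPoints N (Fin 10) := by rw [h1]; exact Set.mem_univ i
  have h3 := h2 ⟨g, hg⟩
  rw [show ((⟨g, hg⟩ : N) • i) = (g : Perm (Fin 10)) i from rfl] at h3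
  rw [h3]
  rfl

theorem ten_dvd_of_trans {N : Type*} [Group N] [Finite N] [MulAction N (Fin 10)] (h : MulAction.IsPretransitive N (Fin 10)) :
    10 ∣ Nat.card N := by
  have h1 := MulAction.index_stabilizer_of_transitive N (0 : Fin 10)
  rw [Nat.card_eq_fintype_card, Fintype.card_fin] at h1
  rw [← h1]
  exact Subgroup.index_dvd_card _

theorem prim_socle (hB : Br) {L : Subgroup (Perm (Fin 10))} (hP : MulAction.IsPreprimitive L (Fin 10))
    (hn : ¬ alternatingGroup (Fin 10) ≤ L) :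
    MulAction.IsPretransitive (gp 5 L) (Fin 10) ∧
      (Nonempty (gp 5 L ≃* alternatingGroup (Fin 5)) ∨ Nonempty (gp 5 L ≃* alternatingGroup (Fin 6))) := by
  have h5 : Fact (Nat.Prime 5) := ⟨by norm_num⟩
  have h10 : 10 ∣ Nat.card L := ten_dvd_of_trans hP.toIsPretransitive
  have h25 : ¬ 5 ^ 2 ∣ Nat.card L := not_pow_dvd' hP hn (by norm_num) (by norm_num) (by decide)
  have h49 : ¬ 7 ^ 1 ∣ Nat.card L := not_pow_dvd' hP hn (by norm_num) (by norm_num) (by decide)
  have h81 : ¬ 3 ^ 4 ∣ Nat.card L := not_pow_dvd' hP hn (by norm_num) (by norm_num) (by decide)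
  have hS : IsSimpleGroup (gp 5 L) := by
    refine gp_simple h25 ?_ ((by norm_num : (5 : ℕ) ∣ 10).trans h10)
    intro N hN hne
    exact (by norm_num : (5 : ℕ) ∣ 10).trans (ten_dvd_of_trans (trans_of_normal hP N hN hne))
  have hne : gp 5 L ≠ ⊥ := by
    intro e
    have h1 : Nontrivial (gp 5 L) := inferInstance
    rw [e] at h1
    exact not_nontrivial _ h1
  have htr := trans_of_normal hP (gp 5 L) inferInstance hne
  refine ⟨htr, ?_⟩
  have h10X := ten_dvd_of_trans htr
  have hXL : Nat.card (gp 5 L) ∣ Nat.card L := (gp 5 L).card_subgroup_dvd_card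
  have hL : Nat.card L ∣ 2 ^ 8 * 3 ^ 4 * 5 ^ 2 * 7 := by
    have h1 := L.card_subgroup_dvd_card
    rw [Nat.card_perm, Nat.card_fin] at h1
    exact h1
  have hnc : ¬ IsMulCommutative (gp 5 L) := by
    intro hc
    obtain ⟨t, ht⟩ := exists_prime_orderOf_dvd_card' 2 ((by norm_num : (2 : ℕ) ∣ 10).trans h10X)
    have h1 : (zpowers t).Normal := ⟨fun x hx g => by
      have : g * x * g⁻¹ = x := by rw [hc.is_comm.comm g x, mul_assoc, mul_inv_cancel, mul_one]
      rw [this]; exact hx⟩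
    rcases h1.eq_bot_or_eq_top with h2 | h2
    · have h3 : t ∈ zpowers t := mem_zpowers t
      rw [h2, mem_bot] at h3
      rw [h3, orderOf_one] at ht
      norm_num at ht
    · have h3 : Nat.card (zpowers t) = Nat.card (gp 5 L) := by rw [h2, Subgroup.card_top]
      rw [Nat.card_zpowers, ht] at h3
      rw [← h3] at h10X
      norm_num at h10X
  obtain ⟨m, hm⟩ : 5 ∣ Nat.card (gp 5 L) := (by norm_num : (5 : ℕ) ∣ 10).trans h10X
  have hm5 : ¬ 5 ∣ m := by
    rintro ⟨k, hk⟩
    apply h25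
    refine Dvd.dvd.trans ?_ hXL
    rw [hm, hk]
    exact ⟨k, by ring⟩
  have hm7 : ¬ 7 ∣ m := by
    intro hd
    apply h49
    rw [pow_one]
    exact (hd.trans ⟨5, by rw [hm, mul_comm]⟩).trans hXL
  have hmd : m ∣ 2 ^ 8 * 3 ^ 4 := by
    have h1 : m ∣ 2 ^ 8 * 3 ^ 4 * 5 ^ 2 * 7 := (Dvd.intro_left 5 hm.symm).trans (hXL.trans hL)
    have h2 : m ∣ 2 ^ 8 * 3 ^ 4 * 5 ^ 2 :=
      Nat.Coprime.dvd_of_dvd_mul_right (((Nat.Prime.coprime_iff_not_dvd (by norm_num)).2 hm7).symm) h1
    exact Nat.Coprime.dvd_of_dvd_mul_right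
      (Nat.Coprime.pow_right 2 ((Nat.Prime.coprime_iff_not_dvd (by norm_num)).2 hm5).symm) h2
  obtain ⟨y, z, hy, hz, hyz⟩ := Nat.dvd_mul.1 hmd
  obtain ⟨b, -, rfl⟩ := (Nat.dvd_prime_pow (by norm_num)).1 hy
  obtain ⟨a, -, rfl⟩ := (Nat.dvd_prime_pow (by norm_num)).1 hz
  have hcard : Nat.card (gp 5 L) = 5 * 3 ^ a * 2 ^ b := by rw [hm, ← hyz]; ring
  have hbad : ∀ p : ℕ, p ∣ Nat.card (gp 5 L) → ¬ p ∣ 2 ^ 8 * 3 ^ 4 * 5 ^ 2 * 7 → False := by
    intro p h1 h2
    exact h2 (h1.trans (hXL.trans hL))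
  have hbad7 : ¬ 7 ∣ Nat.card (gp 5 L) := fun h1 => h49 (by rw [pow_one]; exact h1.trans hXL)
  rcases hB hnc 5 a b (by norm_num) hcard with h1 | h1 | ⟨F, _, _, hF, ⟨e⟩⟩ | ⟨F, _, _, hF, ⟨e⟩⟩ | ⟨F, _, _, hF, ⟨e⟩⟩ |
    ⟨F, _, _, hF, ⟨e⟩⟩
  · exact Or.inl h1
  · exact Or.inr h1
  · exfalso
    apply h81
    refine Dvd.dvd.trans ?_ hXL
    rw [Nat.card_congr e.toEquiv, Cfsg.Agent.SmallSimple.PSLFacts.card_psp_two_three hF]
    norm_num
  · exfalso
    rcases hF with hF | hF | hF
    · apply hbad7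
      rw [Nat.card_congr e.toEquiv, Cfsg.Agent.SmallSimple.PSLFacts.card_psl_two_seven hF]
      norm_num
    · apply hbad7
      rw [Nat.card_congr e.toEquiv, Cfsg.Agent.SmallSimple.PSLFacts.card_psl_two_eight hF]
      norm_num
    · apply hbad 17 _ (by norm_num)
      rw [Nat.card_congr e.toEquiv, Cfsg.Agent.SmallSimple.PSLFacts.card_psl_two_seventeen hF]
      norm_num
  · exfalso
    apply hbad7
    rw [Nat.card_congr e.toEquiv, Cfsg.Agent.SmallSimple.PSLFacts.card_psu_three_three hF]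
    norm_num
  · exfalso
    apply hbad 13 _ (by norm_num)
    rw [Nat.card_congr e.toEquiv, Cfsg.Agent.SmallSimple.PSLFacts.card_psl_three_three hF]
    norm_num

/-- a subgroup of index ten of a simple group with a normal Sylow `3`-subgroup is its normalizer -/
theorem eq_normalizer {T : Type*} [Group T] [Finite T] [IsSimpleGroup T] (h3 : 3 ∣ Nat.card T) {H : Subgroup T}
    (hH : H.index = 10) (P : Sylow 3 T) (hn : H ≤ normalizer ((P : Subgroup T) : Set T)) :
    H = normalizer ((P : Subgroup T) : Set T) := by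
  have hp : Fact (Nat.Prime 3) := ⟨by norm_num⟩
  have h10 : 10 ∣ Nat.card T := by rw [← hH]; exact H.index_dvd_card
  have h1 : H.relIndex (normalizer ((P : Subgroup T) : Set T)) * (normalizer ((P : Subgroup T) : Set T)).index = 10 := by
    rw [Subgroup.relIndex_mul_index hn, hH]
  have h2 : (normalizer ((P : Subgroup T) : Set T)).index % 3 = 1 := by
    have h3 := P.card_eq_index_normalizer
    change _ = (normalizer ((P : Subgroup T) : Set T)).index at h3
    rw [← h3]
    exact card_sylow_modEq_one 3 T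
  have h4 : (normalizer ((P : Subgroup T) : Set T)).index ∣ 10 := Dvd.intro_left _ h1
  have h5 : (normalizer ((P : Subgroup T) : Set T)).index ≠ 1 := by
    intro h6
    have h7 : (P : Subgroup T).Normal := normalizer_eq_top_iff.1 (index_eq_one.1 h6)
    rcases h7.eq_bot_or_eq_top with h8 | h8
    · have h9 := P.card_eq_multiplicity
      rw [h8, Subgroup.card_bot] at h9
      have h10 := (Nat.Prime.dvd_iff_one_le_factorization (by norm_num) Nat.card_pos.ne').1 h3
      have h11 : 3 ^ 1 ≤ 3 ^ (Nat.card T).factorization 3 := Nat.pow_le_pow_right (by norm_num) h10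
      omega
    · have h9 : Nat.card T = 3 ^ (Nat.card T).factorization 3 := by
        have h12 := P.card_eq_multiplicity
        rw [h8, Subgroup.card_top] at h12
        exact h12
      have h13 : 2 ∣ 3 ^ (Nat.card T).factorization 3 := by
        rw [← h9]
        exact (by norm_num : (2 : ℕ) ∣ 10).trans h10
      have h14 := Nat.Prime.dvd_of_dvd_pow Nat.prime_two h13
      norm_num at h14
  have h6 : (normalizer ((P : Subgroup T) : Set T)).index ≤ 10 := Nat.le_of_dvd (by norm_num) h4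
  have h7 : (normalizer ((P : Subgroup T) : Set T)).index = 10 := by
    interval_cases h : (normalizer ((P : Subgroup T) : Set T)).index <;> omega
  rw [h7] at h1
  have h8 : H.relIndex (normalizer ((P : Subgroup T) : Set T)) = 1 := by omega
  exact le_antisymm hn (relIndex_eq_one.1 h8)

/-- the subgroups of index ten are conjugate -/
theorem conj_of_index_ten {T : Type*} [Group T] [Finite T] [IsSimpleGroup T] (h3 : 3 ∣ Nat.card T)
    (hyp : ∀ H : Subgroup T, H.index = 10 → ∃ P : Sylow 3 T, H ≤ normalizer ((P : Subgroup T) : Set T))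
    {H₁ H₂ : Subgroup T} (h1 : H₁.index = 10) (h2 : H₂.index = 10) : ∃ t : T, ∀ s, s ∈ H₂ ↔ t⁻¹ * s * t ∈ H₁ := by
  have hp : Fact (Nat.Prime 3) := ⟨by norm_num⟩
  obtain ⟨P₁, hP₁⟩ := hyp H₁ h1
  obtain ⟨P₂, hP₂⟩ := hyp H₂ h2
  have e1 := eq_normalizer h3 h1 P₁ hP₁
  have e2 := eq_normalizer h3 h2 P₂ hP₂
  obtain ⟨t, ht⟩ := MulAction.exists_smul_eq T P₁ P₂
  refine ⟨t, fun s => ?_⟩
  have ht' : ∀ x, x ∈ (P₂ : Subgroup T) ↔ t⁻¹ * x * t ∈ (P₁ : Subgroup T) := by
    intro x
    rw [← ht, Sylow.smul_def]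
    constructor
    · rintro ⟨y, hy, rfl⟩
      show t⁻¹ * (t * y * t⁻¹) * t ∈ _
      have : t⁻¹ * (t * y * t⁻¹) * t = y := by group
      rw [this]; exact hy
    · intro hx
      refine ⟨_, hx, ?_⟩
      show t * (t⁻¹ * x * t) * t⁻¹ = x
      group
  rw [e1, e2, mem_normalizer_iff, mem_normalizer_iff]
  constructor
  · intro h y
    have h5 := h (t * y * t⁻¹)
    rw [ht', ht'] at h5
    have e3 : t⁻¹ * (t * y * t⁻¹) * t = y := by group
    have e4 : t⁻¹ * (s * (t * y * t⁻¹) * s⁻¹) * t = t⁻¹ * s * t * y * (t⁻¹ * s * t)⁻¹ := by group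
    rw [e3, e4] at h5
    exact h5
  · intro h y
    rw [ht', ht']
    have h5 := h (t⁻¹ * y * t)
    have e4 : t⁻¹ * s * t * (t⁻¹ * y * t) * (t⁻¹ * s * t)⁻¹ = t⁻¹ * (s * y * s⁻¹) * t := by group
    rw [e4] at h5
    exact h5

/-- from a normal Sylow `3`-subgroup of `H` -/
theorem exists_norm {T : Type*} [Group T] [Finite T] {H : Subgroup T} (hH : ¬ 3 ∣ H.index)
    (h1 : ∀ P : Sylow 3 H, (P : Subgroup H).Normal) : ∃ P : Sylow 3 T, H ≤ normalizer ((P : Subgroup T) : Set T) := by
  have hp : Fact (Nat.Prime 3) := ⟨by norm_num⟩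
  obtain ⟨P⟩ : Nonempty (Sylow 3 H) := inferInstance
  have hcard : Nat.card ((P : Subgroup H).map H.subtype : Subgroup T) = 3 ^ (Nat.card T).factorization 3 := by
    have h2 : Nat.card ((P : Subgroup H).map H.subtype : Subgroup T) = Nat.card P :=
      (Nat.card_congr ((P : Subgroup H).equivMapOfInjective H.subtype H.subtype_injective).toEquiv).symm
    rw [h2, P.card_eq_multiplicity, ← H.index_mul_card, Nat.factorization_mul H.index_ne_zero_of_finite Nat.card_pos.ne',
      Finsupp.add_apply, Nat.factorization_eq_zero_of_not_dvd hH, zero_add]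
  refine ⟨Sylow.ofCard _ hcard, ?_⟩
  intro h hh
  rw [mem_normalizer_iff]
  have key : ∀ h : H, ∀ x : T, x ∈ (P : Subgroup H).map H.subtype → (h : T) * x * (h : T)⁻¹ ∈ (P : Subgroup H).map H.subtype := by
    rintro h _ ⟨y, hy, rfl⟩
    exact ⟨h * y * h⁻¹, (h1 P).conj_mem y hy h, rfl⟩
  intro x
  constructor
  · intro hx
    exact key ⟨h, hh⟩ x hx
  · intro hx
    have h3 := key ⟨h, hh⟩⁻¹ _ hx
    have e : ((⟨h, hh⟩⁻¹ : H) : T) * (h * x * h⁻¹) * ((⟨h, hh⟩⁻¹ : H) : T)⁻¹ = x := by
      show h⁻¹ * (h * x * h⁻¹) * h⁻¹⁻¹ = x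
      group
    rw [e] at h3
    exact h3

theorem norm_six {H : Type*} [Group H] [Finite H] (hH : Nat.card H = 6) (P : Sylow 3 H) : (P : Subgroup H).Normal := by
  have hp : Fact (Nat.Prime 3) := ⟨by norm_num⟩
  have h1 : Nat.card P = 3 := by
    rw [P.card_eq_multiplicity, hH]
    have : (6 : ℕ).factorization 3 = 1 := by
      rw [show (6 : ℕ) = 3 * 2 from rfl, Nat.factorization_mul (by norm_num) (by norm_num), Finsupp.add_apply,
        Nat.Prime.factorization_self (by norm_num), Nat.factorization_eq_zero_of_not_dvd (by norm_num)]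
    rw [this]; norm_num
  have h2 := (P : Subgroup H).index_mul_card
  rw [hH] at h2
  change (P : Subgroup H).index * Nat.card P = 6 at h2
  rw [h1] at h2
  exact normal_of_index_eq_two (by omega)

theorem norm_thirtysix {H : Type*} [Group H] [Finite H] (hH : Nat.card H = 36)
    (hc : ∀ c : H, orderOf c = 3 → Nat.card (centralizer ({c} : Set H)) ≤ 18) (P : Sylow 3 H) : (P : Subgroup H).Normal := by
  have hp : Fact (Nat.Prime 3) := ⟨by norm_num⟩
  have hcP : ∀ P : Sylow 3 H, Nat.card P = 3 ^ 2 := by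
    intro P
    rw [P.card_eq_multiplicity, hH]
    have : (36 : ℕ).factorization 3 = 2 := by
      rw [show (36 : ℕ) = 3 ^ 2 * 4 from rfl, Nat.factorization_mul (by norm_num) (by norm_num), Finsupp.add_apply,
        Nat.Prime.factorization_pow (by norm_num), Finsupp.single_eq_same, Nat.factorization_eq_zero_of_not_dvd (by norm_num)]
    rw [this]
  have hsub : Subsingleton (Sylow 3 H) := by
    constructor
    intro P₁ P₂
    by_contra hne
    have hinf : ¬ Nat.card ((P₁ : Subgroup H) ⊓ P₂ : Subgroup H) = 1 := by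
      intro h1
      have hbot : ((P₁ : Subgroup H) ⊓ P₂ : Subgroup H) = ⊥ := Subgroup.eq_bot_of_card_eq _ h1
      have hinj : Function.Injective (fun x : P₁ × P₂ => (x.1 : H) * (x.2 : H)) := by
        rintro ⟨a, b⟩ ⟨c, d⟩ h2
        have h3 : (a : H) * b = c * d := h2
        have h4 : (c : H)⁻¹ * a = d * (b : H)⁻¹ := by
          rw [inv_mul_eq_iff_eq_mul, ← mul_assoc, ← h3, mul_assoc, mul_inv_cancel, mul_one]
        have h5 : (c : H)⁻¹ * a ∈ ((P₁ : Subgroup H) ⊓ P₂ : Subgroup H) := by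
          refine ⟨(P₁ : Subgroup H).mul_mem ((P₁ : Subgroup H).inv_mem c.2) a.2, ?_⟩
          rw [h4]
          exact (P₂ : Subgroup H).mul_mem d.2 ((P₂ : Subgroup H).inv_mem b.2)
        rw [hbot, mem_bot] at h5
        rw [h5] at h4
        rw [inv_mul_eq_one] at h5
        rw [eq_comm, mul_inv_eq_one] at h4
        exact Prod.ext (Subtype.ext h5.symm) (Subtype.ext h4.symm)
      have h2 := Nat.card_le_card_of_injective _ hinj
      rw [Nat.card_prod, hcP, hcP, hH] at h2
      norm_num at h2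
    have h3 : 3 ∣ Nat.card ((P₁ : Subgroup H) ⊓ P₂ : Subgroup H) := by
      have h4 : Nat.card ((P₁ : Subgroup H) ⊓ P₂ : Subgroup H) ∣ 3 ^ 2 := by
        rw [← hcP P₁]
        exact card_dvd_of_le inf_le_left
      obtain ⟨k, -, hk⟩ := (Nat.dvd_prime_pow (by norm_num)).1 h4
      rw [hk] at hinf ⊢
      rcases Nat.eq_zero_or_pos k with h5 | h5
      · rw [h5] at hinf; exact absurd (pow_zero 3) hinf
      · exact dvd_pow_self 3 h5.ne'
    obtain ⟨c, hc3⟩ := exists_prime_orderOf_dvd_card' 3 h3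
    have hco : orderOf (c : H) = 3 := by rw [Subgroup.orderOf_coe, hc3]
    have hCc := hc _ hco
    have hab : ∀ P : Sylow 3 H, (c : H) ∈ (P : Subgroup H) → (P : Subgroup H) ≤ centralizer ({(c : H)} : Set H) := by
      intro P hcP' x hx
      have h5 := IsPGroup.isMulCommutative_of_card_eq_prime_sq (hcP P)
      rw [mem_centralizer_singleton_iff]
      exact Subtype.ext_iff.1 (h5.is_comm.comm (⟨x, hx⟩ : P) ⟨c, hcP'⟩)
    have h1C := hab P₁ (mem_inf.1 c.2).1
    have h2C := hab P₂ (mem_inf.1 c.2).2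
    have h6 : (P₁ : Subgroup H).relIndex (centralizer ({(c : H)} : Set H)) ≤ 2 := by
      have h7 := Cfsg.Agent.Lib.HallHigman.card_mul_relIndex' h1C
      rw [hcP P₁] at h7
      omega
    have h8 : ((P₁ : Subgroup H).subgroupOf (centralizer ({(c : H)} : Set H))).Normal := by
      have h9 : ((P₁ : Subgroup H).subgroupOf (centralizer ({(c : H)} : Set H))).index ≤ 2 := h6
      have h10 : ((P₁ : Subgroup H).subgroupOf (centralizer ({(c : H)} : Set H))).index ≠ 0 := index_ne_zero_of_finite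
      rcases (by omega : ((P₁ : Subgroup H).subgroupOf (centralizer ({(c : H)} : Set H))).index = 1 ∨
        ((P₁ : Subgroup H).subgroupOf (centralizer ({(c : H)} : Set H))).index = 2) with h11 | h11
      · rw [index_eq_one.1 h11]; infer_instance
      · exact normal_of_index_eq_two h11
    have h9 : (P₂ : Subgroup H) ≤ normalizer ((P₁ : Subgroup H) : Set H) := by
      intro x hx
      rw [mem_normalizer_iff]
      have hk : ∀ x ∈ centralizer ({(c : H)} : Set H), ∀ y ∈ (P₁ : Subgroup H), x * y * x⁻¹ ∈ (P₁ : Subgroup H) := by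
        intro x hx y hy
        have := h8.conj_mem ⟨y, h1C hy⟩ (mem_subgroupOf.2 hy) ⟨x, hx⟩
        exact mem_subgroupOf.1 this
      intro y
      constructor
      · exact fun hy => hk x (h2C hx) y hy
      · intro hy
        have := hk x⁻¹ (inv_mem (h2C hx)) _ hy
        have e : x⁻¹ * (x * y * x⁻¹) * x⁻¹⁻¹ = y := by group
        rw [e] at this
        exact this
    have h10 : (P₂ : Subgroup H) ⊓ normalizer ((P₁ : Subgroup H) : Set H) = (P₂ : Subgroup H) ⊓ P₁ :=
      P₂.2.inf_normalizer_sylow P₁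
    rw [inf_eq_left.2 h9] at h10
    have h11 : (P₂ : Subgroup H) ≤ P₁ := by rw [h10]; exact inf_le_right
    exact hne (Sylow.ext (Subgroup.eq_of_le_of_card_ge h11 (by
      change Nat.card P₁ ≤ Nat.card P₂
      rw [hcP, hcP]))).symm
  exact Sylow.normal_of_subsingleton P

/-- centralizers of elements of order three in `A₆` -/
theorem card_cent_six (c : alternatingGroup (Fin 6)) (hc : orderOf c = 3) :
    Nat.card (centralizer ({c} : Set (alternatingGroup (Fin 6)))) ≤ 18 := by
  have hp : Fact (Nat.Prime 3) := ⟨by norm_num⟩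
  have hc' : orderOf (c : Perm (Fin 6)) = 3 := by rw [Subgroup.orderOf_coe, hc]
  have h1 : Nat.card (centralizer ({c} : Set (alternatingGroup (Fin 6)))) ≤
      Nat.card (centralizer ({(c : Perm (Fin 6))} : Set (Perm (Fin 6)))) := by
    refine Nat.card_le_card_of_injective (fun x => ⟨((x : alternatingGroup (Fin 6)) : Perm (Fin 6)), ?_⟩) ?_
    · rw [mem_centralizer_singleton_iff]
      exact Subtype.ext_iff.1 (mem_centralizer_singleton_iff.1 x.2)
    · intro x y hxy
      have h := congrArg Subtype.val hxy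
      exact Subtype.ext (Subtype.ext h)
  refine h1.trans ?_
  have h2 := cycleType_of_pow_prime_eq_one (σ := (c : Perm (Fin 6))) (p := 3) (by rw [← hc']; exact pow_orderOf_eq_one _)
  set k := Multiset.card (cycleType (c : Perm (Fin 6))) with hk
  have h3 : (cycleType (c : Perm (Fin 6))).sum ≤ 6 := by
    rw [sum_cycleType]
    exact (Finset.card_le_univ _).trans (by simp)
  rw [h2, Multiset.sum_replicate, smul_eq_mul] at h3
  have h4 : k ≠ 0 := by
    intro h5
    rw [h5, Multiset.replicate_zero, cycleType_eq_zero] at h2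
    rw [h2, orderOf_one] at hc'
    norm_num at hc'
  have h5 : Nat.card (centralizer ({(c : Perm (Fin 6))} : Set (Perm (Fin 6)))) = _ := nat_card_centralizer (c : Perm (Fin 6))
  rw [h5, h2]
  have h6 : k = 1 ∨ k = 2 := by omega
  rcases h6 with h6 | h6 <;> rw [h6] <;> decide

theorem alt_five_index_ten {H₁ H₂ : Subgroup (alternatingGroup (Fin 5))} (h1 : H₁.index = 10) (h2 : H₂.index = 10) :
    ∃ t, ∀ s, s ∈ H₂ ↔ t⁻¹ * s * t ∈ H₁ := by
  have hs := alternatingGroup.isSimpleGroup (α := Fin 5) (by simp)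
  have hc := Cfsg.Agent.SmallSimple.PSLFacts.card_alt_five
  refine conj_of_index_ten (by rw [hc]; norm_num) (fun H hH => exists_norm (by rw [hH]; norm_num) (norm_six ?_)) h1 h2
  have h3 := H.index_mul_card
  rw [hc, hH] at h3
  omega

theorem alt_six_index_ten {H₁ H₂ : Subgroup (alternatingGroup (Fin 6))} (h1 : H₁.index = 10) (h2 : H₂.index = 10) :
    ∃ t, ∀ s, s ∈ H₂ ↔ t⁻¹ * s * t ∈ H₁ := by
  have hs := alternatingGroup.isSimpleGroup (α := Fin 6) (by simp)
  have hc := Cfsg.Agent.SmallSimple.PSLFacts.card_alt_six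
  refine conj_of_index_ten (by rw [hc]; norm_num) (fun H hH => exists_norm (by rw [hH]; norm_num) (norm_thirtysix ?_ ?_)) h1 h2
  · have h3 := H.index_mul_card
    rw [hc, hH] at h3
    omega
  · intro c hc3
    refine le_trans ?_ (card_cent_six c (by rw [Subgroup.orderOf_coe, hc3]))
    refine Nat.card_le_card_of_injective (fun x => ⟨((x : H) : alternatingGroup (Fin 6)), ?_⟩) ?_
    · rw [mem_centralizer_singleton_iff]
      exact Subtype.ext_iff.1 (mem_centralizer_singleton_iff.1 x.2)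
    · intro x y hxy
      have h := congrArg Subtype.val hxy
      exact Subtype.ext (Subtype.ext h)

/-- transitive groups with corresponding point stabilisers are conjugate -/
theorem conj_of_stab {X₁ X₂ : Subgroup (Perm (Fin 10))} (h1 : MulAction.IsPretransitive X₁ (Fin 10))
    (h2 : MulAction.IsPretransitive X₂ (Fin 10)) (φ : X₁ ≃* X₂) (a b : Fin 10)
    (hst : ∀ x : X₁, (x : Perm (Fin 10)) a = a ↔ ((φ x : X₂) : Perm (Fin 10)) b = b) :
    ∃ f : Perm (Fin 10), X₂ = X₁.map (MulAut.conj f).toMonoidHom := by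
  have hex : ∀ i : Fin 10, ∃ x : X₁, (x : Perm (Fin 10)) a = i := fun i => h1.exists_smul_eq a i
  choose x hx using hex
  let g : Fin 10 → Fin 10 := fun i => ((φ (x i) : X₂) : Perm (Fin 10)) b
  have key : ∀ y z : X₁, (y : Perm (Fin 10)) a = (z : Perm (Fin 10)) a ↔
      ((φ y : X₂) : Perm (Fin 10)) b = ((φ z : X₂) : Perm (Fin 10)) b := by
    intro y z
    have h3 := hst (z⁻¹ * y)
    have e1 : ((z⁻¹ * y : X₁) : Perm (Fin 10)) a = a ↔ (y : Perm (Fin 10)) a = (z : Perm (Fin 10)) a := by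
      show (z : Perm (Fin 10))⁻¹ ((y : Perm (Fin 10)) a) = a ↔ _
      rw [Perm.inv_eq_iff_eq]
    have e2 : ((φ (z⁻¹ * y) : X₂) : Perm (Fin 10)) b = b ↔
        ((φ y : X₂) : Perm (Fin 10)) b = ((φ z : X₂) : Perm (Fin 10)) b := by
      rw [map_mul, map_inv]
      show ((φ z : X₂) : Perm (Fin 10))⁻¹ (((φ y : X₂) : Perm (Fin 10)) b) = b ↔ _
      rw [Perm.inv_eq_iff_eq]
    rw [← e1, ← e2]
    exact h3
  have hgi : Function.Injective g := by
    intro i j hij
    have h3 := (key (x i) (x j)).2 hij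
    rw [hx, hx] at h3
    exact h3
  let f : Perm (Fin 10) := Equiv.ofBijective g (Finite.injective_iff_bijective.1 hgi)
  have hf : ∀ i, f i = ((φ (x i) : X₂) : Perm (Fin 10)) b := fun i => rfl
  have heq : ∀ y : X₁, ((φ y : X₂) : Perm (Fin 10)) * f = f * y := by
    intro y
    ext i
    congr 1
    show ((φ y : X₂) : Perm (Fin 10)) (f i) = f ((y : Perm (Fin 10)) i)
    rw [hf, hf]
    have h3 := (key (y * x i) (x ((y : Perm (Fin 10)) i))).1 (by
      rw [hx]
      show (y : Perm (Fin 10)) ((x i : Perm (Fin 10)) a) = _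
      rw [hx])
    rw [map_mul] at h3
    exact h3
  refine ⟨f, ?_⟩
  ext z
  constructor
  · intro hz
    refine ⟨(φ.symm ⟨z, hz⟩ : X₁), (φ.symm ⟨z, hz⟩).2, ?_⟩
    show f * (φ.symm ⟨z, hz⟩ : X₁) * f⁻¹ = z
    rw [← heq, φ.apply_symm_apply]
    group
  · rintro ⟨y, hy, rfl⟩
    show f * y * f⁻¹ ∈ X₂
    rw [show f * y = ((φ ⟨y, hy⟩ : X₂) : Perm (Fin 10)) * f from (heq ⟨y, hy⟩).symm, mul_inv_cancel_right]
    exact (φ ⟨y, hy⟩).2

/-- the number of conjugates -/
theorem ncard_class_le {G : Type*} [Group G] [Finite G] (X : Subgroup G) :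
    {Y : Subgroup G | ∃ f : G, Y = X.map (MulAut.conj f).toMonoidHom}.ncard ≤ X.index := by
  have h1 : {Y : Subgroup G | ∃ f : G, Y = X.map (MulAut.conj f).toMonoidHom} ⊆
      (fun c : G ⧸ X => X.map (MulAut.conj c.out).toMonoidHom) '' Set.univ := by
    rintro _ ⟨f, rfl⟩
    refine ⟨(f : G ⧸ X), Set.mem_univ _, ?_⟩
    obtain ⟨y, hy⟩ := QuotientGroup.mk_out_eq_mul X f
    show X.map (MulAut.conj (f : G ⧸ X).out).toMonoidHom = _
    rw [hy]
    have key : ∀ (f : G) (y : X), X.map (MulAut.conj (f * y)).toMonoidHom ≤ X.map (MulAut.conj f).toMonoidHom := by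
      rintro f y _ ⟨z, hz, rfl⟩
      refine ⟨y * z * y⁻¹, X.mul_mem (X.mul_mem y.2 hz) (X.inv_mem y.2), ?_⟩
      show f * (y * z * (y : G)⁻¹) * f⁻¹ = f * y * z * (f * y)⁻¹
      group
    apply le_antisymm (key f y)
    have h2 := key (f * y) y⁻¹
    rw [show f * (y : G) * ((y⁻¹ : X) : G) = f by simp] at h2
    exact h2
  refine (Set.ncard_le_ncard h1 (Set.toFinite _)).trans ((Set.ncard_image_le Set.finite_univ).trans ?_)
  rw [Set.ncard_univ]
  exact le_rfl

theorem ncard_type_le {T : Type*} [Group T] [Finite T]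
    (hT : ∀ {H₁ H₂ : Subgroup T}, H₁.index = 10 → H₂.index = 10 → ∃ t, ∀ s, s ∈ H₂ ↔ t⁻¹ * s * t ∈ H₁) :
    {X : Subgroup (Perm (Fin 10)) | MulAction.IsPretransitive X (Fin 10) ∧ Nonempty (X ≃* T)}.ncard ≤
      3628800 / Nat.card T := by
  rcases Set.eq_empty_or_nonempty {X : Subgroup (Perm (Fin 10)) | MulAction.IsPretransitive X (Fin 10) ∧ Nonempty (X ≃* T)}
    with h0 | ⟨X₁, h1, ⟨e1⟩⟩
  · rw [h0, Set.ncard_empty]
    exact Nat.zero_le _
  have hidx : ∀ (X : Subgroup (Perm (Fin 10))) (e : X ≃* T), MulAction.IsPretransitive X (Fin 10) →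
      ((MulAction.stabilizer X (0 : Fin 10)).map e.toMonoidHom).index = 10 := by
    intro X e hX
    have h3 := MulAction.index_stabilizer_of_transitive X (0 : Fin 10)
    rw [Nat.card_fin] at h3
    exact (Subgroup.index_map_equiv _ e).trans h3
  have hsub : {X : Subgroup (Perm (Fin 10)) | MulAction.IsPretransitive X (Fin 10) ∧ Nonempty (X ≃* T)} ⊆
      {Y | ∃ f : Perm (Fin 10), Y = X₁.map (MulAut.conj f).toMonoidHom} := by
    rintro X₂ ⟨h2, ⟨e2⟩⟩
    obtain ⟨t, ht⟩ := hT (hidx X₁ e1 h1) (hidx X₂ e2 h2)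
    refine conj_of_stab h1 h2 (e1.trans ((MulAut.conj t).trans e2.symm)) 0 0 ?_
    intro x
    have hm : ∀ (X : Subgroup (Perm (Fin 10))) (e : X ≃* T) (x : X),
        e x ∈ (MulAction.stabilizer X (0 : Fin 10)).map e.toMonoidHom ↔ (x : Perm (Fin 10)) 0 = 0 := by
      intro X e x
      constructor
      · rintro ⟨y, hy, h3⟩
        rw [← e.injective h3]
        exact hy
      · intro h3
        exact ⟨x, h3, rfl⟩
    rw [← hm X₁ e1 x, ← hm X₂ e2, ht]
    have e3 : t⁻¹ * e2 ((e1.trans ((MulAut.conj t).trans e2.symm)) x) * t = e1 x := by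
      show t⁻¹ * e2 (e2.symm (t * e1 x * t⁻¹)) * t = e1 x
      rw [e2.apply_symm_apply]
      group
    rw [e3]
  refine (Set.ncard_le_ncard hsub (Set.toFinite _)).trans ((ncard_class_le X₁).trans ?_)
  have h3 := X₁.index_mul_card
  rw [Nat.card_perm, Nat.card_fin, Nat.card_congr e1.toEquiv] at h3
  rw [Nat.le_div_iff_mul_le Nat.card_pos, h3]
  exact (by decide : Nat.factorial 10 ≤ 3628800)

open scoped Pointwise

theorem case_orbit {G L : Subgroup (Perm (Fin 10))} (hG : alternatingGroup (Fin 10) ≤ G) (hL : MaxNot G L)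
    (ht : ¬ MulAction.IsPretransitive L (Fin 10)) :
    ∃ Δ : Set (Fin 10), L = G ⊓ MulAction.stabilizer (Perm (Fin 10)) Δ := by
  obtain ⟨i, j, hij⟩ : ∃ i j : Fin 10, ∀ g ∈ L, g i ≠ j := by
    by_contra hcon
    push Not at hcon
    apply ht
    refine ⟨fun i j => ?_⟩
    obtain ⟨g, hg, h1⟩ := hcon i j
    exact ⟨⟨g, hg⟩, h1⟩
  refine ⟨{k | ∃ g ∈ L, g i = k}, hL.eq_inf hG ?_ ?_⟩
  · intro g hg
    rw [MulAction.mem_stabilizer_set]
    intro b
    constructor
    · rintro ⟨h, hh, h1⟩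
      refine ⟨g⁻¹ * h, L.mul_mem (L.inv_mem hg) hh, ?_⟩
      rw [Perm.mul_apply, h1, Perm.smul_def]
      exact g.symm_apply_apply b
    · rintro ⟨h, hh, rfl⟩
      exact ⟨g * h, L.mul_mem hg hh, rfl⟩
  · intro hle
    have h1 := alternatingGroup.isPretransitive_of_three_le_card (Fin 10) (by simp)
    obtain ⟨a, ha⟩ := h1.exists_smul_eq i j
    have h2 := MulAction.mem_stabilizer_set.1 (hle a.2) i
    obtain ⟨g, hg, h3⟩ := h2.2 ⟨1, one_mem _, rfl⟩
    exact hij g hg (h3.trans ha)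

theorem case_five {G L : Subgroup (Perm (Fin 10))} (hG : alternatingGroup (Fin 10) ≤ G) (hL : MaxNot G L)
    {B : Set (Fin 10)} (hB : MulAction.IsBlock L B) (h5 : B.ncard = 5) :
    L = G ⊓ MulAction.stabilizer (Perm (Fin 10)) ({B, Bᶜ} : Set (Set (Fin 10))) := by
  have hBc : Bᶜ.ncard = 5 := by
    have := Set.ncard_add_ncard_compl B
    rw [h5, Nat.card_fin] at this
    omega
  refine hL.eq_inf hG ?_ ?_
  · intro g hg
    rw [MulAction.mem_stabilizer_iff, Set.smul_set_insert, Set.smul_set_singleton, Set.smul_set_compl]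
    rcases MulAction.isBlock_iff_smul_eq_or_disjoint.1 hB ⟨g, hg⟩ with h1 | h1
    · have h2 : g • B = B := h1
      rw [h2]
    · have h2 : g • B = Bᶜ := by
        refine Set.eq_of_subset_of_ncard_le (Set.disjoint_left.1 h1) ?_
        rw [hBc, Set.ncard_smul_set, h5]
      rw [h2, compl_compl, Set.pair_comm]
  · intro hle
    have h1 := alternatingGroup.isPreprimitive_of_three_le_card (Fin 10) (by simp)
    have h2 : MulAction.IsBlock (alternatingGroup (Fin 10)) B := by
      rw [MulAction.isBlock_iff_smul_eq_or_disjoint]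
      intro g
      have h3 := MulAction.mem_stabilizer_iff.1 (hle g.2)
      have h4 : (g : Perm (Fin 10)) • B ∈ ({B, Bᶜ} : Set (Set (Fin 10))) := by
        rw [← h3]
        exact Set.smul_mem_smul_set (Set.mem_insert _ _)
      rcases h4 with h4 | h4
      · exact Or.inl h4
      · right
        have h5 : g • B = Bᶜ := h4
        rw [h5]
        exact disjoint_compl_left
    rcases h1.isTrivialBlock_of_isBlock h2 with h3 | h3
    · have := Set.ncard_le_one_iff_subsingleton.2 h3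
      omega
    · rw [h3, Set.ncard_univ, Nat.card_fin] at h5
      omega

theorem case_two {G L : Subgroup (Perm (Fin 10))} (hG : alternatingGroup (Fin 10) ≤ G) (hL : MaxNot G L)
    (ht : MulAction.IsPretransitive L (Fin 10)) {B : Set (Fin 10)} (hB : MulAction.IsBlock L B) (h2 : B.ncard = 2) :
    ∃ τ : Perm (Fin 10), τ.cycleType = Multiset.replicate 5 2 ∧ L = G ⊓ centralizer ({τ} : Set (Perm (Fin 10))) := by
  obtain ⟨i₀, j₀, hne, rfl⟩ := Set.ncard_eq_two.1 h2
  have hex : ∀ i : Fin 10, ∃ g : L, (g : Perm (Fin 10)) i₀ = i := fun i => ht.exists_smul_eq i₀ i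
  choose g hg using hex
  -- the translates
  have hsm : ∀ x : L, x • ({i₀, j₀} : Set (Fin 10)) = {(x : Perm (Fin 10)) i₀, (x : Perm (Fin 10)) j₀} := by
    intro x
    rw [Set.smul_set_insert, Set.smul_set_singleton]
    rfl
  have htr : ∀ x y : L, (∃ k, k ∈ ({(x : Perm (Fin 10)) i₀, (x : Perm (Fin 10)) j₀} : Set (Fin 10)) ∧
      k ∈ ({(y : Perm (Fin 10)) i₀, (y : Perm (Fin 10)) j₀} : Set (Fin 10))) →
      ({(x : Perm (Fin 10)) i₀, (x : Perm (Fin 10)) j₀} : Set (Fin 10)) = {(y : Perm (Fin 10)) i₀, (y : Perm (Fin 10)) j₀} := by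
    rintro x y ⟨k, h3, h4⟩
    by_contra hcon
    rw [← hsm, ← hsm] at hcon
    have h5 := hB hcon
    rw [hsm, hsm] at h5
    exact Set.disjoint_left.1 h5 h3 h4
  have hij : ∀ x : L, (x : Perm (Fin 10)) i₀ ≠ (x : Perm (Fin 10)) j₀ := fun x e => hne ((x : Perm (Fin 10)).injective e)
  let τ : Fin 10 → Fin 10 := fun i => (g i : Perm (Fin 10)) j₀
  have h1 : ∀ x : L, (x : Perm (Fin 10)) j₀ = τ ((x : Perm (Fin 10)) i₀) := by
    intro x
    have h3 := htr x (g ((x : Perm (Fin 10)) i₀)) ⟨(x : Perm (Fin 10)) i₀, Set.mem_insert _ _, by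
      rw [hg]; exact Set.mem_insert _ _⟩
    have h4 : (x : Perm (Fin 10)) j₀ ∈ ({(g ((x : Perm (Fin 10)) i₀) : Perm (Fin 10)) i₀,
      (g ((x : Perm (Fin 10)) i₀) : Perm (Fin 10)) j₀} : Set (Fin 10)) := by
      rw [← h3]; exact Set.mem_insert_of_mem _ rfl
    rcases h4 with h4 | h4
    · rw [hg] at h4
      exact absurd h4.symm (hij x)
    · exact h4
  have h1' : ∀ x : L, (x : Perm (Fin 10)) i₀ = τ ((x : Perm (Fin 10)) j₀) := by
    intro x
    have h3 := htr x (g ((x : Perm (Fin 10)) j₀)) ⟨(x : Perm (Fin 10)) j₀, Set.mem_insert_of_mem _ rfl, by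
      rw [hg]; exact Set.mem_insert _ _⟩
    have h4 : (x : Perm (Fin 10)) i₀ ∈ ({(g ((x : Perm (Fin 10)) j₀) : Perm (Fin 10)) i₀,
      (g ((x : Perm (Fin 10)) j₀) : Perm (Fin 10)) j₀} : Set (Fin 10)) := by
      rw [← h3]; exact Set.mem_insert _ _
    rcases h4 with h4 | h4
    · rw [hg] at h4
      exact absurd h4 (hij x)
    · exact h4
  have hinv : Function.Involutive τ := by
    intro i
    have h3 := h1' (g i)
    rw [hg] at h3
    exact h3.symm
  have hfix : ∀ i, τ i ≠ i := by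
    intro i h3
    have h4 := hij (g i)
    rw [hg] at h4
    exact h4 h3.symm
  let T : Perm (Fin 10) := Function.Involutive.toPerm τ hinv
  have hτ : ∀ i, T i = τ i := fun i => rfl
  refine ⟨T, ?_, hL.eq_inf hG ?_ ?_⟩
  · have hp : Fact (Nat.Prime 2) := ⟨Nat.prime_two⟩
    have h3 : T ^ 2 = 1 := by
      ext i
      rw [pow_two, Perm.mul_apply, hτ, hτ, hinv]
      rfl
    have h4 := cycleType_of_pow_prime_eq_one h3
    have h5 : T.support = Finset.univ := by
      ext i
      rw [mem_support, hτ]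
      simp only [Finset.mem_univ, iff_true]
      exact hfix i
    have h6 := sum_cycleType T
    rw [h5, Finset.card_univ, Fintype.card_fin, h4, Multiset.sum_replicate, smul_eq_mul] at h6
    rw [h4]
    congr 1
    omega
  · intro x hx
    rw [mem_centralizer_singleton_iff]
    ext i
    congr 1
    change x (τ i) = τ (x i)
    have h3 := h1 (⟨x, hx⟩ * g i)
    have h4 : ((⟨x, hx⟩ * g i : L) : Perm (Fin 10)) i₀ = x i := by
      show x ((g i : Perm (Fin 10)) i₀) = x i
      rw [hg]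
    rw [h4] at h3
    exact h3
  · intro hle
    have h3 : T = 1 := by
      apply Cfsg.Agent.StandardComponent.AltAut.eq_one_of_centralizes (m := 8) (by omega)
      intro x
      have h4 := mem_centralizer_singleton_iff.1 (hle x.2)
      rw [mul_inv_eq_iff_eq_mul]
      exact h4.symm
    have h4 := hfix 0
    rw [← hτ, h3] at h4
    exact h4 rfl

theorem case_prim (hBr : Br) {G L : Subgroup (Perm (Fin 10))} (hG : alternatingGroup (Fin 10) ≤ G) (hL : MaxNot G L)
    (hP : MulAction.IsPreprimitive L (Fin 10)) :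
    ∃ X : Subgroup (Perm (Fin 10)), MulAction.IsPretransitive X (Fin 10) ∧
      (Nonempty (X ≃* alternatingGroup (Fin 5)) ∨ Nonempty (X ≃* alternatingGroup (Fin 6))) ∧
      L = G ⊓ normalizer (X : Set (Perm (Fin 10))) := by
  obtain ⟨h1, h2⟩ := prim_socle hBr hP hL.nalt
  let e : gp 5 L ≃* ((gp 5 L).map L.subtype : Subgroup (Perm (Fin 10))) :=
    (gp 5 L).equivMapOfInjective L.subtype L.subtype_injective
  have he : ∀ x, ((e x : (gp 5 L).map L.subtype) : Perm (Fin 10)) = ((x : L) : Perm (Fin 10)) := fun x => rfl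
  have hX : MulAction.IsPretransitive ((gp 5 L).map L.subtype : Subgroup (Perm (Fin 10))) (Fin 10) := by
    refine ⟨fun i j => ?_⟩
    obtain ⟨x, hx⟩ := h1.exists_smul_eq i j
    exact ⟨e x, hx⟩
  have hXL : (gp 5 L).map L.subtype ≤ L := by
    rintro _ ⟨y, -, rfl⟩
    exact y.2
  refine ⟨(gp 5 L).map L.subtype, hX, ?_, hL.eq_inf hG ?_ ?_⟩
  · rcases h2 with ⟨⟨f⟩⟩ | ⟨⟨f⟩⟩
    · exact Or.inl ⟨e.symm.trans f⟩
    · exact Or.inr ⟨e.symm.trans f⟩
  · intro x hx
    rw [mem_normalizer_iff]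
    have key : ∀ x : L, ∀ y : Perm (Fin 10), y ∈ (gp 5 L).map L.subtype →
        (x : Perm (Fin 10)) * y * (x : Perm (Fin 10))⁻¹ ∈ (gp 5 L).map L.subtype := by
      rintro x _ ⟨y, hy, rfl⟩
      exact ⟨x * y * x⁻¹, (gp_normal 5 L).conj_mem y hy x, rfl⟩
    intro y
    constructor
    · intro hy
      exact key ⟨x, hx⟩ y hy
    · intro hy
      have h3 := key ⟨x, hx⟩⁻¹ _ hy
      have e1 : ((⟨x, hx⟩⁻¹ : L) : Perm (Fin 10)) * (x * y * x⁻¹) * ((⟨x, hx⟩⁻¹ : L) : Perm (Fin 10))⁻¹ = y := by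
        show x⁻¹ * (x * y * x⁻¹) * x⁻¹⁻¹ = y
        group
      rw [e1] at h3
      exact h3
  · intro hle
    have hXalt : (gp 5 L).map L.subtype ≤ alternatingGroup (Fin 10) := by
      rw [Subgroup.map_le_iff_le_comap, gp, closure_le]
      intro x hx
      have h3 : x ^ 5 = 1 := hx
      show L.subtype x ∈ alternatingGroup (Fin 10)
      rw [mem_alternatingGroup]
      have h4 : sign (L.subtype x) ^ 5 = 1 := by rw [← map_pow, ← map_pow, h3, map_one, map_one]
      rcases Int.units_eq_one_or (sign (L.subtype x)) with h5 | h5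
      · exact h5
      · rw [h5] at h4
        exact absurd h4 (by decide)
    have hs := alternatingGroup.isSimpleGroup (α := Fin 10) (by simp)
    have hnor : (((gp 5 L).map L.subtype).subgroupOf (alternatingGroup (Fin 10))).Normal := by
      constructor
      intro y hy x
      rw [mem_subgroupOf] at hy ⊢
      exact (mem_normalizer_iff.1 (hle x.2) _).1 hy
    rcases hnor.eq_bot_or_eq_top with h3 | h3
    · rw [subgroupOf_eq_bot, disjoint_iff, inf_eq_left.2 hXalt] at h3
      have h4 := ten_dvd_of_trans hX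
      rw [h3, Subgroup.card_bot] at h4
      norm_num at h4
    · rw [subgroupOf_eq_top] at h3
      exact hL.nalt (h3.trans hXL)

theorem ncard_maxNot_ten (hBr : Br) {G : Subgroup (Perm (Fin 10))} (hG : alternatingGroup (Fin 10) ≤ G) :
    {L : Subgroup (Perm (Fin 10)) | MaxNot G L}.ncard ≤ 2 ^ 17 := by
  classical
  have hcov : {L : Subgroup (Perm (Fin 10)) | MaxNot G L} ⊆
      ((fun Δ : Set (Fin 10) => G ⊓ MulAction.stabilizer (Perm (Fin 10)) Δ) '' Set.univ ∪
      (fun B : Set (Fin 10) => G ⊓ MulAction.stabilizer (Perm (Fin 10)) ({B, Bᶜ} : Set (Set (Fin 10)))) '' Set.univ ∪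
      (fun τ : Perm (Fin 10) => G ⊓ centralizer ({τ} : Set (Perm (Fin 10)))) '' {τ | τ.cycleType = Multiset.replicate 5 2} ∪
      (fun X : Subgroup (Perm (Fin 10)) => G ⊓ normalizer (X : Set (Perm (Fin 10)))) ''
        {X | MulAction.IsPretransitive X (Fin 10) ∧ Nonempty (X ≃* alternatingGroup (Fin 5))} ∪
      (fun X : Subgroup (Perm (Fin 10)) => G ⊓ normalizer (X : Set (Perm (Fin 10)))) ''
        {X | MulAction.IsPretransitive X (Fin 10) ∧ Nonempty (X ≃* alternatingGroup (Fin 6))}) := by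
    intro L hL
    by_cases ht : MulAction.IsPretransitive L (Fin 10)
    · by_cases hP : MulAction.IsPreprimitive L (Fin 10)
      · obtain ⟨X, h1, h2 | h2, h3⟩ := case_prim hBr hG hL hP
        · exact Or.inl (Or.inr ⟨X, ⟨h1, h2⟩, h3.symm⟩)
        · exact Or.inr ⟨X, ⟨h1, h2⟩, h3.symm⟩
      · obtain ⟨B, hB, hBt⟩ : ∃ B : Set (Fin 10), MulAction.IsBlock L B ∧ ¬ MulAction.IsTrivialBlock B := by
          by_contra hcon
          push Not at hcon
          exact hP { ht with isTrivialBlock_of_isBlock := fun {B} hB => hcon B hB }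
        have hBne : B.Nonempty := by
          by_contra h0
          rw [Set.not_nonempty_iff_eq_empty] at h0
          exact hBt (Or.inl (by rw [h0]; exact Set.subsingleton_empty))
        have h1 := hB.ncard_block_mul_ncard_orbit_eq hBne
        rw [Nat.card_fin] at h1
        have h2 : B.ncard ≠ 1 := fun h3 => hBt (Or.inl (Set.ncard_le_one_iff_subsingleton.1 h3.le))
        have h3 : B.ncard ≠ 10 := fun h3 => hBt (Or.inr (Set.eq_of_subset_of_ncard_le (Set.subset_univ B) (by
          rw [Set.ncard_univ, Nat.card_fin, h3])))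
        have h4 : B.ncard ∣ 10 := Dvd.intro _ h1
        have h5 : B.ncard ≤ 10 := Nat.le_of_dvd (by norm_num) h4
        have h6 : B.ncard = 2 ∨ B.ncard = 5 := by
          interval_cases h : B.ncard <;> omega
        rcases h6 with h6 | h6
        · obtain ⟨τ, h7, h8⟩ := case_two hG hL ht hB h6
          exact Or.inl (Or.inl (Or.inr ⟨τ, h7, h8.symm⟩))
        · exact Or.inl (Or.inl (Or.inl (Or.inr ⟨B, Set.mem_univ _, (case_five hG hL hB h6).symm⟩)))
    · obtain ⟨Δ, h1⟩ := case_orbit hG hL ht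
      exact Or.inl (Or.inl (Or.inl (Or.inl ⟨Δ, Set.mem_univ _, h1.symm⟩)))
  refine (Set.ncard_le_ncard hcov (Set.toFinite _)).trans ?_
  have hset : (Set.univ : Set (Set (Fin 10))).ncard = 1024 := by
    rw [Set.ncard_univ, Nat.card_eq_fintype_card, Fintype.card_set, Fintype.card_fin]
    norm_num
  have e1 : ((fun Δ : Set (Fin 10) => G ⊓ MulAction.stabilizer (Perm (Fin 10)) Δ) '' Set.univ).ncard ≤ 1024 := by
    rw [← hset]; exact Set.ncard_image_le Set.finite_univ
  have e2 : ((fun B : Set (Fin 10) => G ⊓ MulAction.stabilizer (Perm (Fin 10)) ({B, Bᶜ} : Set (Set (Fin 10)))) ''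
      Set.univ).ncard ≤ 1024 := by
    rw [← hset]; exact Set.ncard_image_le Set.finite_univ
  have e3 : ((fun τ : Perm (Fin 10) => G ⊓ centralizer ({τ} : Set (Perm (Fin 10)))) ''
      {τ | τ.cycleType = Multiset.replicate 5 2}).ncard ≤ 945 := by
    refine (Set.ncard_image_le (Set.toFinite _)).trans ?_
    have h1 := Equiv.Perm.card_of_cycleType (Fin 10) (Multiset.replicate 5 2)
    rw [if_pos ⟨by simp, fun a ha => (Multiset.eq_of_mem_replicate ha).ge⟩] at h1
    have h2 : ({τ : Perm (Fin 10) | τ.cycleType = Multiset.replicate 5 2} : Set (Perm (Fin 10))).ncard =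
        Finset.card {τ : Perm (Fin 10) | τ.cycleType = Multiset.replicate 5 2} := by
      rw [← Set.ncard_coe_finset, Finset.coe_filter_univ]
    rw [h2, h1, Fintype.card_fin, Multiset.sum_replicate, Multiset.prod_replicate, Multiset.toFinset_replicate,
      if_neg (by norm_num), Finset.prod_singleton, Multiset.count_replicate_self]
    norm_num [Nat.factorial]
  have e4 : ((fun X : Subgroup (Perm (Fin 10)) => G ⊓ normalizer (X : Set (Perm (Fin 10)))) ''
      {X | MulAction.IsPretransitive X (Fin 10) ∧ Nonempty (X ≃* alternatingGroup (Fin 5))}).ncard ≤ 60480 := by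
    refine (Set.ncard_image_le (Set.toFinite _)).trans ((ncard_type_le alt_five_index_ten).trans ?_)
    rw [Cfsg.Agent.SmallSimple.PSLFacts.card_alt_five]
  have e5 : ((fun X : Subgroup (Perm (Fin 10)) => G ⊓ normalizer (X : Set (Perm (Fin 10)))) ''
      {X | MulAction.IsPretransitive X (Fin 10) ∧ Nonempty (X ≃* alternatingGroup (Fin 6))}).ncard ≤ 10080 := by
    refine (Set.ncard_image_le (Set.toFinite _)).trans ((ncard_type_le alt_six_index_ten).trans ?_)
    rw [Cfsg.Agent.SmallSimple.PSLFacts.card_alt_six]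
  refine (Set.ncard_union_le _ _).trans ?_
  refine (Nat.add_le_add ((Set.ncard_union_le _ _).trans (Nat.add_le_add ((Set.ncard_union_le _ _).trans
    (Nat.add_le_add ((Set.ncard_union_le _ _).trans (Nat.add_le_add e1 e2)) e3)) e4)) e5).trans ?_
  norm_num

/-- **`soc(A) = A₁₀`** -/
theorem index_le_of_socle_ten (hBr : Br) {Q : Type*} [Group Q] [Finite Q] {A N : Subgroup Q} {Γ : Subgroup (MulAut Q)}
    (h : EPT A Γ) (hS : Soc A N) (e : N ≃* alternatingGroup (Fin 10)) : A.index ≤ 2 ^ 34 := by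
  obtain ⟨G, hG, h1⟩ := index_le_maxNot hS h (by norm_num) e
  refine h1.trans ((Nat.pow_le_pow_left (ncard_maxNot_ten hBr hG) 2).trans ?_)
  norm_num

end Cfsg.Agent.H839.EP

private theorem dce_8d59b53f3b02 : _root_.True := by
  try have : _root_.True := by simp only [_root_.Cfsg.Agent.H839.EP.gp.eq_1]
  exact _root_.True.intro
end

-- part: H7/EP/Nine
section
prune_inst 0x10000000400002
set_option linter.all false
open scoped Cfsg.Agent.FastGrp

/-!
# S3499, layer IV: the row `Ω₉(q)` (helper7)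

* `Model.card_omega` : `|Q| = |PΩ(Qf)|` for every `Model Q (omegaGL Qf)`;
* `card_nine` : `2 |Q| = q¹⁶ (q² - 1)(q⁴ - 1)(q⁶ - 1)(q⁸ - 1)`;
* `row_nine`.
-/

set_option autoImplicit false

namespace Cfsg.Agent.H7.EP

open Subgroup Cfsg.Agent.H284 Cfsg.Agent.H419.EP Cfsg Cfsg.Geo
open scoped MatrixGroups

section model

variable {ι : Type} [Fintype ι] [DecidableEq ι] {F : Type*} [Field F] {Q : Type*} [Group Q]

/-- two models of the same group are isomorphic: `Q ≃ PΩ(Qf)` -/
noncomputable def omegaEquiv [Finite F] {Qf : (ι → F) → F} (hQ : IsNondegenerateQuadraticForm Qf)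
    (hn : 5 ≤ Fintype.card ι) (m : Model Q (omegaGL Qf)) : POmega F Qf ≃* Q :=
  (QuotientGroup.quotientMulEquivOfEq (by
    ext x
    rw [MonoidHom.mem_ker, H775.EP.center_iff_scalar hQ hn]
    exact (m.ker (H775.EP.omEquiv Qf x)).symm)).trans
  (QuotientGroup.quotientKerEquivOfSurjective (m.π.comp (H775.EP.omEquiv Qf).toMonoidHom)
    (m.surj.comp (H775.EP.omEquiv Qf).surjective))

theorem card_omega [Finite F] {Qf : (ι → F) → F} (hQ : IsNondegenerateQuadraticForm Qf)
    (hn : 5 ≤ Fintype.card ι) (m : Model Q (omegaGL Qf)) : Nat.card Q = Nat.card (POmega F Qf) :=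
  (Nat.card_congr (omegaEquiv hQ hn m).toEquiv).symm

end model

/-- the order of `Q = PΩ_{2k+1}(q)` -/
theorem card_odd {Q : Type*} [Group Q] {F : Type*} [Field F] [Fintype F] (hodd : Odd (Fintype.card F)) {k : ℕ}
    (hk : 3 ≤ k) (m : Model Q (omegaGL (quadFormOdd k F))) :
    2 * Nat.card Q = Fintype.card F ^ (k ^ 2) * ∏ i ∈ Finset.range k, (Fintype.card F ^ (2 * (i + 1)) - 1) := by
  rw [card_omega (H775.EP.nd_odd k F (H775.EP.two_ne_zero_of_odd hodd)) (by rw [H775.EP.card_odd]; omega) m]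
  exact S0292.result rfl hodd k hk

theorem card_nine {Q : Type*} [Group Q] {F : Type*} [Field F] [Fintype F] (hodd : Odd (Fintype.card F))
    (m : Model Q (omegaGL (quadFormOdd 4 F))) {q : ℕ} (hq : q ≤ Fintype.card F) :
    q ^ 16 * ((q ^ 2 - 1) * (q ^ 4 - 1) * (q ^ 6 - 1) * (q ^ 8 - 1)) ≤ 2 * Nat.card Q := by
  rw [card_odd hodd (by norm_num) m]
  simp only [Finset.prod_range_succ, Finset.prod_range_zero, one_mul]
  have := Fintype.card_pos (α := F)
  gcongr <;> first | omega | norm_num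

/-- the order of `A` -/
theorem index_bound {Q : Type*} [Group Q] [Finite Q] {A : Subgroup Q} {a B : ℕ} (ha : Nat.card A ≤ a)
    (hB : A.index ≤ B) : Nat.card Q ≤ a * B := by
  rw [← A.card_mul_index]
  exact Nat.mul_le_mul ha hB

instance : Fact (Nat.Prime 17) := ⟨by norm_num⟩

theorem card_aut_psl8 {K : Type} [Field K] [Fintype K] (hK : Fintype.card K = 8) :
    Nat.card (MulAut (Matrix.ProjectiveSpecialLinearGroup (Fin 2) K)) = 1512 := by
  have : Fact (Nat.Prime 2) := ⟨Nat.prime_two⟩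
  rw [S0813.result 2 3 (by norm_num) (by rw [hK]; norm_num) 2 le_rfl (fun _ => by norm_num),
    S0265.result, ClassicalGeometry.PSL2Basic.card_SL2, hK]
  norm_num

theorem card_aut_psl17 :
    Nat.card (MulAut (Matrix.ProjectiveSpecialLinearGroup (Fin 2) (ZMod 17))) = 4896 := by
  rw [S0813.result 17 1 le_rfl (by rw [ZMod.card, pow_one]) 2 le_rfl (fun _ => by norm_num),
    S0265.result, ClassicalGeometry.PSL2Basic.card_SL2, ZMod.card]
  norm_num

/-- `|A|` divides `|Aut L|` -/
theorem HasSoc.card_dvd_aut {Q : Type*} [Group Q] {A : Subgroup Q} {L : Type*} [Group L] [Finite L]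
    (h : HasSoc A L) : Nat.card A ∣ Nat.card (MulAut L) := by
  obtain ⟨f, hf⟩ := h.exists_hom
  exact Subgroup.card_dvd_of_injective f hf

/-- the general index bound for `soc(A) = L` simple, `l` the factorisation of `|Aut L|` -/
theorem index_le (hg : H59.EP.TwoGen.{0}) {Q : Type*} [Group Q] [Finite Q] (hs : IsSimpleGroup Q) {A : Subgroup Q} {Γ : Subgroup (MulAut Q)}
    (h : EPT A Γ) {L : Type*} [Group L] [Finite L] (hL : HasSoc A L) (hsL : IsSimpleGroup L)
    (hna : ¬ ∀ a b : L, a * b = b * a) (l : List (ℕ × ℕ)) (h1 : ∀ x ∈ l, x.1.Prime ∧ 0 < x.2)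
    (h2 : (l.map Prod.fst).Nodup) {N : ℕ} (hN : (l.map fun x => x.1 ^ x.2).prod = N)
    (hc : Nat.card (MulAut L) = N) (hB : N < 60 ^ 61) :
    Nat.card Q ≤ N * (1 + ((l.map fun x => H59.EP.gal x.1 x.2).sum * (N / 6) + N ^ 2 / 60 + N ^ 3 / 12744000) *
      (2 * (N / 6))) := by
  have hd : Nat.card A ∣ N := hc ▸ HasSoc.card_dvd_aut hL
  have hN0 : 0 < N := by rw [← hc]; exact Nat.card_pos
  have hle : Nat.card A ≤ N := Nat.le_of_dvd hN0 hd
  have hab : ∀ K : Subgroup Q, K ≤ A → (∀ a ∈ A, ∀ k ∈ K, a * k * a⁻¹ ∈ K) → (∀ a ∈ K, ∀ b ∈ K, a * b = b * a) →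
      K = ⊥ := fun K hK hn hab => hL.no_abelian hsL hna hK hn hab
  have h3 := H59.EP.index_le_of (H59.EP.EPT.ncard_le_gen_dvd h hg hab l h1 h2
    (by rw [hN]; exact hd) (by rw [hN]; exact hB))
    (H173.EP.ub1 hs h (by norm_num) fun _ hx => H59.EP.EPT.six_le h hab hx) le_rfl
  rw [hN] at h3
  refine index_bound hle (h3.trans ?_)
  have h4 : 2 * (Nat.card A / 6) ≤ 2 * (N / 6) := Nat.mul_le_mul_left 2 (Nat.div_le_div_right hle)
  gcongr

theorem card_aut_alt (n : ℕ) (hn : 4 ≤ n) (h6 : n ≠ 6) :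
    Nat.card (MulAut ↥(alternatingGroup (Fin n))) = n.factorial := by
  rw [← Nat.card_congr (Equiv.ofBijective _ (S2119.result n hn h6)), Nat.card_eq_fintype_card, Fintype.card_perm,
    Fintype.card_fin]

/-! ### The row -/

/-- the statement of S5836 -/
def St5836 : Prop := ∀ {F : Type} [Field F] [Fintype F] (_ : Odd (Fintype.card F))
    (H : Subgroup (Matrix.GeneralLinearGroup (Unit ⊕ (Fin 4 ⊕ Fin 4)) F))
    (_ : Cfsg.Geo.IsMaximalIn (Cfsg.Geo.omegaGL (Cfsg.quadFormOdd 4 F)) H) (_ : Cfsg.Geo.InOrthogonalResidualClass H),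
    ∃ (P : Subgroup (Matrix.GeneralLinearGroup (Unit ⊕ (Fin 4 ⊕ Fin 4)) F)) (p : ℕ), Cfsg.Geo.IsResidualCore H P ∧ p.Prime ∧ CharP F p ∧
    (((∃ (K : Type) (_ : Field K) (_ : Fintype K), Fintype.card K = 8 ∧ Nonempty ((P ⧸ (Cfsg.Geo.scalars (Unit ⊕ (Fin 4 ⊕ Fin 4)) F).subgroupOf P) ≃* Matrix.ProjectiveSpecialLinearGroup (Fin 2) K)) ∧ ((Fintype.card F = p ∧ (p % 7 = 1 ∨ p % 7 = 6)) ∨ (Fintype.card F = p ^ 3 ∧ (p % 7 = 2 ∨ p % 7 = 5 ∨ p % 7 = 3 ∨ p % 7 = 4)))) ∨
     (Nonempty ((P ⧸ (Cfsg.Geo.scalars (Unit ⊕ (Fin 4 ⊕ Fin 4)) F).subgroupOf P) ≃* Matrix.ProjectiveSpecialLinearGroup (Fin 2) (ZMod 17)) ∧ ((Fintype.card F = p ∧ (p % 17 = 1 ∨ p % 17 = 16 ∨ p % 17 = 2 ∨ p % 17 = 15 ∨ p % 17 = 4 ∨ p % 17 = 13 ∨ p % 17 = 8 ∨ p % 17 = 9)) ∨ (Fintype.card F = p ^ 2 ∧ (p % 17 = 3 ∨ p % 17 = 14 ∨ p % 17 = 5 ∨ p % 17 = 12 ∨ p % 17 = 6 ∨ p % 17 = 11 ∨ p % 17 = 7 ∨ p % 17 = 10)))) ∨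
     (Nonempty ((P ⧸ (Cfsg.Geo.scalars (Unit ⊕ (Fin 4 ⊕ Fin 4)) F).subgroupOf P) ≃* alternatingGroup (Fin 10)) ∧ Fintype.card F = p ∧ p ≠ 5 ∧ p ≠ 11) ∨
     (Nonempty ((P ⧸ (Cfsg.Geo.scalars (Unit ⊕ (Fin 4 ⊕ Fin 4)) F).subgroupOf P) ≃* alternatingGroup (Fin 11)) ∧ Fintype.card F = 11) ∨
     (Nonempty ((P ⧸ (Cfsg.Geo.scalars (Unit ⊕ (Fin 4 ⊕ Fin 4)) F).subgroupOf P) ≃* Matrix.ProjectiveSpecialLinearGroup (Fin 2) F) ∧ 11 ≤ p) ∨
     ((∃ (K : Type) (_ : Field K) (_ : Fintype K), Fintype.card K = Fintype.card F ^ 2 ∧ Nonempty ((P ⧸ (Cfsg.Geo.scalars (Unit ⊕ (Fin 4 ⊕ Fin 4)) F).subgroupOf P) ≃* Matrix.ProjectiveSpecialLinearGroup (Fin 2) K)) ∧ Fintype.card F ≠ 3))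

theorem nonab {L : Type*} [Group L] {L' : Type*} [Group L'] (e : L ≃* L') (h : ¬ IsMulCommutative L) :
    ¬ ∀ a b : L', a * b = b * a := by
  intro h1
  exact h ⟨⟨fun a b => e.injective (by rw [map_mul, map_mul, h1])⟩⟩

theorem simple_of {L : Type*} [Group L] {L' : Type*} [Group L'] (e : L ≃* L') (h : IsSimpleGroup L) :
    IsSimpleGroup L' := by
  have := h
  exact e.symm.isSimpleGroup

/-- **The row `Ω₉(q)`**, except for `L₂(q)` and `L₂(q²)` in own characteristic -/
theorem row_nine (hg : H59.EP.TwoGen.{0}) (hBr : H839.EP.Br) (hL : St5836) {Q : Type} [Group Q] [Finite Q]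
    (hs : IsSimpleGroup Q) {A : Subgroup Q} {Γ : Subgroup (MulAut Q)} (h : EPT A Γ) {F : Type} [Field F] [Fintype F]
    (hodd : Odd (Fintype.card F)) (m : Model Q (omegaGL (quadFormOdd 4 F)))
    (hres : InOrthogonalResidualClass (m.hat A))
    (hown1 : ∀ p : ℕ, p.Prime → CharP F p → 11 ≤ p →
      HasSoc A (Matrix.ProjectiveSpecialLinearGroup (Fin 2) F) → False)
    (hown2 : Fintype.card F ≠ 3 → ∀ (K : Type) [Field K] [Fintype K], Fintype.card K = Fintype.card F ^ 2 →
      HasSoc A (Matrix.ProjectiveSpecialLinearGroup (Fin 2) K) → False) : False := by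
  obtain ⟨P, p, hP, hp, hcp, hcases⟩ := hL hodd (m.hat A) (m.isMaximalIn h.max) hres
  have hsoc := hasSoc_of_core m hP
  have hodd' := Nat.odd_iff.1 hodd
  rcases hcases with ⟨⟨K, _, _, hK, ⟨e⟩⟩, hq⟩ | ⟨⟨e⟩, hq⟩ | ⟨⟨e⟩, hq, h5, h11⟩ | ⟨⟨e⟩, hq⟩ | ⟨⟨e⟩, h11⟩ | ⟨⟨K, _, _, hK, ⟨e⟩⟩, hq⟩
  · -- `L₂(8)`
    have h13 : 13 ≤ Fintype.card F := by
      rcases hq with ⟨h1, h2⟩ | ⟨h1, h2⟩
      · rw [h1] at hodd' ⊢
        by_contra hlt
        push Not at hlt
        have := hp.two_le
        interval_cases p <;> omega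
      · have h3 : 3 ≤ p := by
          rcases hp.two_le.lt_or_eq with h4 | h4
          · exact h4
          · rw [h1, ← h4] at hodd'; norm_num at hodd'
        rw [h1]
        calc 13 ≤ 3 ^ 3 := by norm_num
          _ ≤ p ^ 3 := Nat.pow_le_pow_left h3 3
    have h1 := index_le hg hs h (hsoc.congr e) (simple_of e hP.simple) (nonab e hP.nonabelian)
      [(2, 3), (3, 3), (7, 1)] (by decide) (by decide) (N := 1512) (by decide) (card_aut_psl8 hK) (by norm_num)
    have h2 := card_nine hodd m h13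
    have h3 : ([(2, 3), (3, 3), (7, 1)].map fun x => H59.EP.gal x.1 x.2).sum = 43 := by decide
    rw [h3] at h1
    norm_num at h1 h2
    omega
  · -- `L₂(17)`
    have h9 : 9 ≤ Fintype.card F := by
      rcases hq with ⟨h1, h2⟩ | ⟨h1, h2⟩
      · rw [h1] at hodd' ⊢
        by_contra hlt
        push Not at hlt
        have := hp.two_le
        interval_cases p <;> omega
      · have h3 : 3 ≤ p := by
          rcases hp.two_le.lt_or_eq with h4 | h4
          · exact h4
          · rw [h1, ← h4] at hodd'; norm_num at hodd'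
        rw [h1]
        calc 9 = 3 ^ 2 := by norm_num
          _ ≤ p ^ 2 := Nat.pow_le_pow_left h3 2
    have h1 := index_le hg hs h (hsoc.congr e) (simple_of e hP.simple) (nonab e hP.nonabelian)
      [(2, 5), (3, 2), (17, 1)] (by decide) (by decide) (N := 4896) (by decide) card_aut_psl17 (by norm_num)
    have h2 := card_nine hodd m h9
    have h3 : ([(2, 5), (3, 2), (17, 1)].map fun x => H59.EP.gal x.1 x.2).sum = 379 := by decide
    rw [h3] at h1
    norm_num at h1 h2
    omega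
  · -- `A₁₀`
    have h3 : 3 ≤ Fintype.card F := by
      have := Fintype.one_lt_card (α := F)
      omega
    obtain ⟨N, hN1, hN2, hN3, ⟨f⟩⟩ := hsoc.congr e
    have h1 := H839.EP.index_le_of_socle_ten hBr h ⟨hN1, hN2, hN3⟩ f
    have hle := (hsoc.congr e).card_le
    rw [card_aut_alt 10 (by norm_num) (by norm_num)] at hle
    have h2 := card_nine hodd m h3
    have h4 := index_bound hle h1
    rw [show Nat.factorial 10 = 3628800 by decide] at h4
    norm_num at h2 h4
    omega
  · -- `A₁₁`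
    have h1 := index_le hg hs h (hsoc.congr e) (simple_of e hP.simple) (nonab e hP.nonabelian)
      [(2, 8), (3, 4), (5, 2), (7, 1), (11, 1)] (by decide) (by decide) (N := 39916800) (by decide)
      (by rw [card_aut_alt 11 (by norm_num) (by norm_num)]; decide) (by norm_num)
    have h2 := card_nine hodd m hq.ge
    have h3 : ([(2, 8), (3, 4), (5, 2), (7, 1), (11, 1)].map fun x => H59.EP.gal x.1 x.2).sum = 417418 := by decide
    rw [h3] at h1
    norm_num at h1 h2
    omega
  · exact hown1 p hp hcp h11 (hsoc.congr e)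
  · exact hown2 hq K hK (hsoc.congr e)

end Cfsg.Agent.H7.EP
end

-- part: H168/EP/Alt
section
prune_inst 0x64306c442b60120000008002c0202034ce0005b000230800d8a10e4002877f220980af40c6a01c03520aa20500310068121804704010000000000400013d068990aac606a348a10c86009f801083180c00000000000000000000000000051004000400002
set_option linter.all false
open scoped Cfsg.Agent.FastGrp

-- part: H168/EP/Cyc
section
/-!
# S3499: the cyclic Sylow criterion (helper168)

`P ≤ N ⊴ A` of prime order `s`, `C_N(P) = P`; `c ∉ A` commutes with `P` and `c ^ s` generates `P`. Then `A ∩ A^c` cannot be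
a two-point stabiliser of an extremely primitive group, if `P` normalises no non-trivial `s'`-subgroup of `N` and some
element of odd order of `N` normalises but does not centralise `P`.
-/

set_option autoImplicit false

namespace Cfsg.Agent.H168.EP

open Subgroup Cfsg.Agent.H284

section

variable {Q : Type*} [Group Q] [Finite Q] {A : Subgroup Q} {Γ : Subgroup (MulAut Q)}

theorem comm_of_cyclic {G : Type*} [Group G] (h : IsCyclic G) (x y : G) : x * y = y * x := by
  obtain ⟨g, hg⟩ := h.exists_generator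
  obtain ⟨i, rfl⟩ := Subgroup.mem_zpowers_iff.1 (hg x)
  obtain ⟨j, rfl⟩ := Subgroup.mem_zpowers_iff.1 (hg y)
  rw [← zpow_add, ← zpow_add, add_comm]

/-- Burnside's transfer theorem -/
theorem eq_of_burnside {s : ℕ} (hs : s.Prime) {M P : Subgroup Q} (hPM : P ≤ M) (hP : Nat.card P = s)
    (hs2 : ¬ s ^ 2 ∣ Nat.card M)
    (hn : ∀ u ∈ M, (∀ y ∈ P, u * y * u⁻¹ ∈ P) → ∀ y ∈ P, u * y = y * u)
    (hF : ∀ L : Subgroup Q, L ≤ M → (∀ y ∈ P, ∀ x ∈ L, y * x * y⁻¹ ∈ L) → ¬ s ∣ Nat.card L → L = ⊥) : M = P := by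
  have hsf : Fact s.Prime := ⟨hs⟩
  have hcard : Nat.card (P.subgroupOf M) = s := by
    rw [Nat.card_congr (Subgroup.subgroupOfEquivOfLe hPM).toEquiv, hP]
  have hsM : s ∣ Nat.card M := by
    rw [← hP]
    exact Subgroup.card_dvd_of_le hPM
  have hfac : (Nat.card M).factorization s = 1 := by
    have h0 : Nat.card M ≠ 0 := Nat.card_pos.ne'
    have h1 : 1 ≤ (Nat.card M).factorization s := (hs.dvd_iff_one_le_factorization h0).1 hsM
    have h2 : ¬ 2 ≤ (Nat.card M).factorization s := by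
      rw [← hs.pow_dvd_iff_le_factorization h0]
      exact hs2
    omega
  let P' : Sylow s M := Sylow.ofCard (P.subgroupOf M) (by rw [hcard, hfac, pow_one])
  have hP' : (P' : Subgroup M) = P.subgroupOf M := rfl
  have hnorm : Subgroup.normalizer ((P' : Subgroup M) : Set M) ≤ Subgroup.centralizer ((P' : Subgroup M) : Set M) := by
    intro u hu
    rw [Subgroup.mem_centralizer_iff]
    intro y hy
    have h1 := hn u u.2 (by
      intro z hz
      have h2 := (Subgroup.mem_normalizer_iff.1 hu ⟨z, hPM hz⟩).1 (by rw [hP']; exact hz)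
      rw [hP'] at h2
      exact h2) y (by rw [hP'] at hy; exact hy)
    exact Subtype.ext h1.symm
  obtain ⟨K, hKn, hcompl, hnd⟩ : ∃ K : Subgroup M, K.Normal ∧ IsComplement' K (P' : Subgroup M) ∧ ¬ s ∣ Nat.card K :=
    ⟨_, MonoidHom.normal_ker _, MonoidHom.ker_transferSylow_isComplement' P' hnorm,
      MonoidHom.not_dvd_card_ker_transferSylow P' hnorm⟩
  have hKL : K.map M.subtype = ⊥ := by
    apply hF
    · rintro _ ⟨x, -, rfl⟩
      exact x.2
    · rintro y hy _ ⟨x, hx, rfl⟩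
      exact ⟨⟨y, hPM hy⟩ * x * ⟨y, hPM hy⟩⁻¹, hKn.conj_mem x hx ⟨y, hPM hy⟩, rfl⟩
    · rw [Subgroup.card_map_of_injective M.subtype_injective]
      exact hnd
  have hKb : K = ⊥ := by
    rwa [Subgroup.map_eq_bot_iff_of_injective _ M.subtype_injective] at hKL
  rw [hKb, Subgroup.isComplement'_bot_left] at hcompl
  refine le_antisymm ?_ hPM
  intro x hx
  have h1 : (⟨x, hx⟩ : M) ∈ (P' : Subgroup M) := by rw [hcompl]; exact Subgroup.mem_top _
  rw [hP'] at h1
  exact h1

/-- `u` normalises `P`, `c` centralises `P`, `[u, c] ∈ P` and `1 ≠ c ^ s ∈ P`: `u` centralises `P`. -/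
theorem comm_of_cyc {s : ℕ} (hs : s.Prime) {P : Subgroup Q} (hP : Nat.card P = s) {c u v : Q}
    (hcP : ∀ y ∈ P, c * y = y * c) (hcs : c ^ s ∈ P) (hcs' : c ^ s ≠ 1) (hu : ∀ y ∈ P, u * y * u⁻¹ ∈ P)
    (hv : v ∈ P) (huv : c⁻¹ * u * c = u * v) : ∀ y ∈ P, u * y = y * u := by
  have hsf : Fact s.Prime := ⟨hs⟩
  have hcyc : IsCyclic P := isCyclic_of_prime_card hP
  have hab : ∀ x ∈ P, ∀ y ∈ P, x * y = y * x := by
    intro x hx y hy
    exact congrArg Subtype.val (comm_of_cyclic hcyc ⟨x, hx⟩ ⟨y, hy⟩)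
  -- the centraliser of `u` in `P`
  let D : Subgroup P :=
    { carrier := {y | u * (y : Q) = y * u}
      one_mem' := by simp only [_root_.Set.mem_ofPred_eq, _root_.OneMemClass.coe_one, _root_.mul_one, _root_.one_mul]
      mul_mem' := by
        intro x y hx hy
        change u * ((x : Q) * y) = x * y * u
        have hx' : u * (x : Q) = x * u := hx
        have hy' : u * (y : Q) = y * u := hy
        rw [← mul_assoc, hx', mul_assoc, hy', mul_assoc]
      inv_mem' := by
        intro x hx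
        change u * (x : Q)⁻¹ = (x : Q)⁻¹ * u
        have hx' : u * (x : Q) = x * u := hx
        rw [mul_inv_eq_iff_eq_mul, mul_assoc, hx', inv_mul_cancel_left] }
  by_contra hcon
  push Not at hcon
  obtain ⟨y0, hy0, hy0'⟩ := hcon
  have hDbot : D = ⊥ := by
    have h1 : Nat.card D ∣ Nat.card P := Subgroup.card_subgroup_dvd_card D
    rw [hP] at h1
    rcases (Nat.dvd_prime hs).1 h1 with h2 | h2
    · exact Subgroup.card_eq_one.1 h2
    · exfalso
      apply hy0'
      have h3 : D = ⊤ := Subgroup.eq_top_of_card_eq D (by rw [h2, hP])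
      have h4 : (⟨y0, hy0⟩ : P) ∈ D := by rw [h3]; exact Subgroup.mem_top _
      exact h4
  have hDtriv : ∀ y ∈ P, u * y = y * u → y = 1 := by
    intro y hy h1
    have h2 : (⟨y, hy⟩ : P) ∈ D := h1
    rw [hDbot, Subgroup.mem_bot] at h2
    exact congrArg Subtype.val h2
  -- `u⁻¹ P u ≤ P`
  have hu' : ∀ y ∈ P, u⁻¹ * y * u ∈ P := by
    intro y hy
    have hinj : Function.Injective (fun y : P => (⟨u * y * u⁻¹, hu y y.2⟩ : P)) := by
      intro a b hab
      have h1 := congrArg Subtype.val hab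
      exact Subtype.ext (by simpa only [_root_.SetLike.coe_eq_coe, _root_.mul_left_inj, _root_.mul_right_inj] using h1)
    obtain ⟨z, hz⟩ := (Finite.injective_iff_surjective.1 hinj) ⟨y, hy⟩
    have h1 : u * (z : Q) * u⁻¹ = y := congrArg Subtype.val hz
    rw [← h1]
    have e : u⁻¹ * (u * (z : Q) * u⁻¹) * u = z := by group
    rw [e]
    exact z.2
  -- the map `y ↦ [u, y]`
  have hinj : Function.Injective
      (fun y : P => (⟨u⁻¹ * (y : Q)⁻¹ * u * y, P.mul_mem (hu' _ (P.inv_mem y.2)) y.2⟩ : P)) := by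
    intro a b hab'
    have h1 : u⁻¹ * (a : Q)⁻¹ * u * a = u⁻¹ * (b : Q)⁻¹ * u * b := congrArg Subtype.val hab'
    have h2 : (b : Q) * (a : Q)⁻¹ = 1 := by
      apply hDtriv _ (P.mul_mem b.2 (P.inv_mem a.2))
      have h3 : (b : Q) * (a : Q)⁻¹ * u = u * (b * (a : Q)⁻¹) := by
        calc (b : Q) * (a : Q)⁻¹ * u = b * u * (u⁻¹ * (a : Q)⁻¹ * u * a) * (a : Q)⁻¹ := by group
          _ = b * u * (u⁻¹ * (b : Q)⁻¹ * u * b) * (a : Q)⁻¹ := by rw [h1]
          _ = _ := by group
      exact h3.symm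
    exact Subtype.ext (mul_inv_eq_one.1 h2).symm
  obtain ⟨y, hy⟩ := (Finite.injective_iff_surjective.1 hinj) ⟨v⁻¹, P.inv_mem hv⟩
  have hy' : u⁻¹ * (y : Q)⁻¹ * u * y = v⁻¹ := congrArg Subtype.val hy
  -- `c y` commutes with `u`
  have h1 : (c * y)⁻¹ * u * (c * y) = u := by
    calc (c * (y : Q))⁻¹ * u * (c * y) = (y : Q)⁻¹ * (c⁻¹ * u * c) * y := by group
      _ = (y : Q)⁻¹ * u * (v * y) := by rw [huv]; group
      _ = (y : Q)⁻¹ * u * (y * v) := by rw [hab v hv y y.2]
      _ = u * (u⁻¹ * (y : Q)⁻¹ * u * y) * v := by group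
      _ = u := by rw [hy']; group
  have h2 : Commute (c * (y : Q)) u := by
    change c * (y : Q) * u = u * (c * y)
    calc c * (y : Q) * u = c * y * ((c * y)⁻¹ * u * (c * y)) := by rw [h1]
      _ = _ := by group
  have h3 : (c * (y : Q)) ^ s = c ^ s := by
    have h4 : Commute c (y : Q) := hcP y y.2
    have h5 : (y : Q) ^ s = 1 := by
      have h6 : y ^ s = 1 := by rw [← hP]; exact pow_card_eq_one'
      exact congrArg Subtype.val h6
    rw [h4.mul_pow, h5, mul_one]
  have h4 := h2.pow_left s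
  rw [h3] at h4
  exact hcs' (hDtriv _ hcs h4.symm)

/-- **the cyclic Sylow criterion** -/
theorem cyc_kill (h : EPT A Γ) {s : ℕ} (hs : s.Prime) {N : Subgroup Q} (hNA : N ≤ A)
    (hNn : ∀ a ∈ A, ∀ n ∈ N, a * n * a⁻¹ ∈ N) (hodd : ∀ a ∈ A, Odd (orderOf a) → a ∈ N) {P : Subgroup Q}
    (hPN : P ≤ N) (hP : Nat.card P = s) (hs2 : ¬ s ^ 2 ∣ Nat.card A)
    (hCP : ∀ x ∈ N, (∀ y ∈ P, x * y = y * x) → x ∈ P)
    (hF : ∀ L : Subgroup Q, L ≤ N → (∀ y ∈ P, ∀ x ∈ L, y * x * y⁻¹ ∈ L) → ¬ s ∣ Nat.card L → L = ⊥)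
    (hU : ∃ u ∈ N, Odd (orderOf u) ∧ (∀ y ∈ P, u * y * u⁻¹ ∈ P) ∧ ∃ y ∈ P, u * y ≠ y * u) {c : Q} (hcA : c ∉ A)
    (hcP : ∀ y ∈ P, c * y = y * c) (hcs : c ^ s ∈ P) (hcs' : c ^ s ≠ 1) : False := by
  have hsf : Fact s.Prime := ⟨hs⟩
  have hcyc : IsCyclic P := isCyclic_of_prime_card hP
  have hcPi : ∀ y ∈ P, c⁻¹ * y * c = y := by
    intro y hy
    rw [mul_assoc, ← hcP y hy, inv_mul_cancel_left]
  set M1 : Subgroup Q := N ⊓ cj c N with hM1
  have hPM1 : P ≤ M1 := by
    intro y hy
    refine mem_inf.2 ⟨hPN hy, mem_cj.2 ?_⟩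
    rw [hcPi y hy]
    exact hPN hy
  have hM1A : M1 ≤ A := inf_le_left.trans hNA
  have hM1P : M1 = P := by
    refine eq_of_burnside hs hPM1 hP (fun h1 => hs2 (h1.trans (Subgroup.card_dvd_of_le hM1A))) ?_
      (fun L hL => hF L (hL.trans inf_le_left))
    intro u hu hun
    have huN : u ∈ N := (mem_inf.1 hu).1
    have huc : c⁻¹ * u * c ∈ N := mem_cj.1 (mem_inf.1 hu).2
    have hv : u⁻¹ * (c⁻¹ * u * c) ∈ P := by
      apply hCP _ (N.mul_mem (N.inv_mem huN) huc)
      intro y hy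
      have h1 : c * y * c⁻¹ = y := by rw [hcP y hy, mul_inv_cancel_right]
      have h2 : c⁻¹ * (u * y * u⁻¹) * c = u * y * u⁻¹ := hcPi _ (hun y hy)
      have h3 : u⁻¹ * (c⁻¹ * u * c) * y * (u⁻¹ * (c⁻¹ * u * c))⁻¹ = y := by
        calc u⁻¹ * (c⁻¹ * u * c) * y * (u⁻¹ * (c⁻¹ * u * c))⁻¹ =
            u⁻¹ * (c⁻¹ * (u * (c * y * c⁻¹) * u⁻¹) * c) * u := by group
          _ = u⁻¹ * (u * y * u⁻¹) * u := by rw [h1, h2]
          _ = y := by group
      exact mul_inv_eq_iff_eq_mul.1 h3
    exact comm_of_cyc hs hP hcP hcs hcs' hun hv (by group)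
  -- `P` is normal in `A ∩ A^c`
  have hPn : ∀ x ∈ A ⊓ cj c A, ∀ y ∈ P, x * y * x⁻¹ ∈ P := by
    intro x hx y hy
    have hxA := (mem_inf.1 hx).1
    have hxc := mem_cj.1 (mem_inf.1 hx).2
    rw [← hM1P]
    refine mem_inf.2 ⟨hNn x hxA y (hPN hy), mem_cj.2 ?_⟩
    have e : c⁻¹ * (x * y * x⁻¹) * c = (c⁻¹ * x * c) * (c⁻¹ * y * c) * (c⁻¹ * x * c)⁻¹ := by group
    rw [e, hcPi y hy]
    exact hNn _ hxc y (hPN hy)
  have hPM0 : P ≤ A ⊓ cj c A := by
    intro y hy
    refine mem_inf.2 ⟨hNA (hPN hy), mem_cj.2 ?_⟩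
    rw [hcPi y hy]
    exact hNA (hPN hy)
  -- the elements of order `s` of `A ∩ A^c` lie in `P`
  have hchar : ∀ x ∈ A ⊓ cj c A, x ^ s = 1 → x ∈ P := by
    intro x hx hxs
    set M0 := A ⊓ cj c A with hM0
    have hcard : Nat.card (P.subgroupOf M0) = s := by
      rw [Nat.card_congr (Subgroup.subgroupOfEquivOfLe hPM0).toEquiv, hP]
    have hs2' : ¬ s ^ 2 ∣ Nat.card M0 := fun h1 => hs2 (h1.trans (Subgroup.card_dvd_of_le inf_le_left))
    have hsM : s ∣ Nat.card M0 := by
      rw [← hP]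
      exact Subgroup.card_dvd_of_le hPM0
    have hfac : (Nat.card M0).factorization s = 1 := by
      have h0 : Nat.card M0 ≠ 0 := Nat.card_pos.ne'
      have h1 : 1 ≤ (Nat.card M0).factorization s := (hs.dvd_iff_one_le_factorization h0).1 hsM
      have h2 : ¬ 2 ≤ (Nat.card M0).factorization s := by
        rw [← hs.pow_dvd_iff_le_factorization h0]
        exact hs2'
      omega
    let P' : Sylow s M0 := Sylow.ofCard (P.subgroupOf M0) (by rw [hcard, hfac, pow_one])
    have hP' : (P' : Subgroup M0) = P.subgroupOf M0 := rfl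
    have hnorm : (P' : Subgroup M0).Normal := by
      refine ⟨fun y hy g => ?_⟩
      rw [hP'] at hy ⊢
      exact hPn g g.2 y hy
    have hpg : IsPGroup s (Subgroup.zpowers (⟨x, hx⟩ : M0)) := by
      rw [IsPGroup]
      rintro ⟨_, k, rfl⟩
      refine ⟨1, ?_⟩
      apply Subtype.ext
      apply Subtype.ext
      change (((⟨x, hx⟩ : M0) ^ k : M0) : Q) ^ s ^ 1 = 1
      rw [pow_one]
      push_cast
      rw [← zpow_natCast, ← zpow_mul, mul_comm, zpow_mul, zpow_natCast, hxs, one_zpow]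
    obtain ⟨R, hR⟩ := hpg.exists_le_sylow
    have hRP : R = P' := by
      have huniq := Sylow.unique_of_normal P' hnorm
      exact (huniq.eq_default R).trans (huniq.eq_default P').symm
    have h1 : (⟨x, hx⟩ : M0) ∈ (P' : Subgroup M0) := by
      rw [← hRP]
      exact hR (Subgroup.mem_zpowers _)
    rw [hP'] at h1
    exact h1
  have hPne : P ≠ ⊥ := by
    intro h1
    rw [h1, Subgroup.card_bot] at hP
    exact hs.one_lt.ne hP
  obtain ⟨u, huN, huo, hun, y, hy, huy⟩ := hU
  have hPs : ∀ y ∈ P, y ^ s = 1 := by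
    intro y hy
    have h6 : (⟨y, hy⟩ : P) ^ s = 1 := by rw [← hP]; exact pow_card_eq_one'
    exact congrArg Subtype.val h6
  have huc : u ∈ cj c A := by
    refine h.norm_aut hcA (K := P) hPM0 ?_ hPne (hNA huN) hun
    intro σ hσ k hk
    apply hchar _ (hσ k (hPM0 hk))
    rw [← map_pow, hPs k hk, map_one]
  have huc' : c⁻¹ * u * c ∈ N := by
    apply hodd _ (mem_cj.1 huc)
    have e : orderOf (c⁻¹ * u * c) = orderOf u := by
      have h1 := orderOf_injective (MulAut.conj c⁻¹).toMonoidHom (MulAut.conj c⁻¹).injective u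
      rw [← h1]
      congr 1
      simp only [_root_.map_inv, _root_.MulEquiv.toMonoidHom_eq_coe, _root_.MonoidHom.coe_coe, _root_.MulAut.inv_apply, _root_.MulAut.conj_symm_apply]
    rw [e]
    exact huo
  have huM1 : u ∈ M1 := mem_inf.2 ⟨huN, mem_cj.2 huc'⟩
  rw [hM1P] at huM1
  apply huy
  exact congrArg Subtype.val (comm_of_cyclic hcyc ⟨u, huM1⟩ ⟨y, hy⟩)

end

end Cfsg.Agent.H168.EP
end

-- part: H168/EP/Perm11
section
/-!
# S3499: elements of order 11 in `S_m`, `11 ≤ m ≤ 13` (helper168)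
-/

set_option autoImplicit false

namespace Cfsg.Agent.H168.EP

open Equiv Equiv.Perm Subgroup

section

variable {m : ℕ} {g : Perm (Fin m)}

theorem isCycle_of_order (hm : m ≤ 13) (hg : orderOf g = 11) : g.IsCycle ∧ g.support.card = 11 := by
  have hp : (orderOf g).Prime := by rw [hg]; norm_num
  obtain ⟨n, hn⟩ := cycleType_prime_order hp
  rw [hg] at hn
  have h1 := sum_cycleType g
  have h2 : g.support.card ≤ m := (Finset.card_le_univ _).trans (by simp only [_root_.Fintype.card_fin, _root_.Std.le_refl])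
  rw [hn, Multiset.sum_replicate, smul_eq_mul] at h1
  have h3 : n = 0 := by omega
  subst h3
  constructor
  · rw [← card_cycleType_eq_one, hn]
    rfl
  · rw [← h1]

theorem odd_sign {x : Perm (Fin m)} (h : Odd (orderOf x)) : sign x = 1 := by
  rcases Int.units_eq_one_or (sign x) with h1 | h1
  · exact h1
  · exfalso
    have h2 := congrArg sign (pow_orderOf_eq_one x)
    rw [map_pow, h1, h.neg_one_pow, map_one] at h2
    exact absurd h2 (by decide)

/-- an even permutation moving at most two points is trivial -/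
theorem eq_one_of_support {x : Perm (Fin m)} (hx : sign x = 1) (h : x.support.card ≤ 2) : x = 1 := by
  have h1 := card_support_ne_one x
  rcases Nat.lt_or_ge x.support.card 2 with h2 | h2
  · rw [← card_support_eq_zero]
    omega
  · exfalso
    have h3 : x.IsSwap := card_support_eq_two.1 (by omega)
    rw [h3.sign_eq] at hx
    exact absurd hx (by decide)

theorem card_compl (hm : m ≤ 13) (hg : orderOf g = 11) : g.supportᶜ.card ≤ 2 := by
  rw [Finset.card_compl, (isCycle_of_order hm hg).2, Fintype.card_fin]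
  omega

/-- the centraliser of `g` in `A_m` -/
theorem mem_zpowers_of_commute (hm : m ≤ 13) (hg : orderOf g = 11) {x : Perm (Fin m)} (hx : sign x = 1)
    (hc : Commute x g) : x ∈ zpowers g := by
  obtain ⟨hcyc, hcard⟩ := isCycle_of_order hm hg
  obtain ⟨h1, h2⟩ := hcyc.commute_iff.1 hc
  obtain ⟨k, hk⟩ := Subgroup.mem_zpowers_iff.1 h2
  have h3 : (g ^ k)⁻¹ * x = 1 := by
    apply eq_one_of_support
    · rw [map_mul, hx, map_inv, map_zpow, odd_sign (by rw [hg]; decide), one_zpow, inv_one, one_mul]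
    · refine le_trans (Finset.card_le_card ?_) (card_compl hm hg)
      intro y hy
      rw [Finset.mem_compl]
      intro hyg
      rw [mem_support] at hy
      apply hy
      have h4 : x y = (g ^ k) y := by
        rw [hk, ofSubtype_apply_of_mem _ hyg]
        rfl
      rw [Perm.mul_apply, h4]
      exact (g ^ k).symm_apply_apply y
  have h4 : x = g ^ k := by
    rw [inv_mul_eq_one] at h3
    exact h3.symm
  rw [h4]
  exact Subgroup.zpow_mem_zpowers _ _

/-- an element of odd order normalising `⟨g⟩`, not centralising it -/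
theorem exists_normaliser (hm : m ≤ 13) (hg : orderOf g = 11) :
    ∃ u : Perm (Fin m), Odd (orderOf u) ∧ (∃ k : ℕ, u * g * u⁻¹ = g ^ k) ∧ u * g * u⁻¹ ≠ g := by
  have hp : (orderOf g).Prime := by rw [hg]; norm_num
  have h3 : orderOf (g ^ 3) = 11 := by
    rw [orderOf_pow, hg]
    rfl
  have hconj : IsConj g (g ^ 3) := by
    rw [isConj_iff_cycleType_eq, (isCycle_of_order hm hg).1.cycleType, (isCycle_of_order hm h3).1.cycleType,
      (isCycle_of_order hm hg).2, (isCycle_of_order hm h3).2]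
  obtain ⟨w, hw⟩ := isConj_iff.1 hconj
  have hpow : ∀ j : ℕ, w ^ j * g * (w ^ j)⁻¹ = g ^ 3 ^ j := by
    intro j
    induction j with
    | zero => simp
    | succ j ih =>
      have e : w ^ (j + 1) * g * (w ^ (j + 1))⁻¹ = w * (w ^ j * g * (w ^ j)⁻¹) * w⁻¹ := by
        rw [pow_succ']
        group
      rw [e, ih, ← conj_pow, hw, ← pow_mul, pow_succ']
  obtain ⟨a, b, hb, hab⟩ : ∃ a b : ℕ, Odd b ∧ orderOf w = 2 ^ a * b := by
    obtain ⟨a, b, hb, hab⟩ := Nat.exists_eq_two_pow_mul_odd (orderOf_pos w).ne'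
    exact ⟨a, b, hb, hab⟩
  refine ⟨w ^ 2 ^ a, ?_, ⟨3 ^ 2 ^ a, hpow _⟩, ?_⟩
  · rw [orderOf_pow, hab, Nat.gcd_eq_right (Dvd.intro _ rfl), Nat.mul_div_cancel_left _ (by positivity)]
    exact hb
  · rw [hpow]
    intro h1
    have h4 : g ^ (3 ^ 2 ^ a - 1) = 1 := by
      have h5 : g ^ (3 ^ 2 ^ a) = g ^ (3 ^ 2 ^ a - 1) * g := by
        rw [← pow_succ, Nat.sub_add_cancel (Nat.one_le_pow _ _ (by norm_num))]
      rw [h1] at h5
      exact (mul_eq_right.1 h5.symm)
    have h5 : 11 ∣ 3 ^ 2 ^ a - 1 := by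
      rw [← hg]
      exact orderOf_dvd_of_pow_eq_one h4
    have h6 : (3 : ZMod 11) ^ 2 ^ a = 1 := by
      have h7 : ((3 ^ 2 ^ a - 1 : ℕ) : ZMod 11) = 0 := (ZMod.natCast_eq_zero_iff _ _).2 h5
      rw [Nat.cast_sub (Nat.one_le_pow _ _ (by norm_num))] at h7
      push_cast at h7
      exact sub_eq_zero.1 h7
    have h7 : orderOf (3 : ZMod 11) = 5 := by
      have : Fact (Nat.Prime 5) := ⟨by norm_num⟩
      exact orderOf_eq_prime (by decide) (by decide)
    have h8 : 5 ∣ 2 ^ a := by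
      rw [← h7]
      exact orderOf_dvd_of_pow_eq_one h6
    have h9 := (Nat.Prime.dvd_of_dvd_pow (by norm_num : Nat.Prime 5) h8)
    norm_num at h9

/-- an `l`-group, `l ≠ 11`, normalised by `g`, of even permutations -/
theorem pgroup_eq_bot (hm : m ≤ 13) (hg : orderOf g = 11) {l : ℕ} (hl : l.Prime) (hl11 : l ≠ 11)
    {R : Subgroup (Perm (Fin m))} (hR : IsPGroup l R) (hs : ∀ x ∈ R, sign x = 1)
    (hgR : ∀ i : ℕ, ∀ x ∈ R, g ^ i * x * (g ^ i)⁻¹ ∈ R) : R = ⊥ := by
  have hlf : Fact l.Prime := ⟨hl⟩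
  obtain ⟨hcyc, hcard⟩ := isCycle_of_order hm hg
  by_contra hne
  obtain ⟨r, hr, hr1⟩ : ∃ r ∈ R, r ≠ 1 := by
    by_contra hcon
    push Not at hcon
    exact hne ((Subgroup.eq_bot_iff_forall _).2 hcon)
  -- a point of the support of `g` moved by `R`
  obtain ⟨x, hx, hrx⟩ : ∃ x ∈ g.support, r x ≠ x := by
    by_contra hcon
    push Not at hcon
    apply hr1
    apply eq_one_of_support (hs r hr)
    refine le_trans (Finset.card_le_card ?_) (card_compl hm hg)
    intro y hy
    rw [Finset.mem_compl]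
    intro hyg
    exact (mem_support.1 hy) (hcon y hyg)
  have hg11 : g ^ 11 = 1 := by rw [← hg]; exact pow_orderOf_eq_one g
  by_cases hA : ∃ s ∈ R, ∃ i : ℕ, ¬ 11 ∣ i ∧ s x = (g ^ i) x
  · obtain ⟨s, hsR, i, hi, hsi⟩ := hA
    -- the orbit of `x` contains the support of `g`
    have h1 : ∀ j : ℕ, ∃ t ∈ R, t x = (g ^ (i * j)) x := by
      intro j
      induction j with
      | zero => exact ⟨1, R.one_mem, by simp⟩
      | succ j ih =>
        obtain ⟨t, ht, htx⟩ := ih
        refine ⟨g ^ (i * j) * s * (g ^ (i * j))⁻¹ * t, R.mul_mem (hgR _ s hsR) ht, ?_⟩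
        have e : (g ^ (i * j))⁻¹ ((g ^ (i * j)) x) = x := (g ^ (i * j)).symm_apply_apply x
        rw [Perm.mul_apply, Perm.mul_apply, Perm.mul_apply, htx, e, hsi, ← Perm.mul_apply, ← pow_add, mul_add, mul_one]
    have h2 : ∀ k : ℕ, ∃ t ∈ R, t x = (g ^ k) x := by
      intro k
      obtain ⟨j, hj⟩ : ∃ j : ℕ, i * j ≡ k [MOD 11] := by
        have hcop : Nat.Coprime i 11 := ((Nat.Prime.coprime_iff_not_dvd (by norm_num)).2 hi).symm
        obtain ⟨j, _, hj⟩ := Nat.exists_mul_mod_eq_one_of_coprime hcop (by norm_num)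
        refine ⟨j * k, ?_⟩
        have : i * j ≡ 1 [MOD 11] := hj
        have h3 := this.mul_right k
        rw [one_mul, mul_assoc] at h3
        exact h3
      obtain ⟨t, ht, htx⟩ := h1 j
      refine ⟨t, ht, ?_⟩
      rw [htx]
      have h3 : g ^ (i * j) = g ^ k := by
        rw [pow_eq_pow_iff_modEq, hg]
        exact hj
      rw [h3]
    have h3 : (g.support : Set (Fin m)) ⊆ MulAction.orbit R x := by
      intro y hy
      have hsc : g.SameCycle x y := hcyc.sameCycle (mem_support.1 hx) (mem_support.1 hy)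
      obtain ⟨k, _, hk⟩ := hsc.exists_pow_eq'
      obtain ⟨t, ht, htx⟩ := h2 k
      refine ⟨⟨t, ht⟩, ?_⟩
      change t x = y
      rw [htx, hk]
    have h4 : 11 ≤ Nat.card (MulAction.orbit R x) := by
      rw [Nat.card_coe_set_eq, ← hcard, ← Set.ncard_coe_finset]
      exact Set.ncard_le_ncard h3 (Set.toFinite _)
    have h5 : Nat.card (MulAction.orbit R x) ≤ 13 := by
      refine le_trans ?_ hm
      have h6 := Nat.card_le_card_of_injective (Subtype.val : MulAction.orbit R x → Fin m) Subtype.val_injective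
      rwa [Nat.card_eq_fintype_card (α := Fin m), Fintype.card_fin] at h6
    obtain ⟨n, hn⟩ := hR.card_orbit x
    have h6 : l = 13 ∧ n = 1 := by
      rw [hn] at h4 h5
      have h8 : n ≠ 0 := by
        rintro rfl
        rw [pow_zero] at h4
        omega
      have h9 : l ∣ l ^ n := dvd_pow_self l h8
      obtain ⟨v, hv⟩ : ∃ v, v = l ^ n := ⟨_, rfl⟩
      rw [← hv] at h4 h5 h9
      interval_cases v
      · exact absurd ((Nat.prime_dvd_prime_iff_eq hl (by norm_num)).1 h9) hl11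
      · exfalso
        have h10 : 2 ∣ l := Nat.prime_two.dvd_of_dvd_pow (n := n) (by rw [← hv]; norm_num)
        have h11 : 3 ∣ l := Nat.prime_three.dvd_of_dvd_pow (n := n) (by rw [← hv]; norm_num)
        have h12 := (Nat.prime_dvd_prime_iff_eq Nat.prime_two hl).1 h10
        have h13 := (Nat.prime_dvd_prime_iff_eq Nat.prime_three hl).1 h11
        omega
      · have h10 := (Nat.prime_dvd_prime_iff_eq hl (by norm_num)).1 h9
        refine ⟨h10, ?_⟩
        rw [h10] at hv
        have h11 : 13 ^ 1 = 13 ^ n := by rw [pow_one]; exact hv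
        exact (Nat.pow_right_injective (by norm_num) h11).symm
    obtain ⟨rfl, rfl⟩ := h6
    have hcR : Nat.card R = 13 := by
      obtain ⟨a, ha⟩ := IsPGroup.iff_card.1 hR
      have h7 : Nat.card R ∣ (13 : ℕ).factorial := by
        refine (Subgroup.card_subgroup_dvd_card R).trans ?_
        rw [Nat.card_perm, Nat.card_eq_fintype_card, Fintype.card_fin]
        exact Nat.factorial_dvd_factorial hm
      have h8 : 13 ∣ Nat.card R := by
        have h9 := (MulAction.stabilizer R x).index_dvd_card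
        rw [MulAction.index_stabilizer, ← Nat.card_coe_set_eq, hn, pow_one] at h9
        exact h9
      have h9 : a = 1 := by
        rw [ha] at h7 h8
        have h10 : a < 2 := by
          by_contra hcon
          have h11 : 13 ^ 2 ∣ 13 ^ a := Nat.pow_dvd_pow _ (by omega)
          exact absurd (h11.trans h7) (by decide)
        have h11 : a ≠ 0 := by
          rintro rfl
          norm_num at h8
        omega
      rw [ha, h9, pow_one]
    -- a fixed point of `g` on `R \ {1}`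
    have hf11 : Fact (Nat.Prime 11) := ⟨by norm_num⟩
    let f : Function.End R := fun y => ⟨g * y * g⁻¹, by simpa using hgR 1 y y.2⟩
    have hfp : ∀ k : ℕ, ∀ y : R, (((f ^ k) y : R) : Perm (Fin m)) = g ^ k * y * (g ^ k)⁻¹ := by
      intro k
      induction k with
      | zero =>
        intro y
        simp
        rfl
      | succ k ih =>
        intro y
        have e : (f ^ (k + 1)) y = (f ^ k) (f y) := by
          rw [pow_succ]
          rfl
        rw [e, ih, pow_succ]
        change g ^ k * (g * y * g⁻¹) * (g ^ k)⁻¹ = _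
        group
    have hf : f ^ 11 ^ 1 = 1 := by
      funext y
      apply Subtype.ext
      rw [hfp, pow_one, hg11]
      simp
      rfl
    classical
    let : Fintype R := Fintype.ofFinite _
    have h7 := card_fixedPoints_modEq hf
    rw [← Nat.card_eq_fintype_card, hcR] at h7
    obtain ⟨y, hy⟩ : ∃ y : f.fixedPoints, ((y : R) : Perm (Fin m)) ≠ 1 := by
      by_contra hcon
      push Not at hcon
      have h8 : Fintype.card f.fixedPoints ≤ 1 := by
        rw [Fintype.card_le_one_iff]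
        intro a b
        apply Subtype.ext
        apply Subtype.ext
        rw [hcon a, hcon b]
      have h9 : Fintype.card f.fixedPoints = 0 ∨ Fintype.card f.fixedPoints = 1 := by omega
      rcases h9 with h9 | h9 <;> rw [h9] at h7 <;> exact absurd h7 (by decide)
    have hyc : g * (y : R) * g⁻¹ = ((y : R) : Perm (Fin m)) := congrArg Subtype.val y.2
    have hyz := mem_zpowers_of_commute hm hg (hs _ (y : R).2) (mul_inv_eq_iff_eq_mul.1 hyc).symm
    have h8 : orderOf ((y : R) : Perm (Fin m)) ∣ 11 := by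
      rw [← hg]
      exact orderOf_dvd_of_mem_zpowers hyz
    have h9 : orderOf ((y : R) : Perm (Fin m)) ∣ 13 := by
      rw [Subgroup.orderOf_coe, ← hcR]
      exact _root_.orderOf_dvd_natCard _
    have h10 : orderOf ((y : R) : Perm (Fin m)) ∣ 1 := by
      have := Nat.dvd_gcd h8 h9
      exact this
    exact hy (orderOf_eq_one_iff.1 (Nat.dvd_one.1 h10))
  · -- 22 points
    push Not at hA
    have h1 : Function.Injective (fun p : Fin 11 × Fin 2 => (g ^ (p.1 : ℕ)) ((r ^ (p.2 : ℕ)) x)) := by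
      rintro ⟨i, a⟩ ⟨j, b⟩ he
      have he' : (g ^ (i : ℕ)) ((r ^ (a : ℕ)) x) = (g ^ (j : ℕ)) ((r ^ (b : ℕ)) x) := he
      have hi := i.2
      have hj := j.2
      have h3 : (r ^ (a : ℕ)) x = (g ^ (11 - (i : ℕ) + j)) ((r ^ (b : ℕ)) x) := by
        have h4 := congrArg (g ^ (11 - (i : ℕ))) he'
        have e1 : ∀ (k : ℕ) (y : Fin m), (g ^ (11 - (i : ℕ))) ((g ^ k) y) = (g ^ (11 - (i : ℕ) + k)) y := by
          intro k y
          rw [pow_add, Perm.mul_apply]
        rw [e1, e1, Nat.sub_add_cancel hi.le, hg11, one_apply] at h4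
        exact h4
      have h4 : 11 ∣ 11 - (i : ℕ) + j := by
        by_contra hcon
        refine hA ((g ^ (11 - (i : ℕ) + j) * r ^ (b : ℕ) * (g ^ (11 - (i : ℕ) + j))⁻¹)⁻¹ * r ^ (a : ℕ)) ?_ _ hcon ?_
        · exact R.mul_mem (R.inv_mem (hgR _ _ (R.pow_mem hr _))) (R.pow_mem hr _)
        · rw [Perm.mul_apply, h3, ← Perm.mul_apply, ← Perm.mul_apply]
          congr 1
          group
      have h5 : (i : ℕ) = j := by omega
      have h6 : i = j := Fin.ext h5
      subst h6
      have h7 : (r ^ (a : ℕ)) x = (r ^ (b : ℕ)) x := (g ^ (i : ℕ)).injective he'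
      have h8 : a = b := by
        fin_cases a <;> fin_cases b <;> simp only [_root_.pow_zero, _root_.Equiv.Perm.coe_one, _root_.id_eq, _root_.Fin.zero_eta, _root_.Fin.isValue, _root_.pow_one, _root_.Fin.mk_one, _root_.zero_ne_one, _root_.one_ne_zero] at h7 ⊢
        · exact hrx h7.symm
        · exact hrx h7
      rw [h8]
    have h2 := Fintype.card_le_of_injective _ h1
    simp only [_root_.Fintype.card_prod, _root_.Fintype.card_fin, _root_.Nat.reduceMul] at h2
    omega

/-- **no subgroup of order prime to 11 is normalised by `g`** -/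
theorem inv_eq_bot (hm : m ≤ 13) (hg : orderOf g = 11) {L : Subgroup (Perm (Fin m))} (hs : ∀ x ∈ L, sign x = 1)
    (hL : ∀ x ∈ L, g * x * g⁻¹ ∈ L) (h11 : ¬ 11 ∣ Nat.card L) : L = ⊥ := by
  by_contra hne
  have hcard : Nat.card L ≠ 1 := fun h => hne (Subgroup.card_eq_one.1 h)
  obtain ⟨l, hl, hlL⟩ := Nat.exists_prime_and_dvd hcard
  have hlf : Fact l.Prime := ⟨hl⟩
  have hl11 : l ≠ 11 := by
    rintro rfl
    exact h11 hlL
  have hgn : g ∈ Subgroup.normalizer (L : Set (Perm (Fin m))) := by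
    rw [Subgroup.mem_normalizer_iff]
    intro x
    refine ⟨hL x, fun hx => ?_⟩
    have hpow : ∀ k : ℕ, ∀ y ∈ L, g ^ k * y * (g ^ k)⁻¹ ∈ L := by
      intro k
      induction k with
      | zero => intro y hy; simpa using hy
      | succ k ih =>
        intro y hy
        have e : g ^ (k + 1) * y * (g ^ (k + 1))⁻¹ = g * (g ^ k * y * (g ^ k)⁻¹) * g⁻¹ := by
          rw [pow_succ']
          group
        rw [e]
        exact hL _ (ih y hy)
    have h1 := hpow 10 _ hx
    have hg11 : g ^ 11 = 1 := by rw [← hg]; exact pow_orderOf_eq_one g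
    have e : g ^ 10 * (g * x * g⁻¹) * (g ^ 10)⁻¹ = g ^ 11 * x * (g ^ 11)⁻¹ := by group
    rw [e, hg11, one_mul, inv_one, mul_one] at h1
    exact h1
  obtain ⟨R, hR⟩ := Cfsg.Agent.S0025.exists_invariant_sylow (zpowers g) L (by
      rw [Subgroup.zpowers_le]
      exact hgn) (by
      rw [Nat.card_zpowers, hg]
      exact (Nat.Prime.coprime_iff_not_dvd (by norm_num)).2 h11) (Or.inl inferInstance) l
  have h1 : (R : Subgroup L).map L.subtype = ⊥ := by
    refine pgroup_eq_bot hm hg hl hl11 (R.isPGroup'.map _) ?_ ?_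
    · rintro _ ⟨x, _, rfl⟩
      exact hs _ x.2
    · intro i x hx
      have h2 : g ^ i ∈ Subgroup.normalizer (((R : Subgroup L).map L.subtype : Subgroup (Perm (Fin m))) : Set (Perm (Fin m))) :=
        hR (Subgroup.pow_mem _ (Subgroup.mem_zpowers g) i)
      exact (Subgroup.mem_normalizer_iff.1 h2 x).1 hx
  rw [Subgroup.map_eq_bot_iff_of_injective _ L.subtype_injective] at h1
  have h2 := R.card_eq_multiplicity
  rw [h1, Subgroup.card_bot] at h2
  have h3 : (Nat.card L).factorization l = 0 := by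
    by_contra hcon
    have h4 : 1 < l ^ (Nat.card L).factorization l := Nat.one_lt_pow hcon hl.one_lt
    omega
  have h4 := (hl.dvd_iff_one_le_factorization Nat.card_pos.ne').1 hlL
  omega

end

end Cfsg.Agent.H168.EP
end

-- part: H168/EP/Alt
section
/-!
# S3499: `soc(A) = A_11, A_12, A_13` and an element of order 121 (helper168)
-/

set_option autoImplicit false

namespace Cfsg.Agent.H168.EP

open Equiv Equiv.Perm Subgroup Cfsg.Agent.H284 Cfsg.Agent.H419.EP Cfsg.Agent.H839.EP

variable {Q : Type*} [Group Q] [Finite Q] {A : Subgroup Q} {Γ : Subgroup (MulAut Q)}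

/-- a cyclic group of order 121 as Sylow 11-subgroup -/
theorem exists_root {c y : Q} (hc : orderOf c = 121) (h11 : ¬ 11 ^ 3 ∣ Nat.card Q) (hy : orderOf y = 11) :
    ∃ d : Q, orderOf d = 121 ∧ d * y = y * d ∧ d ^ 11 ∈ zpowers y ∧ d ^ 11 ≠ 1 := by
  have hf11 : Fact (Nat.Prime 11) := ⟨by norm_num⟩
  have hfac : (Nat.card Q).factorization 11 = 2 := by
    have h0 : Nat.card Q ≠ 0 := Nat.card_pos.ne'
    have h1 : 2 ≤ (Nat.card Q).factorization 11 := by
      rw [← (Nat.Prime.pow_dvd_iff_le_factorization (by norm_num) h0), show 11 ^ 2 = 121 by norm_num, ← hc]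
      exact _root_.orderOf_dvd_natCard c
    have h2 : ¬ 3 ≤ (Nat.card Q).factorization 11 := by
      rw [← (Nat.Prime.pow_dvd_iff_le_factorization (by norm_num) h0)]
      exact h11
    omega
  let S : Sylow 11 Q := Sylow.ofCard (zpowers c) (by rw [Nat.card_zpowers, hc, hfac]; norm_num)
  have hS : (S : Subgroup Q) = zpowers c := rfl
  have hpg : IsPGroup 11 (zpowers y) := IsPGroup.of_card (n := 1) (by rw [Nat.card_zpowers, hy, pow_one])
  obtain ⟨R, hR⟩ := hpg.exists_le_sylow
  obtain ⟨q, hq⟩ := MulAction.exists_smul_eq Q S R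
  have h1 : y ∈ (R : Subgroup Q) := hR (mem_zpowers y)
  rw [← hq, Sylow.coe_subgroup_smul, hS, Subgroup.mem_pointwise_smul_iff_inv_smul_mem] at h1
  obtain ⟨k, hk⟩ := Subgroup.mem_zpowers_iff.1 h1
  have hyk : y = (q * c * q⁻¹) ^ k := by
    rw [conj_zpow, hk]
    change y = q * ((MulAut.conj q)⁻¹ y) * q⁻¹
    rw [MulAut.conj_inv_apply]
    group
  have hd : orderOf (q * c * q⁻¹) = 121 := by
    have h1 := orderOf_injective (MulAut.conj q).toMonoidHom (MulAut.conj q).injective c
    rw [← hc, ← h1]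
    rfl
  set d := q * c * q⁻¹ with hdd
  have hd11 : orderOf (d ^ 11) = 11 := by
    rw [orderOf_pow, hd]
    rfl
  have h2 : (11 : ℤ) ∣ k := by
    have h3 : d ^ (k * 11) = 1 := by
      rw [zpow_mul, ← hyk]
      have h4 := pow_orderOf_eq_one y
      rw [hy] at h4
      exact_mod_cast h4
    have h4 : (121 : ℤ) ∣ k * 11 := by
      have h5 := orderOf_dvd_iff_zpow_eq_one.2 h3
      rw [hd] at h5
      exact_mod_cast h5
    omega
  obtain ⟨j, rfl⟩ := h2
  have h3 : y = (d ^ 11) ^ j := by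
    rw [hyk, zpow_mul]
    norm_cast
  have h4 : zpowers y = zpowers (d ^ 11) := by
    apply Subgroup.eq_of_le_of_card_ge
    · rw [zpowers_le, h3]
      exact Subgroup.zpow_mem_zpowers _ _
    · rw [Nat.card_zpowers, Nat.card_zpowers, hd11, hy]
  refine ⟨d, hd, ?_, ?_, ?_⟩
  · rw [hyk]
    exact ((Commute.refl d).zpow_right _).eq
  · rw [h4]
    exact mem_zpowers _
  · intro h5
    rw [h5, orderOf_one] at hd11
    omega

/-- **the kill**: `soc(A) = A_m`, `11 ≤ m ≤ 13`, the Sylow 11-subgroups of `Q` are cyclic of order 121. -/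
theorem kill_121 (h : EPT A Γ) {m : ℕ} (hS : HasSoc A (alternatingGroup (Fin m))) (hm1 : 11 ≤ m) (hm : m ≤ 13) {c : Q}
    (hc : orderOf c = 121) (h11 : ¬ 11 ^ 3 ∣ Nat.card Q) : False := by
  have hf11 : Fact (Nat.Prime 11) := ⟨by norm_num⟩
  obtain ⟨N, hNA, hNn, hNC, ⟨e⟩⟩ := hS
  have hSoc : Soc A N := ⟨hNA, hNn, hNC⟩
  obtain ⟨ρ, hρ⟩ := exists_rho hSoc h (by omega) e
  -- the permutation representation of `A`
  let φ : A →* Perm (Fin m) := ρ.comp (conjA h)
  have hφe : ∀ x : N, φ ⟨x, hNA x.2⟩ = e x := fun x => hρ.con _ x rfl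
  have hφ : Function.Injective φ := by
    rw [injective_iff_map_eq_one]
    intro a ha
    have h1 : conjA h a = 1 := hρ.inj (ha.trans (map_one ρ).symm)
    apply Subtype.ext
    apply hNC a a.2
    intro n _
    have h2 : MulAut.conj (a : Q) = 1 := congrArg Subtype.val h1
    have h3 := DFunLike.congr_fun h2 n
    rw [MulAut.conj_apply] at h3
    exact mul_inv_eq_iff_eq_mul.1 h3
  have hcA : Nat.card A ∣ (13 : ℕ).factorial := by
    refine (Subgroup.card_dvd_of_injective φ hφ).trans ?_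
    rw [Nat.card_perm, Nat.card_eq_fintype_card, Fintype.card_fin]
    exact Nat.factorial_dvd_factorial hm
  -- `P`
  have hcN : Nat.card N = Nat.card (alternatingGroup (Fin m)) := Nat.card_congr e.toEquiv
  have h11N : 11 ∣ Nat.card N := by
    have : Nontrivial (Fin m) := Fin.nontrivial_iff_two_le.2 (by omega)
    have h1 := two_mul_nat_card_alternatingGroup (α := Fin m)
    rw [Nat.card_perm, Nat.card_eq_fintype_card (α := Fin m), Fintype.card_fin, ← hcN] at h1
    have h2 : 11 ∣ m.factorial := (Nat.Prime.dvd_factorial (by norm_num)).2 hm1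
    rw [← h1] at h2
    exact (Nat.Coprime.dvd_of_dvd_mul_left (by norm_num) h2)
  obtain ⟨x, hx⟩ := exists_prime_orderOf_dvd_card' 11 h11N
  set g : Perm (Fin m) := ((e x : alternatingGroup (Fin m)) : Perm (Fin m)) with hg
  have hgo : orderOf g = 11 := by
    rw [hg, Subgroup.orderOf_coe, MulEquiv.orderOf_eq, hx]
  set y : Q := ((x : N) : Q) with hy
  have hyo : orderOf y = 11 := by rw [hy, Subgroup.orderOf_coe, hx]
  obtain ⟨d, hd, hdy, hd1, hd2⟩ := exists_root hc h11 hyo
  have hyA : y ∈ A := hNA x.2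
  have hφy : φ ⟨y, hyA⟩ = g := hφe x
  have hφeq : ∀ a b : A, φ a = φ b → (a : Q) = b := fun a b hab => congrArg Subtype.val (hφ hab)
  refine cyc_kill h (s := 11) (by norm_num) hNA hNn ?_ (P := zpowers y) ?_ ?_ ?_ ?_ ?_ ?_ (c := d) ?_ ?_ hd1 hd2
  · -- elements of odd order
    intro a ha hao
    have h1 : Odd (orderOf (φ ⟨a, ha⟩)) := by
      rw [orderOf_injective φ hφ, Subgroup.orderOf_mk]
      exact hao
    have h2 : φ ⟨a, ha⟩ ∈ alternatingGroup (Fin m) := mem_alternatingGroup.2 (odd_sign h1)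
    have h3 := hφe (e.symm ⟨_, h2⟩)
    rw [e.apply_symm_apply] at h3
    have h4 := hφeq _ _ h3
    change ((e.symm ⟨_, h2⟩ : N) : Q) = a at h4
    rw [← h4]
    exact (e.symm ⟨_, h2⟩).2
  · rw [zpowers_le]
    exact x.2
  · rw [Nat.card_zpowers, hyo]
  · intro h1
    exact absurd (h1.trans hcA) (by decide)
  · -- the centraliser of `P`
    intro z hz hzP
    have h1 : Commute ((e ⟨z, hz⟩ : alternatingGroup (Fin m)) : Perm (Fin m)) g := by
      have h2 : (⟨z, hz⟩ : N) * x = x * ⟨z, hz⟩ := Subtype.ext (hzP y (mem_zpowers y))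
      have h3 := congrArg (fun w : N => ((e w : alternatingGroup (Fin m)) : Perm (Fin m))) h2
      simp only [map_mul, Subgroup.coe_mul] at h3
      exact h3
    have h2 := mem_zpowers_of_commute hm hgo (mem_alternatingGroup.1 (e ⟨z, hz⟩).2) h1
    obtain ⟨k, hk⟩ := Subgroup.mem_zpowers_iff.1 h2
    have h3 : φ ⟨z, hNA hz⟩ = φ (⟨y, hyA⟩ ^ k) := by
      rw [map_zpow, hφy, hk]
      exact hφe ⟨z, hz⟩
    have h4 := hφeq _ _ h3
    change z = _ at h4
    rw [h4]
    exact Subgroup.zpow_mem_zpowers y k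
  · -- invariant subgroups
    intro L hLN hL h11L
    have hLA : L ≤ A := hLN.trans hNA
    have h1 : (L.subgroupOf A).map φ = ⊥ := by
      apply inv_eq_bot hm hgo
      · rintro _ ⟨w, hw, rfl⟩
        have h2 := hφe ⟨w, hLN hw⟩
        change φ w = _ at h2
        rw [h2]
        exact mem_alternatingGroup.1 (e ⟨w, hLN hw⟩).2
      · rintro _ ⟨w, hw, rfl⟩
        refine ⟨⟨y, hyA⟩ * w * ⟨y, hyA⟩⁻¹, ?_, ?_⟩
        · exact hL y (mem_zpowers y) w hw
        · rw [map_mul, map_mul, map_inv, hφy]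
      · rw [Subgroup.card_map_of_injective hφ, Nat.card_congr (Subgroup.subgroupOfEquivOfLe hLA).toEquiv]
        exact h11L
    rw [Subgroup.map_eq_bot_iff_of_injective _ hφ, Subgroup.subgroupOf_eq_bot] at h1
    exact h1.eq_bot_of_le hLA
  · -- the normaliser
    obtain ⟨u, huo, ⟨k, huk⟩, hun⟩ := exists_normaliser hm hgo
    have hus : u ∈ alternatingGroup (Fin m) := mem_alternatingGroup.2 (odd_sign huo)
    set v : N := e.symm ⟨u, hus⟩ with hv
    have hev : e v = ⟨u, hus⟩ := e.apply_symm_apply _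
    have hφv : φ ⟨v, hNA v.2⟩ = u := by rw [hφe v, hev]
    have hvk : (v : Q) * y * (v : Q)⁻¹ = y ^ k := by
      have h1 : φ (⟨v, hNA v.2⟩ * ⟨y, hyA⟩ * ⟨v, hNA v.2⟩⁻¹) = φ (⟨y, hyA⟩ ^ k) := by
        rw [map_mul, map_mul, map_inv, map_pow, hφv, hφy, huk]
      exact hφeq _ _ h1
    refine ⟨v, v.2, ?_, ?_, y, mem_zpowers y, ?_⟩
    · have h1 : orderOf (v : Q) = orderOf u := by
        rw [Subgroup.orderOf_coe, ← MulEquiv.orderOf_eq e, hev, Subgroup.orderOf_mk]
      rw [h1]
      exact huo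
    · intro z hz
      obtain ⟨j, rfl⟩ := Subgroup.mem_zpowers_iff.1 hz
      rw [← conj_zpow, hvk, ← zpow_natCast, ← zpow_mul]
      exact Subgroup.zpow_mem_zpowers y _
    · intro h1
      apply hun
      have h2 : φ (⟨v, hNA v.2⟩ * ⟨y, hyA⟩) = φ (⟨y, hyA⟩ * ⟨v, hNA v.2⟩) := congrArg φ (Subtype.ext h1)
      rw [map_mul, map_mul, hφv, hφy] at h2
      rw [h2, mul_inv_cancel_right]
  · intro hdA
    have h1 : orderOf (⟨d, hdA⟩ : A) ∣ Nat.card A := _root_.orderOf_dvd_natCard _
    rw [Subgroup.orderOf_mk, hd] at h1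
    exact absurd (h1.trans hcA) (by decide)
  · intro z hz
    obtain ⟨j, rfl⟩ := Subgroup.mem_zpowers_iff.1 hz
    exact ((show Commute d y from hdy).zpow_right j).eq

end Cfsg.Agent.H168.EP
end
end

-- part: H212/EP/Bound
section
prune_inst 0x10000000400002
set_option linter.all false
open scoped Cfsg.Agent.FastGrp

-- part: H212/EP/PCount
section
/-!
# Crude bound for the number of `p`-subgroups
-/

set_option autoImplicit false

namespace Cfsg.Agent.H212.EP

open Subgroup

/-- `∏_{i < v} (1 + p ^ i)` -/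
def cr (p : ℕ) : ℕ → ℕ
  | 0 => 1
  | v + 1 => cr p v * (1 + p ^ v)

theorem cr_mono {p v w : ℕ} (h : v ≤ w) : cr p v ≤ cr p w := by
  induction h with
  | refl => exact le_rfl
  | step _ ih => exact ih.trans (Nat.le_mul_of_pos_right _ (by positivity))

/-- the number of subgroups of a group of order `p ^ v` is at most `∏_{i < v} (1 + p ^ i)` -/
theorem card_subgroup_le {p : ℕ} (hp : p.Prime) : ∀ (v : ℕ) (P : Type*) [Group P], Nat.card P = p ^ v →
    Nat.card (Subgroup P) ≤ cr p v := by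
  intro v
  induction v with
  | zero =>
    intro P _ hP
    have : Finite P := Nat.finite_of_card_ne_zero (by rw [hP]; positivity)
    have h1 : Nat.card P = 1 := by rw [hP]; rfl
    have : Subsingleton P := (Nat.card_eq_one_iff_unique.1 h1).1
    have : Subsingleton (Subgroup P) := inferInstance
    have h2 : Nat.card (Subgroup P) ≤ 1 := Finite.card_le_one_iff_subsingleton.2 this
    exact h2
  | succ v ih =>
    intro P _ hP
    have : Finite P := Nat.finite_of_card_ne_zero (by rw [hP]; exact pow_ne_zero _ hp.ne_zero)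
    have hfp : Fact p.Prime := ⟨hp⟩
    obtain ⟨K, hK⟩ := Sylow.exists_subgroup_card_pow_prime p (n := v) (show p ^ v ∣ Nat.card P by
      rw [hP]; exact pow_dvd_pow _ (Nat.le_succ v))
    have hKi : K.index = p := by
      have h1 := K.card_mul_index
      rw [hK, hP, pow_succ] at h1
      exact Nat.eq_of_mul_eq_mul_left (pow_pos hp.pos v) h1
    have hPp : IsPGroup p P := IsPGroup.of_card hP
    have hKn : K.Normal := by
      apply Subgroup.normal_of_index_eq_minFac_card
      rw [hKi, hP, Nat.pow_minFac (Nat.succ_ne_zero v), hp.minFac_eq]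
    -- choose an element outside
    have hKt : K ≠ ⊤ := by
      intro e
      rw [e, Subgroup.index_top] at hKi
      exact hp.one_lt.ne hKi
    obtain ⟨x, hx⟩ : ∃ x, x ∉ K := by
      by_contra hcon
      push Not at hcon
      exact hKt ((Subgroup.eq_top_iff' K).2 hcon)
    have hKm : ∀ L : Subgroup P, K ≤ L → L = K ∨ L = ⊤ := by
      intro L hL
      have h1 : K.relIndex L * L.index = K.index := Subgroup.relIndex_mul_index hL
      rw [hKi] at h1
      rcases (Nat.dvd_prime hp).1 (Dvd.intro_left _ h1 : L.index ∣ p) with h2 | h2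
      · right
        exact Subgroup.index_eq_one.1 h2
      · left
        rw [h2] at h1
        have h3 : K.relIndex L = 1 := by
          have h4 : K.relIndex L * p = 1 * p := by rw [h1, one_mul]
          exact Nat.eq_of_mul_eq_mul_right hp.pos h4
        exact le_antisymm (Subgroup.relIndex_eq_one.1 h3) hL
    -- the map
    have key : ∀ H : Subgroup P, ¬ H ≤ K → ∃ k : K, H = (H ⊓ K) ⊔ zpowers (x * (k : P)) := by
      intro H hH
      have h1 : H ⊔ K = ⊤ := by
        rcases hKm (H ⊔ K) le_sup_right with h2 | h2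
        · exact absurd (le_sup_left.trans h2.le) hH
        · exact h2
      have h2 : x ∈ H ⊔ K := by rw [h1]; exact mem_top _
      rw [Subgroup.mem_sup_of_normal_right] at h2
      obtain ⟨y, hy, z, hz, hyz⟩ := h2
      have hyx : y = x * z⁻¹ := by rw [← hyz, mul_inv_cancel_right]
      refine ⟨⟨z⁻¹, K.inv_mem hz⟩, ?_⟩
      change H = (H ⊓ K) ⊔ zpowers (x * z⁻¹)
      rw [← hyx]
      apply le_antisymm
      · intro w hw
        have hyK : y ∉ K := by
          intro hyK
          apply hx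
          rw [← hyz]
          exact K.mul_mem hyK hz
        have h3 : K ⊔ zpowers y = ⊤ := by
          rcases hKm (K ⊔ zpowers y) le_sup_left with h2 | h2
          · exact absurd (h2.le (mem_sup_right (mem_zpowers y))) hyK
          · exact h2
        have h4 : w ∈ K ⊔ zpowers y := by rw [h3]; exact mem_top _
        rw [Subgroup.mem_sup_of_normal_left] at h4
        obtain ⟨a, ha, b, hb, hab⟩ := h4
        have hbH : b ∈ H := (zpowers_le.2 hy) hb
        have haH : a ∈ H := by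
          have : a = w * b⁻¹ := by rw [← hab, mul_inv_cancel_right]
          rw [this]
          exact H.mul_mem hw (H.inv_mem hbH)
        rw [← hab]
        exact mul_mem (mem_sup_left ⟨haH, ha⟩) (mem_sup_right hb)
      · exact sup_le inf_le_left (zpowers_le.2 hy)
    classical
    let φ : Subgroup P → Subgroup K × Option K := fun H =>
      (H.subgroupOf K, if hH : H ≤ K then none else some (key H hH).choose)
    have hφ : Function.Injective φ := by
      intro H₁ H₂ e
      have e1 : H₁.subgroupOf K = H₂.subgroupOf K := congrArg Prod.fst e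
      have e2 := congrArg Prod.snd e
      have e3 : H₁ ⊓ K = H₂ ⊓ K := by
        rw [← Subgroup.subgroupOf_map_subtype, e1, Subgroup.subgroupOf_map_subtype]
      simp only [φ] at e2
      by_cases h1 : H₁ ≤ K
      · by_cases h2 : H₂ ≤ K
        · rwa [inf_eq_left.2 h1, inf_eq_left.2 h2] at e3
        · rw [dif_pos h1, dif_neg h2] at e2
          exact absurd e2 (by simp only [_root_.reduceCtorEq, _root_.not_false_eq_true])
      · by_cases h2 : H₂ ≤ K
        · rw [dif_neg h1, dif_pos h2] at e2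
          exact absurd e2 (by simp only [_root_.reduceCtorEq, _root_.not_false_eq_true])
        · rw [dif_neg h1, dif_neg h2, Option.some_inj] at e2
          rw [(key H₁ h1).choose_spec, (key H₂ h2).choose_spec, e2, e3]
    have h1 := Nat.card_le_card_of_injective φ hφ
    rw [Nat.card_prod, Finite.card_option, hK] at h1
    refine h1.trans ?_
    rw [cr, add_comm 1]
    exact Nat.mul_le_mul_right _ (ih K hK)

/-- the number of `p`-subgroups -/
theorem card_pgroups_le {p : ℕ} (hp : p.Prime) {G : Type*} [Group G] [Finite G] :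
    Nat.card {P : Subgroup G // IsPGroup p P} ≤
      Nat.card G / p ^ (Nat.card G).factorization p * cr p ((Nat.card G).factorization p) := by
  have hfp : Fact p.Prime := ⟨hp⟩
  set v := (Nat.card G).factorization p with hv
  have hS : ∀ S : Sylow p G, Nat.card S = p ^ v := fun S => S.card_eq_multiplicity
  have hidx : Nat.card (Sylow p G) ≤ Nat.card G / p ^ v := by
    obtain ⟨S⟩ : Nonempty (Sylow p G) := inferInstance
    have h1 := S.card_dvd_index
    have h2 : (S : Subgroup G).index = Nat.card G / p ^ v := by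
      rw [← hS S]
      exact (Nat.div_eq_of_eq_mul_right Nat.card_pos (S : Subgroup G).card_mul_index.symm).symm
    rw [h2] at h1
    apply Nat.le_of_dvd _ h1
    exact Nat.div_pos (Nat.le_of_dvd Nat.card_pos (Nat.ordProj_dvd _ _)) (pow_pos hp.pos _)
  have hex : ∀ P : {P : Subgroup G // IsPGroup p P}, ∃ S : Sylow p G, P.1 ≤ S := fun P => P.2.exists_le_sylow
  choose s hs using hex
  let φ : {P : Subgroup G // IsPGroup p P} → Σ S : Sylow p G, Subgroup S := fun P => ⟨s P, P.1.subgroupOf (s P)⟩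
  have hφ : Function.Injective φ := by
    intro P₁ P₂ e
    have e1 : s P₁ = s P₂ := congrArg Sigma.fst e
    apply Subtype.ext
    have h1 : ((φ P₁).2).map (Subgroup.subtype _) = P₁.1 := by
      change (P₁.1.subgroupOf (s P₁)).map _ = _
      rw [Subgroup.subgroupOf_map_subtype, inf_eq_left.2 (hs P₁)]
    have h2 : ((φ P₂).2).map (Subgroup.subtype _) = P₂.1 := by
      change (P₂.1.subgroupOf (s P₂)).map _ = _
      rw [Subgroup.subgroupOf_map_subtype, inf_eq_left.2 (hs P₂)]
    rw [← h1, ← h2, e]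
  refine (Nat.card_le_card_of_injective φ hφ).trans ?_
  classical
  have := Fintype.ofFinite (Sylow p G)
  rw [Nat.card_sigma]
  calc ∑ S : Sylow p G, Nat.card (Subgroup S) ≤ ∑ _S : Sylow p G, cr p v :=
        Finset.sum_le_sum fun S _ => card_subgroup_le hp v S (hS S)
    _ = Nat.card (Sylow p G) * cr p v := by
        rw [Finset.sum_const, smul_eq_mul, Finset.card_univ, Nat.card_eq_fintype_card]
    _ ≤ _ := Nat.mul_le_mul_right _ hidx

end Cfsg.Agent.H212.EP
end

-- part: H212/EP/GenPi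
section
/-!
# Generators of a direct power of a finite nonabelian simple group, counting of such subgroups

* `exists_gen_pi` : `T ^ m` is generated by `m + 1` elements;
* `card_nonab_le` : the number of subgroups `X` of `G` with `X ≅ T ^ m` (`T` simple, nonabelian, `1 ≤ m ≤ k`) times
  `60 ^ k` is at most `|G| ^ (k + 1)`.
-/

set_option autoImplicit false

namespace Cfsg.Agent.H212.EP

open Subgroup

universe u

/-- every finite simple group is generated by two elements (S3948) -/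
def TwoGenAll : Prop := ∀ (T : Type u) [Group T] [Finite T], IsSimpleGroup T → ∃ x y : T, _root_.Subgroup.closure ({x, y} : Set T) = ⊤

section gen

variable {T : Type u} [Group T] [Finite T]

/-- `T ^ (m + 1)` is generated by `m + 2` elements -/
theorem exists_gen_pi (H2 : TwoGenAll.{u}) (hT : IsSimpleGroup T) (m : ℕ) :
    ∃ f : Fin (m + 1 + 1) → (Fin (m + 1) → T), _root_.Subgroup.closure (Set.range f) = ⊤ := by
  obtain ⟨u, v, huv⟩ := H2 T hT
  obtain ⟨w, hw⟩ := exists_ne (1 : T)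
  let δ : T →* (Fin (m + 1) → T) := MonoidHom.pi fun _ => MonoidHom.id T
  have hδ : ∀ t i, δ t i = t := fun t i => rfl
  let f : Fin (m + 1 + 1) → (Fin (m + 1) → T) :=
    Fin.cons (δ u) (Fin.cons (δ v) fun i : Fin m => Pi.mulSingle i.castSucc w)
  refine ⟨f, ?_⟩
  set H := _root_.Subgroup.closure (Set.range f) with hH
  have hu : δ u ∈ H := subset_closure ⟨0, rfl⟩
  have hv : δ v ∈ H := subset_closure ⟨1, rfl⟩
  have hws : ∀ i : Fin m, Pi.mulSingle i.castSucc w ∈ H := fun i => subset_closure ⟨i.succ.succ, rfl⟩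
  have hdiag : ∀ t, δ t ∈ H := by
    intro t
    have h1 : t ∈ _root_.Subgroup.closure ({u, v} : Set T) := by rw [huv]; exact mem_top _
    have h2 : closure ({u, v} : Set T) ≤ H.comap δ := by
      rw [closure_le]
      rintro x (rfl | rfl)
      · exact hu
      · exact hv
    exact h2 h1
  have hN : ∀ i : Fin m, ∀ t : T, Pi.mulSingle i.castSucc t ∈ H := by
    intro i
    let N : Subgroup T := H.comap (MonoidHom.mulSingle (fun _ => T) i.castSucc)
    have hmem : ∀ t, t ∈ N ↔ Pi.mulSingle i.castSucc t ∈ H := fun t => Iff.rfl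
    have hNn : N.Normal := by
      constructor
      intro n hn g
      rw [hmem] at hn ⊢
      have h1 : (Pi.mulSingle i.castSucc (g * n * g⁻¹) : Fin (m + 1) → T) =
          δ g * Pi.mulSingle i.castSucc n * (δ g)⁻¹ := by
        funext j
        rw [Pi.mul_apply, Pi.mul_apply, Pi.inv_apply, hδ]
        by_cases hj : j = i.castSucc
        · subst hj
          rw [Pi.mulSingle_eq_same, Pi.mulSingle_eq_same]
        · rw [Pi.mulSingle_eq_of_ne hj, Pi.mulSingle_eq_of_ne hj, mul_one, mul_inv_cancel]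
      rw [h1]
      exact H.mul_mem (H.mul_mem (hdiag g) hn) (H.inv_mem (hdiag g))
    rcases hNn.eq_bot_or_eq_top with h1 | h1
    · exfalso
      apply hw
      have : w ∈ N := (hmem w).2 (hws i)
      rwa [h1, mem_bot] at this
    · intro t
      rw [← hmem, h1]
      exact mem_top _
  rw [eq_top_iff]
  intro x _
  have h1 : x * (δ (x (Fin.last m)))⁻¹ ∈ H := by
    apply Subgroup.pi_mem_of_mulSingle_mem
    intro i
    refine Fin.lastCases ?_ (fun i => ?_) i
    · rw [Pi.mul_apply, Pi.inv_apply, hδ, mul_inv_cancel, Pi.mulSingle_one]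
      exact H.one_mem
    · exact hN i _
  have h2 := H.mul_mem h1 (hdiag (x (Fin.last m)))
  rwa [inv_mul_cancel_right] at h2

end gen

/-- a non-abelian finite simple group has at least 60 elements -/
theorem sixty_le {T : Type*} [Group T] [Finite T] (hT : IsSimpleGroup T) (hna : ∃ a b : T, a * b ≠ b * a) :
    60 ≤ Nat.card T := by
  by_contra hcon
  obtain ⟨a, b, hab⟩ := hna
  have h1 : ¬ IsCyclic T := by
    intro hcy
    apply hab
    obtain ⟨g, hg⟩ := hcy.exists_generator
    obtain ⟨m, rfl⟩ := mem_zpowers_iff.1 (hg a)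
    obtain ⟨n, rfl⟩ := mem_zpowers_iff.1 (hg b)
    rw [← zpow_add, ← zpow_add, add_comm]
  have := Cfsg.Agent.S0493.result h1 (by omega)
  omega

/-- the centre of `T ^ m` is trivial -/
theorem center_pi {T : Type*} [Group T] (hT : IsSimpleGroup T) (hna : ∃ a b : T, a * b ≠ b * a) {ι : Type*}
    [DecidableEq ι] {z : ι → T} (hz : ∀ x, z * x = x * z) : z = 1 := by
  have hc : center T = ⊥ := by
    rcases (inferInstance : (center T).Normal).eq_bot_or_eq_top with h1 | h1
    · exact h1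
    · exfalso
      obtain ⟨a, b, hab⟩ := hna
      apply hab
      have : b ∈ center T := by rw [h1]; exact mem_top _
      exact mem_center_iff.1 this a
  funext i
  have h1 : z i ∈ center T := by
    rw [mem_center_iff]
    intro t
    have h2 := congrFun (hz (Pi.mulSingle i t)) i
    rw [Pi.mul_apply, Pi.mul_apply, Pi.mulSingle_eq_same] at h2
    exact h2.symm
  rw [hc, mem_bot] at h1
  exact h1

/-- `X ≅ T ^ (m + 1)`, `T` simple and not abelian -/
def IsNonab {G : Type u} [Group G] (X : Subgroup G) : Prop :=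
  ∃ (T : Type u) (_ : Group T) (m : ℕ), IsSimpleGroup T ∧ (∃ a b : T, a * b ≠ b * a) ∧
    Nonempty (X ≃* (Fin (m + 1) → T))

section count

variable {G : Type u} [Group G] [Finite G] {k : ℕ}

/-- many generating tuples -/
theorem card_tuples (H2 : TwoGenAll.{u}) (hk : ∀ n, 60 ≤ n → ¬ n ^ (k + 1) ∣ Nat.card G) {X : Subgroup G}
    (hX : IsNonab X) : 60 ^ k ≤ Nat.card {g : Fin (k + 1) → G // _root_.Subgroup.closure (Set.range g) = X} := by
  classical
  obtain ⟨T, _, m, hT, hna, ⟨e⟩⟩ := hX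
  have hfin : Finite (Fin (m + 1) → T) := Finite.of_equiv _ e.toEquiv
  have hfT : Finite T := Finite.of_injective (fun t : T => (fun _ => t : Fin (m + 1) → T)) fun a b h => congrFun h 0
  have h60 := sixty_le hT hna
  have hcX : Nat.card X = Nat.card T ^ (m + 1) := by
    rw [Nat.card_congr e.toEquiv, Nat.card_fun, Nat.card_eq_fintype_card (α := Fin (m + 1)), Fintype.card_fin]
  have hmk : m + 1 ≤ k := by
    by_contra hcon
    push Not at hcon
    apply hk _ h60
    have h1 : Nat.card T ^ (k + 1) ∣ Nat.card T ^ (m + 1) := pow_dvd_pow _ (by omega)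
    rw [← hcX] at h1
    exact h1.trans (Subgroup.card_subgroup_dvd_card X)
  obtain ⟨n, rfl⟩ : ∃ n, k = m + 1 + n := ⟨k - (m + 1), by omega⟩
  obtain ⟨f, hf⟩ := exists_gen_pi H2 hT m
  let f' : Fin (m + 1 + 1) → X := fun i => e.symm (f i)
  have hf' : _root_.Subgroup.closure (Set.range f') = ⊤ := by
    have h1 : Set.range f' = e.symm.toMonoidHom '' Set.range f := by
      rw [← Set.range_comp]
      rfl
    rw [h1, ← MonoidHom.map_closure, hf, ← MonoidHom.range_eq_map]
    exact MonoidHom.range_eq_top.2 e.symm.surjective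
  have hcen : ∀ x : X, (∀ i, x * f' i = f' i * x) → x = 1 := by
    intro x hx
    have h1 : ∀ y : X, x * y = y * x := by
      intro y
      have h2 : y ∈ _root_.Subgroup.closure (Set.range f') := by rw [hf']; exact mem_top _
      have h3 : closure (Set.range f') ≤ centralizer ({x} : Set X) := by
        rw [closure_le]
        rintro _ ⟨i, rfl⟩
        exact mem_centralizer_singleton_iff.2 (hx i).symm
      exact (mem_centralizer_singleton_iff.1 (h3 h2)).symm
    have h2 : e x = 1 := by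
      apply center_pi hT hna
      intro y
      have h3 := congrArg e (h1 (e.symm y))
      rwa [map_mul, map_mul, e.apply_symm_apply] at h3
    rw [← e.map_one] at h2
    exact e.injective h2
  let ε : Fin (m + 1 + n + 1) ≃ Fin (m + 1 + 1) ⊕ Fin n := Fintype.equivOfCardEq (by
    rw [Fintype.card_fin, Fintype.card_sum, Fintype.card_fin, Fintype.card_fin]; omega)
  let F : X × (Fin n → X) → Fin (m + 1 + n + 1) → X := fun p =>
    (Sum.elim (fun i => p.1 * f' i * p.1⁻¹) p.2) ∘ ε
  have hF : ∀ p, _root_.Subgroup.closure (Set.range (F p)) = ⊤ := by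
    intro p
    have h1 : Set.range (F p) = Set.range (Sum.elim (fun i => p.1 * f' i * p.1⁻¹) p.2) :=
      ε.surjective.range_comp _
    rw [h1, eq_top_iff]
    have h2 : closure (Set.range fun i => p.1 * f' i * p.1⁻¹) = ⊤ := by
      have h3 : (Set.range fun i => p.1 * f' i * p.1⁻¹) = (MulAut.conj p.1).toMonoidHom '' Set.range f' := by
        rw [← Set.range_comp]
        rfl
      rw [h3, ← MonoidHom.map_closure, hf', ← MonoidHom.range_eq_map]
      exact MonoidHom.range_eq_top.2 (MulAut.conj p.1).surjective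
    rw [← h2]
    apply Subgroup.closure_mono
    rintro _ ⟨i, rfl⟩
    exact ⟨Sum.inl i, rfl⟩
  have hFi : Function.Injective F := by
    intro p q hpq
    have h1 : Sum.elim (fun i => p.1 * f' i * p.1⁻¹) p.2 = Sum.elim (fun i => q.1 * f' i * q.1⁻¹) q.2 := by
      funext j
      have := congrFun hpq (ε.symm j)
      simp only [F, Function.comp_apply, Equiv.apply_symm_apply] at this
      exact this
    have h2 : ∀ i, p.1 * f' i * p.1⁻¹ = q.1 * f' i * q.1⁻¹ := fun i => congrFun h1 (Sum.inl i)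
    have h3 : p.2 = q.2 := funext fun i => congrFun h1 (Sum.inr i)
    have h4 : q.1⁻¹ * p.1 = 1 := by
      apply hcen
      intro i
      have h5 := h2 i
      calc q.1⁻¹ * p.1 * f' i = q.1⁻¹ * (p.1 * f' i * p.1⁻¹) * p.1 := by group
        _ = q.1⁻¹ * (q.1 * f' i * q.1⁻¹) * p.1 := by rw [h5]
        _ = _ := by group
    exact Prod.ext (inv_mul_eq_one.1 h4).symm h3
  let Φ : X × (Fin n → X) → {g : Fin (m + 1 + n + 1) → G // _root_.Subgroup.closure (Set.range g) = X} := fun p =>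
    ⟨fun i => (F p i : G), by
      have h1 : (Set.range fun i => (F p i : G)) = X.subtype '' Set.range (F p) := by
        rw [← Set.range_comp]
        rfl
      rw [h1, ← MonoidHom.map_closure, hF, ← MonoidHom.range_eq_map, Subgroup.range_subtype]⟩
  have hΦ : Function.Injective Φ := by
    intro p q hpq
    apply hFi
    funext i
    exact Subtype.ext (congrFun (congrArg Subtype.val hpq) i)
  refine le_trans ?_ (Nat.card_le_card_of_injective Φ hΦ)
  rw [Nat.card_prod, Nat.card_fun, Nat.card_eq_fintype_card (α := Fin n), Fintype.card_fin, hcX, ← pow_mul, ← pow_add]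
  calc 60 ^ (m + 1 + n) ≤ Nat.card T ^ (m + 1 + n) := Nat.pow_le_pow_left h60 _
    _ ≤ Nat.card T ^ (m + 1 + (m + 1) * n) := by
        apply Nat.pow_le_pow_right (by omega)
        have : n ≤ (m + 1) * n := Nat.le_mul_of_pos_left _ (by omega)
        omega

/-- **The number of subgroups `T ^ (m + 1)`, `T` simple nonabelian.** -/
theorem card_nonab_le (H2 : TwoGenAll.{u}) (hk : ∀ n, 60 ≤ n → ¬ n ^ (k + 1) ∣ Nat.card G) :
    60 ^ k * Nat.card {X : Subgroup G // IsNonab X} ≤ Nat.card G ^ (k + 1) := by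
  classical
  let Ψ : (Σ X : {X : Subgroup G // IsNonab X}, {g : Fin (k + 1) → G // _root_.Subgroup.closure (Set.range g) = X.1}) →
      (Fin (k + 1) → G) := fun p => p.2.1
  have hΨ : Function.Injective Ψ := by
    rintro ⟨⟨X, hX⟩, g, hg⟩ ⟨⟨Y, hY⟩, g', hg'⟩ h
    have h1 : g = g' := h
    subst h1
    have h2 : X = Y := hg.symm.trans hg'
    subst h2
    rfl
  have h1 := Nat.card_le_card_of_injective Ψ hΨ
  have := Fintype.ofFinite {X : Subgroup G // IsNonab X}
  rw [Nat.card_fun, Nat.card_eq_fintype_card (α := Fin (k + 1)), Fintype.card_fin, Nat.card_sigma] at h1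
  refine le_trans ?_ h1
  calc 60 ^ k * Nat.card {X : Subgroup G // IsNonab X} = ∑ _X : {X : Subgroup G // IsNonab X}, 60 ^ k := by
        rw [Finset.sum_const, smul_eq_mul, Finset.card_univ, Nat.card_eq_fintype_card, mul_comm]
    _ ≤ _ := Finset.sum_le_sum fun X _ => card_tuples H2 hk X.2

end count

end Cfsg.Agent.H212.EP
end

-- part: H212/EP/Count
section
/-!
# S3499: the number of two point stabilisers `M0 = A ∩ A^x`

`M0_le` : every `M0` is `N_A(X)` with `X ≤ A` a `p`-group or `X ≅ T ^ m`; hence the number `r` of the `M0` is at most the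
number of `p`-subgroups plus the number of subgroups `T ^ m`.
-/

set_option autoImplicit false

namespace Cfsg.Agent.H212.EP

open Subgroup Cfsg.Agent.H284

universe u

section

variable {Q : Type u} [Group Q] {A : Subgroup Q} {Γ : Subgroup (MulAut Q)} (h : EPT A Γ)

include h

/-- the stabiliser in `Γ` of the point `xA` -/
def stb (x : Q) : Subgroup (MulAut Q) where
  carrier := {σ | σ ∈ Γ ∧ x⁻¹ * σ x ∈ A}
  one_mem' := ⟨one_mem _, by rw [MulAut.one_apply, inv_mul_cancel]; exact one_mem _⟩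
  mul_mem' := by
    rintro σ τ ⟨h1, hx₁⟩ ⟨h2, hx₂⟩
    refine ⟨mul_mem h1 h2, ?_⟩
    rw [MulAut.mul_apply]
    have e : x⁻¹ * σ (τ x) = (x⁻¹ * σ x) * σ (x⁻¹ * τ x) := by
      rw [map_mul, map_inv]; group
    rw [e]
    exact A.mul_mem hx₁ ((h.inv _ h1 _).2 hx₂)
  inv_mem' := by
    rintro τ ⟨h1, hx₁⟩
    refine ⟨inv_mem h1, ?_⟩
    have h3 := (h.inv _ (Γ.inv_mem h1) _).2 (A.inv_mem hx₁)
    have e4 : τ⁻¹ (x⁻¹ * τ x)⁻¹ = x⁻¹ * τ⁻¹ x := by
      rw [mul_inv_rev, map_mul, map_inv, MulAut.inv_apply_self, inv_inv]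
    rwa [e4] at h3

theorem center_bot (hs : IsSimpleGroup Q) {q : Q} (hq : ∀ y, q * y = y * q) : q = 1 := by
  have h1 : q ∈ center Q := mem_center_iff.2 fun g => (hq g).symm
  rcases (inferInstance : (center Q).Normal).eq_bot_or_eq_top with h2 | h2
  · rwa [h2, mem_bot] at h1
  · exfalso
    have hA : A.Normal := ⟨fun n hn g => by
      have h3 : g ∈ center Q := by rw [h2]; exact mem_top g
      rw [← mem_center_iff.1 h3 n, mul_inv_cancel_right]
      exact hn⟩
    rcases hA.eq_bot_or_eq_top with h3 | h3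
    · exact h.ne h3
    · exact h.max.1 h3

/-- **`M0 = N_A(X)`**, `X` a `p`-group or `T ^ m`. -/
theorem exists_char [Finite Q] (hs : IsSimpleGroup Q) {x : Q} (hx : x ∉ A) : ∃ X : Subgroup Q, X ≤ A ∧
    (∀ a ∈ A, (∀ k ∈ X, a * k * a⁻¹ ∈ X) ↔ a ∈ cj x A) ∧
    ((∃ p, p.Prime ∧ p ∣ Nat.card A ∧ IsPGroup p X) ∨ IsNonab X) := by
  classical
  set M0 := A ⊓ cj x A with hM0
  have hA : ∀ m ∈ M0, m ∈ A := fun m hm => (mem_inf.1 hm).1
  have hc : ∀ m ∈ M0, MulAut.conj m ∈ stb h x := fun m hm =>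
    ⟨(h.conj m).2 (hA m hm), (h.conj_stab (hA m hm)).2 (mem_inf.1 hm).2⟩
  let c : M0 →* stb h x := ((MulAut.conj : Q →* MulAut Q).comp M0.subtype).codRestrict _ fun m => hc m m.2
  have hcv : ∀ m : M0, ((c m : stb h x) : MulAut Q) = MulAut.conj (m : Q) := fun m => rfl
  have hci : Function.Injective c := by
    rw [injective_iff_map_eq_one]
    intro m hm
    apply Subtype.ext
    apply center_bot h hs
    intro y
    have h1 : MulAut.conj (m : Q) = 1 := by rw [← hcv, hm]; rfl
    have h2 := congrArg (fun σ : MulAut Q => σ y) h1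
    simp only [MulAut.conj_apply, MulAut.one_apply] at h2
    exact mul_inv_eq_iff_eq_mul.1 h2
  have hfin : Finite (MulAut Q) := inferInstance
  have hN : c.range.Normal := by
    constructor
    rintro _ ⟨m, rfl⟩ σ
    refine ⟨⟨(σ : MulAut Q) m, h.stab_M0 σ.2.1 σ.2.2 m.2⟩, ?_⟩
    apply Subtype.ext
    rw [hcv, Subgroup.coe_mul, Subgroup.coe_mul, Subgroup.coe_inv, hcv, aut_conj]
  have hN0 : c.range ≠ ⊥ := by
    intro e
    apply h.M0 x hx
    rw [Subgroup.eq_bot_iff_forall]
    intro m hm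
    have h1 : c ⟨m, hm⟩ = 1 := by
      have : c ⟨m, hm⟩ ∈ c.range := ⟨_, rfl⟩
      rwa [e, mem_bot] at this
    exact congrArg Subtype.val (hci (h1.trans (map_one c).symm))
  -- a minimal normal subgroup
  obtain ⟨N, hNmin⟩ : ∃ N : Subgroup (stb h x), Minimal (fun N => N.Normal ∧ N ≤ c.range ∧ N ≠ ⊥) N := by
    obtain ⟨N, -, hN'⟩ := (Set.toFinite {N : Subgroup (stb h x) | N.Normal ∧ N ≤ c.range ∧ N ≠ ⊥}).exists_le_minimal
      (a := c.range) ⟨hN, le_rfl, hN0⟩
    exact ⟨N, hN'⟩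
  obtain ⟨⟨hNn', hNle, hNne⟩, hmin⟩ := hNmin
  have hNn : N.Normal := hNn'
  obtain ⟨T, m, hTN, hTs, hm, ⟨e⟩⟩ := Cfsg.Agent.Lib.MinNormal.exists_mulEquiv_pi N hNne (fun M hM hMN => by
    by_cases hb : M = ⊥
    · exact Or.inl hb
    · exact Or.inr (le_antisymm hMN (hmin ⟨hM, hMN.trans hNle, hb⟩ hMN)))
  -- the subgroup of `Q`
  let X : Subgroup Q := (N.comap c).map M0.subtype
  have hXmem : ∀ k, k ∈ X ↔ ∃ hk : k ∈ M0, c ⟨k, hk⟩ ∈ N := by
    intro k
    constructor
    · rintro ⟨k, hk, rfl⟩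
      exact ⟨k.2, hk⟩
    · rintro ⟨hk, h1⟩
      exact ⟨⟨k, hk⟩, h1, rfl⟩
  have hXM : X ≤ M0 := fun k hk => ((hXmem k).1 hk).1
  have hXA : X ≤ A := fun k hk => hA k (hXM hk)
  have eX : X ≃* N := (((N.comap c).equivMapOfInjective M0.subtype M0.subtype_injective).symm.trans
    ((N.comap c).equivMapOfInjective c hci)).trans (MulEquiv.subgroupCongr (Subgroup.map_comap_eq_self hNle))
  have hXinv : ∀ σ ∈ Γ, x⁻¹ * σ x ∈ A → ∀ k ∈ X, σ k ∈ X := by
    intro σ hσ hσx k hk
    obtain ⟨hkM, hkN⟩ := (hXmem k).1 hk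
    refine (hXmem _).2 ⟨h.stab_M0 hσ hσx hkM, ?_⟩
    have h1 := hNn.conj_mem _ hkN ⟨σ, hσ, hσx⟩
    have h2 : (⟨σ, hσ, hσx⟩ : stb h x) * c ⟨k, hkM⟩ * (⟨σ, hσ, hσx⟩ : stb h x)⁻¹ =
        c ⟨σ k, h.stab_M0 hσ hσx hkM⟩ := by
      apply Subtype.ext
      rw [hcv, Subgroup.coe_mul, Subgroup.coe_mul, Subgroup.coe_inv, hcv, aut_conj]
    rwa [h2] at h1
  have hXne : X ≠ ⊥ := by
    intro hX
    apply hNne
    rw [Subgroup.eq_bot_iff_forall]
    intro n hn
    have h1 : (eX.symm ⟨n, hn⟩ : Q) = 1 := by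
      have h0 : ∀ k ∈ X, k = 1 := fun k hk => by rwa [hX, mem_bot] at hk
      exact h0 _ (eX.symm ⟨n, hn⟩).2
    have h2 : eX.symm ⟨n, hn⟩ = 1 := Subtype.ext h1
    have h3 : (⟨n, hn⟩ : N) = 1 := by rw [← eX.apply_symm_apply ⟨n, hn⟩, h2, map_one]
    exact congrArg Subtype.val h3
  refine ⟨X, hXA, fun a ha => ⟨fun haX => ?_, fun hax k hk => ?_⟩, ?_⟩
  · rw [← h.conj_stab ha]
    exact h.norm x hx X hXM hXinv hXne _ ((h.conj a).2 ha) haX
  · exact hXinv _ ((h.conj a).2 ha) ((h.conj_stab ha).2 hax) k hk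
  · -- the type of `X`
    have hfT : Finite T := inferInstance
    obtain ⟨m, rfl⟩ : ∃ m', m = m' + 1 := ⟨m - 1, by omega⟩
    by_cases hcm : ∃ a b : T, a * b ≠ b * a
    · right
      exact ⟨T, inferInstance, m, hTs, hcm, ⟨eX.trans e⟩⟩
    · left
      push Not at hcm
      have hTc : IsMulCommutative T := ⟨⟨hcm⟩⟩
      letI : CommGroup T := { (inferInstance : Group T) with mul_comm := hcm }
      have hp : (Nat.card T).Prime := IsSimpleGroup.prime_card
      have hcard : Nat.card X = Nat.card T ^ (m + 1) := by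
        rw [Nat.card_congr (eX.trans e).toEquiv, Nat.card_fun, Nat.card_eq_fintype_card (α := Fin (m + 1)),
          Fintype.card_fin]
      refine ⟨Nat.card T, hp, ?_, IsPGroup.of_card hcard⟩
      exact (dvd_pow_self _ (Nat.succ_ne_zero m)).trans (hcard ▸ Subgroup.card_dvd_of_le hXA)

/-- **The number of `M0`.** -/
theorem r_le [Finite Q] (hs : IsSimpleGroup Q) : {M : Subgroup Q | ∃ x, x ∉ A ∧ M = A ⊓ cj x A}.ncard ≤
    ∑ p ∈ (Nat.card A).primeFactors, Nat.card {P : Subgroup A // IsPGroup p P} +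
      Nat.card {X : Subgroup A // IsNonab X} := by
  classical
  set R := {M : Subgroup Q | ∃ x, x ∉ A ∧ M = A ⊓ cj x A} with hR
  have hex : ∀ M : R, ∃ X : Subgroup Q, X ≤ A ∧ (∀ a ∈ A, (∀ k ∈ X, a * k * a⁻¹ ∈ X) ↔ a ∈ M.1) ∧
      ((∃ p, p.Prime ∧ p ∣ Nat.card A ∧ IsPGroup p X) ∨ IsNonab X) := by
    rintro ⟨M, x, hx, rfl⟩
    obtain ⟨X, h1, h2, h3⟩ := exists_char h hs hx
    refine ⟨X, h1, fun a ha => ?_, h3⟩
    rw [h2 a ha, mem_inf]
    exact ⟨fun h => ⟨ha, h⟩, fun h => h.2⟩
  choose X hXA hXn hXt using hex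
  have hinj : ∀ M N : R, X M = X N → M = N := by
    intro M N hMN
    apply Subtype.ext
    have hle : ∀ M : R, M.1 ≤ A := by
      rintro ⟨_, x, hx, rfl⟩
      exact inf_le_left
    ext a
    constructor
    · intro ha
      rw [← hXn N a (hle M ha), ← hMN, hXn M a (hle M ha)]
      exact ha
    · intro ha
      rw [← hXn M a (hle N ha), hMN, hXn N a (hle N ha)]
      exact ha
  have hcase : ∀ M : R, (∃ p : (Nat.card A).primeFactors, IsPGroup p ((X M).subgroupOf A)) ∨
      IsNonab ((X M).subgroupOf A) := by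
    intro M
    rcases hXt M with ⟨p, hp, hpA, hpX⟩ | ⟨T, iT, m, h1, h2, ⟨e⟩⟩
    · left
      refine ⟨⟨p, Nat.mem_primeFactors.2 ⟨hp, hpA, Nat.card_pos.ne'⟩⟩, ?_⟩
      exact hpX.of_equiv (subgroupOfEquivOfLe (hXA M)).symm
    · right
      exact ⟨T, iT, m, h1, h2, ⟨(subgroupOfEquivOfLe (hXA M)).trans e⟩⟩
  let φ : R → (Σ p : (Nat.card A).primeFactors, {P : Subgroup A // IsPGroup p P}) ⊕ {X : Subgroup A // IsNonab X} :=
    fun M => if hM : ∃ p : (Nat.card A).primeFactors, IsPGroup p ((X M).subgroupOf A) then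
      Sum.inl ⟨hM.choose, ⟨_, hM.choose_spec⟩⟩ else Sum.inr ⟨_, (hcase M).resolve_left hM⟩
  have hφ : Function.Injective φ := by
    have key : ∀ M N : R, (X M).subgroupOf A = (X N).subgroupOf A → M = N := by
      intro M N hMN
      apply hinj
      have h1 := Subgroup.subgroupOf_map_subtype (X M) A
      rw [hMN, Subgroup.subgroupOf_map_subtype, inf_eq_left.2 (hXA M), inf_eq_left.2 (hXA N)] at h1
      exact h1.symm
    intro M N hMN
    apply key
    simp only [φ] at hMN
    by_cases h1 : ∃ p : (Nat.card A).primeFactors, IsPGroup p ((X M).subgroupOf A)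
    · by_cases h2 : ∃ p : (Nat.card A).primeFactors, IsPGroup p ((X N).subgroupOf A)
      · rw [dif_pos h1, dif_pos h2] at hMN
        have h3 := Sum.inl_injective hMN
        have h4 := congrArg (fun s : Σ p : (Nat.card A).primeFactors, {P : Subgroup A // IsPGroup p P} => s.2.1) h3
        exact h4
      · rw [dif_pos h1, dif_neg h2] at hMN
        exact absurd hMN (by simp)
    · by_cases h2 : ∃ p : (Nat.card A).primeFactors, IsPGroup p ((X N).subgroupOf A)
      · rw [dif_neg h1, dif_pos h2] at hMN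
        exact absurd hMN (by simp)
      · rw [dif_neg h1, dif_neg h2] at hMN
        exact congrArg Subtype.val (Sum.inr_injective hMN)
  have h1 := Nat.card_le_card_of_injective φ hφ
  rw [Nat.card_sum, Nat.card_sigma, Finset.sum_coe_sort (Nat.card A).primeFactors
    (fun p => Nat.card {P : Subgroup A // IsPGroup p P})] at h1
  exact h1

end

end Cfsg.Agent.H212.EP
end

-- part: H212/EP/Bound
section
/-!
# S3499: index bound from the order of `A` (or a multiple of it)

`index_le_of_dvd` : `|A| ∣ N`, `n ^ (k + 1) ∤ N` for `60 ≤ n`: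
`60 ^ k * |Q : A| ≤ 60 ^ k + (60 ^ k * (bound for the number of p-subgroups) + N ^ (k + 1)) * (2 * (N / μ))`.
-/

set_option autoImplicit false

namespace Cfsg.Agent.H212.EP

open Subgroup Cfsg.Agent.H284

universe u

/-- bound for the number of subgroups of prime power order of a group of order `N`, `l` the list of the pairs
(prime, exponent) -/
def spl (N : ℕ) (l : List (ℕ × ℕ)) : ℕ := (l.map fun x => N / x.1 ^ x.2 * cr x.1 x.2).sum

theorem pcount_le {G : Type*} [Group G] [Finite G] {N p v : ℕ} (hN : N ≠ 0) (hG : Nat.card G ∣ N) (hp : p.Prime)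
    (hv : p ^ v ∣ N) (hv' : ¬ p ^ (v + 1) ∣ N) :
    Nat.card {P : Subgroup G // IsPGroup p P} ≤ N / p ^ v * cr p v := by
  refine (card_pgroups_le hp).trans ?_
  have hvN : N.factorization p = v := by
    apply le_antisymm
    · by_contra hcon
      push Not at hcon
      exact hv' ((Nat.Prime.pow_dvd_iff_le_factorization hp hN).2 hcon)
    · exact (Nat.Prime.pow_dvd_iff_le_factorization hp hN).1 hv
  have hle : (Nat.card G).factorization p ≤ v := by
    rw [← hvN]
    exact (Nat.factorization_le_iff_dvd Nat.card_pos.ne' hN).2 hG p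
  refine Nat.mul_le_mul ?_ (cr_mono hle)
  rw [← hvN]
  exact Nat.le_of_dvd (Nat.ordCompl_pos p hN) (Nat.ordCompl_dvd_ordCompl_of_dvd hG p)

theorem sum_le {G : Type*} [Group G] [Finite G] {N : ℕ} (hN : N ≠ 0) (hG : Nat.card G ∣ N) {l : List (ℕ × ℕ)}
    (hl : ∀ p, p.Prime → p ∣ N → ∃ v, (p, v) ∈ l ∧ p ^ v ∣ N ∧ ¬ p ^ (v + 1) ∣ N) :
    ∑ p ∈ (Nat.card G).primeFactors, Nat.card {P : Subgroup G // IsPGroup p P} ≤ spl N l := by
  classical
  have hl' : ∀ p : (Nat.card G).primeFactors, ∃ v, ((p : ℕ), v) ∈ l ∧ (p : ℕ) ^ v ∣ N ∧ ¬ (p : ℕ) ^ (v + 1) ∣ N :=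
    fun p => hl p (Nat.prime_of_mem_primeFactors p.2) ((Nat.dvd_of_mem_primeFactors p.2).trans hG)
  choose v hv1 hv2 hv3 using hl'
  have h1 : ∑ p ∈ (Nat.card G).primeFactors, Nat.card {P : Subgroup G // IsPGroup p P} ≤
      ∑ x ∈ l.toFinset, N / x.1 ^ x.2 * cr x.1 x.2 := by
    rw [← Finset.sum_coe_sort (Nat.card G).primeFactors (fun p => Nat.card {P : Subgroup G // IsPGroup p P})]
    calc ∑ p : (Nat.card G).primeFactors, Nat.card {P : Subgroup G // IsPGroup (p : ℕ) P} ≤
        ∑ p : (Nat.card G).primeFactors, N / (p : ℕ) ^ (v p) * cr p (v p) :=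
          Finset.sum_le_sum fun p _ => pcount_le hN hG (Nat.prime_of_mem_primeFactors p.2) (hv2 p) (hv3 p)
      _ = ∑ x ∈ Finset.univ.image (fun p : (Nat.card G).primeFactors => ((p : ℕ), v p)),
          N / x.1 ^ x.2 * cr x.1 x.2 := by
        rw [Finset.sum_image]
        intro p _ q _ hpq
        exact Subtype.ext (congrArg Prod.fst hpq)
      _ ≤ _ := by
        apply Finset.sum_le_sum_of_subset
        intro x hx
        obtain ⟨p, -, rfl⟩ := Finset.mem_image.1 hx
        exact List.mem_toFinset.2 (hv1 p)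
  refine h1.trans ?_
  rw [spl, Finset.sum_list_map_count]
  refine Finset.sum_le_sum fun x hx => ?_
  rw [smul_eq_mul]
  exact Nat.le_mul_of_pos_left _
    ((@List.count_pos_iff (ℕ × ℕ) instBEqOfDecidableEq inferInstance x l).2 (List.mem_toFinset.1 hx))

/-- **Index bound.** -/
theorem index_le_of_dvd (H2 : TwoGenAll.{u}) {Q : Type u} [Group Q] [Finite Q] (hs : IsSimpleGroup Q) {A : Subgroup Q}
    {Γ : Subgroup (MulAut Q)} (h : EPT A Γ) {N : ℕ} (hN : N ≠ 0) (hA : Nat.card A ∣ N) {l : List (ℕ × ℕ)}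
    (hl : ∀ p, p.Prime → p ∣ N → ∃ v, (p, v) ∈ l ∧ p ^ v ∣ N ∧ ¬ p ^ (v + 1) ∣ N) {k : ℕ}
    (hk : ∀ n, 60 ≤ n → ¬ n ^ (k + 1) ∣ N) {μ : ℕ} (hμ : 0 < μ)
    (hmu : ∀ x, x ∉ A → μ ≤ Nat.card (A ⊓ cj x A : Subgroup Q)) :
    60 ^ k * A.index ≤ 60 ^ k + (60 ^ k * spl N l + N ^ (k + 1)) * (2 * (N / μ)) := by
  have h1 := Cfsg.Agent.H173.EP.ub1 hs h hμ hmu
  have h2 := r_le h hs
  have h3 := sum_le hN hA hl
  have h4 := card_nonab_le (G := A) H2 (k := k) (fun n hn hd => hk n hn (hd.trans hA))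
  set r := {M : Subgroup Q | ∃ x, x ∉ A ∧ M = A ⊓ cj x A}.ncard with hr
  have hAN : Nat.card A ≤ N := Nat.le_of_dvd (Nat.pos_of_ne_zero hN) hA
  have h5 : 60 ^ k * r ≤ 60 ^ k * spl N l + N ^ (k + 1) := by
    calc 60 ^ k * r ≤ 60 ^ k * (∑ p ∈ (Nat.card A).primeFactors, Nat.card {P : Subgroup A // IsPGroup p P} +
          Nat.card {X : Subgroup A // IsNonab X}) := Nat.mul_le_mul_left _ h2
      _ ≤ 60 ^ k * (spl N l + Nat.card {X : Subgroup A // IsNonab X}) :=
          Nat.mul_le_mul_left _ (Nat.add_le_add_right h3 _)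
      _ = 60 ^ k * spl N l + 60 ^ k * Nat.card {X : Subgroup A // IsNonab X} := by ring
      _ ≤ _ := Nat.add_le_add_left (h4.trans (Nat.pow_le_pow_left hAN _)) _
  calc 60 ^ k * A.index ≤ 60 ^ k * (1 + r * (2 * (Nat.card A / μ))) := Nat.mul_le_mul_left _ h1
    _ = 60 ^ k + (60 ^ k * r) * (2 * (Nat.card A / μ)) := by ring
    _ ≤ _ := Nat.add_le_add_left (Nat.mul_le_mul h5 (Nat.mul_le_mul_left _ (Nat.div_le_div_right hAN))) _

/-- the version with `μ = 2` and an explicit bound -/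
theorem index_le_of_dvd' (H2 : TwoGenAll.{u}) {Q : Type u} [Group Q] [Finite Q] (hs : IsSimpleGroup Q) {A : Subgroup Q}
    {Γ : Subgroup (MulAut Q)} (h : EPT A Γ) {N : ℕ} (hN : N ≠ 0) (hA : Nat.card A ∣ N) {l : List (ℕ × ℕ)}
    (hl : ∀ p, p.Prime → p ∣ N → ∃ v, (p, v) ∈ l ∧ p ^ v ∣ N ∧ ¬ p ^ (v + 1) ∣ N) {k : ℕ}
    (hk : ∀ n, 60 ≤ n → ¬ n ^ (k + 1) ∣ N) {B : ℕ} (hB : 60 ^ k + (60 ^ k * spl N l + N ^ (k + 1)) * N ≤ 60 ^ k * B) :
    A.index ≤ B := by
  have h1 := index_le_of_dvd H2 hs h hN hA hl hk (μ := 2) (by norm_num) (fun x hx => by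
    have h2 : Nat.card (A ⊓ cj x A : Subgroup Q) ≠ 1 := fun e => h.M0 x hx (Subgroup.card_eq_one.1 e)
    have h3 : 0 < Nat.card (A ⊓ cj x A : Subgroup Q) := Nat.card_pos
    omega)
  refine Nat.le_of_mul_le_mul_left ?_ (show 0 < 60 ^ k by positivity)
  refine (h1.trans ?_).trans hB
  exact Nat.add_le_add_left (Nat.mul_le_mul_left _ (Nat.mul_div_le N 2)) _

/-- the condition on the powers, checked for small `n` -/
theorem pow_not_dvd {N k m : ℕ} (hN : N ≠ 0) (hm : N < m ^ (k + 1)) (h : ∀ n < m, 60 ≤ n → ¬ n ^ (k + 1) ∣ N) :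
    ∀ n, 60 ≤ n → ¬ n ^ (k + 1) ∣ N := by
  intro n hn hd
  by_cases hnm : n < m
  · exact h n hnm hn hd
  · have h1 := Nat.le_of_dvd (Nat.pos_of_ne_zero hN) hd
    have h2 : m ^ (k + 1) ≤ n ^ (k + 1) := Nat.pow_le_pow_left (by omega) _
    omega

/-- the two point stabilisers have at least six elements if `A` has no abelian normal subgroup `≠ 1` -/
theorem six_le {Q : Type u} [Group Q] [Finite Q] {A : Subgroup Q} {Γ : Subgroup (MulAut Q)} (h : EPT A Γ)
    (hab : ∀ K : Subgroup Q, K ≤ A → (∀ a ∈ A, ∀ k ∈ K, a * k * a⁻¹ ∈ K) → (∀ a ∈ K, ∀ b ∈ K, a * b = b * a) → K = ⊥) :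
    ∀ x, x ∉ A → 6 ≤ Nat.card (A ⊓ cj x A : Subgroup Q) := by
  intro x hx
  by_contra hcon
  push Not at hcon
  have hcomm : ∀ a ∈ A ⊓ cj x A, ∀ b ∈ A ⊓ cj x A, a * b = b * a := by
    have h1 : ∀ (G : Type u) [Group G] [Finite G], Nat.card G < 6 → ∀ a b : G, a * b = b * a := by
      intro G _ _ hG
      have hpos : 0 < Nat.card G := Nat.card_pos
      have hc : Nat.card G = 1 ∨ (Nat.card G).Prime ∨ Nat.card G = 2 ^ 2 := by
        interval_cases Nat.card G <;> norm_num
      rcases hc with h1 | h1 | h1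
      · have := (Nat.card_eq_one_iff_unique.1 h1).1
        exact fun a b => Subsingleton.elim _ _
      · have : Fact (Nat.card G).Prime := ⟨h1⟩
        have hcy : IsCyclic G := isCyclic_of_prime_card rfl
        obtain ⟨g, hg⟩ := hcy.exists_generator
        intro a b
        obtain ⟨m, rfl⟩ := mem_zpowers_iff.1 (hg a)
        obtain ⟨n, rfl⟩ := mem_zpowers_iff.1 (hg b)
        rw [← zpow_add, ← zpow_add, add_comm]
      · have : Fact (Nat.Prime 2) := ⟨Nat.prime_two⟩
        exact fun a b => (IsPGroup.isMulCommutative_of_card_eq_prime_sq (p := 2) h1).is_comm.comm a b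
    intro a ha b hb
    exact congrArg Subtype.val (h1 _ hcon (⟨a, ha⟩ : (A ⊓ cj x A : Subgroup Q)) ⟨b, hb⟩)
  obtain ⟨K, hK1, hK2, hK3, hK4⟩ := h.abM0 x hx hcomm
  exact hK3 (hab K hK1 (fun a ha k hk => by
    have := hK2 _ ((h.conj a).2 ha) k hk
    rwa [MulAut.conj_apply] at this) hK4)

end Cfsg.Agent.H212.EP
end

private theorem dce_2682d0c48ff2 : _root_.True := by
  try have : _root_.True := by simp only [_root_.Cfsg.Agent.H212.EP.cr.eq_1]
  try have : _root_.True := by simp only [_root_.Cfsg.Agent.H212.EP.spl.eq_1]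
  try have : _root_.True := by simp only [_root_.Cfsg.Agent.H212.EP.cr.eq_def]
  try have : _root_.True := by simp only [_root_.Cfsg.Agent.H212.EP.cr.eq_2]
  exact _root_.True.intro
end

-- part: H212/EP/AutCards
section
set_option linter.all false
open scoped Cfsg.Agent.FastGrp

/-!
# S3499: orders of automorphism groups, orders of models
-/

set_option autoImplicit false

namespace Cfsg.Agent.H212.EP

open Subgroup Cfsg.Agent.H284 Cfsg.Agent.H419.EP
open scoped MatrixGroups

/-- `|A|` divides `|Aut L|` -/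
theorem card_dvd_aut {Q : Type*} [Group Q] {A : Subgroup Q} {L : Type*} [Group L] [Finite L] (h : HasSoc A L) :
    Nat.card A ∣ Nat.card (MulAut L) := by
  obtain ⟨f, hf⟩ := h.exists_hom
  exact Subgroup.card_dvd_of_injective f hf

/-- `|PGL_2(q)|` -/
theorem card_pgl {F : Type*} [Field F] [Fintype F] : Nat.card (Matrix.ProjGenLinGroup (Fin 2) F) =
    Fintype.card F * (Fintype.card F ^ 2 - 1) := by
  classical
  have h2 : Nat.card (Matrix.ProjGenLinGroup (Fin 2) F) * (Fintype.card F - 1) = Nat.card (GL (Fin 2) F) :=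
    Cfsg.Agent.ClassicalGeometry.PSL2Basic.card_PGL_mul (Fin 2) F
  rw [Matrix.card_GL_field] at h2
  have h3 : 0 < Fintype.card F - 1 := by
    have := Fintype.one_lt_card (α := F)
    omega
  have h4 : Nat.card (Matrix.ProjGenLinGroup (Fin 2) F) * (Fintype.card F - 1) =
    (Fintype.card F * (Fintype.card F ^ 2 - 1)) * (Fintype.card F - 1) := by
    rw [h2, Fin.prod_univ_two]
    obtain ⟨q, hq⟩ : ∃ q, Fintype.card F = q + 1 := ⟨Fintype.card F - 1, by omega⟩
    rw [hq]
    simp only [Fin.val_zero, Fin.val_one, pow_zero, pow_one, Nat.add_sub_cancel]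
    have e1 : (q + 1) ^ 2 - 1 = q * (q + 2) := by
      have : (q + 1) ^ 2 = q * (q + 2) + 1 := by ring
      omega
    have e2 : (q + 1) ^ 2 - (q + 1) = q * (q + 1) := by
      have : (q + 1) ^ 2 = q * (q + 1) + (q + 1) := by ring
      omega
    rw [e1, e2]
    ring
  exact Nat.eq_of_mul_eq_mul_right h3 h4

/-- `|Aut PSL_2(p^f)|` -/
theorem aut_psl_two {F : Type*} [Field F] [Fintype F] {p f : ℕ} (hp : p.Prime) (hf : 1 ≤ f)
    (hF : Fintype.card F = p ^ f) (h4 : 4 ≤ p ^ f) :
    Nat.card (MulAut (Matrix.ProjectiveSpecialLinearGroup (Fin 2) F)) = f * (p ^ f * ((p ^ f) ^ 2 - 1)) := by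
  have : Fact p.Prime := ⟨hp⟩
  rw [Cfsg.Agent.S0813.result p f hf hF 2 le_rfl (fun _ => h4), if_pos rfl, card_pgl, hF, one_mul]

theorem aut_l11 : Nat.card (MulAut (Matrix.ProjectiveSpecialLinearGroup (Fin 2) (ZMod 11))) = 1320 := by
  have : Fact (Nat.Prime 11) := ⟨by norm_num⟩
  have h := aut_psl_two (F := ZMod 11) (p := 11) (f := 1) (by norm_num) le_rfl (by rw [ZMod.card]; norm_num)
    (by norm_num)
  rw [h]
  norm_num

theorem aut_l13 : Nat.card (MulAut (Matrix.ProjectiveSpecialLinearGroup (Fin 2) (ZMod 13))) = 2184 := by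
  have : Fact (Nat.Prime 13) := ⟨by norm_num⟩
  have h := aut_psl_two (F := ZMod 13) (p := 13) (f := 1) (by norm_num) le_rfl (by rw [ZMod.card]; norm_num)
    (by norm_num)
  rw [h]
  norm_num

theorem aut_l25 {K : Type*} [Field K] [Fintype K] (hK : Fintype.card K = 25) :
    Nat.card (MulAut (Matrix.ProjectiveSpecialLinearGroup (Fin 2) K)) = 31200 := by
  rw [aut_psl_two (F := K) (p := 5) (f := 2) (by norm_num) (by norm_num) (by rw [hK]; norm_num) (by norm_num)]
  norm_num

/-- `|PSp_4(5)| = 4680000` -/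
theorem card_psp45 {K : Type*} [Field K] [Fintype K] (hK : Fintype.card K = 5) : Nat.card (Cfsg.PSp 2 K) = 4680000 := by
  have h1 := Cfsg.Agent.S0245.result hK 2
  have h2 := Cfsg.Agent.S0246.result hK 2 (by norm_num)
  have h3 := Subgroup.card_eq_card_quotient_mul_card_subgroup (Subgroup.center (Matrix.symplecticGroup (Fin 2) K))
  rw [h1, h2] at h3
  have h4 : Nat.card (Cfsg.PSp 2 K) = Nat.card ((Matrix.symplecticGroup (Fin 2) K) ⧸
    (Subgroup.center (Matrix.symplecticGroup (Fin 2) K))) := rfl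
  rw [h4]
  simp only [Finset.prod_range_succ, Finset.prod_range_zero] at h3
  norm_num at h3
  omega

theorem aut_psp45 {K : Type*} [Field K] [Fintype K] (hK : Fintype.card K = 5) :
    Nat.card (MulAut (Cfsg.PSp 2 K)) = 9360000 := by
  have : Fact (Nat.Prime 5) := ⟨by norm_num⟩
  rw [Cfsg.Agent.S0814.result (F := K) 5 1 le_rfl (by rw [hK]; norm_num) 2 le_rfl (fun _ => by norm_num), card_psp45 hK]
  norm_num

theorem aut_g24 {K : Type*} [Field K] [Fintype K] (hK : Fintype.card K = 4) (hs : IsSimpleGroup (Cfsg.Lie.G2 K))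
    (hna : ¬ IsMulCommutative (Cfsg.Lie.G2 K)) : Nat.card (MulAut (Cfsg.Lie.G2 K)) = 503193600 := by
  have : Fact (Nat.Prime 2) := ⟨Nat.prime_two⟩
  have hch : CharP K 2 := by
    obtain ⟨p, hp⟩ := CharP.exists K
    have hpp := CharP.char_is_prime K p
    obtain ⟨n, -, hn⟩ := FiniteField.card K p
    have h1 : p ∣ 2 ^ 2 := by
      rw [show (2 : ℕ) ^ 2 = Fintype.card K by rw [hK]; norm_num, hn]
      exact dvd_pow_self _ n.ne_zero
    have h2 := (Nat.prime_dvd_prime_iff_eq hpp Nat.prime_two).1 (hpp.dvd_of_dvd_pow h1)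
    rwa [h2] at hp
  obtain ⟨e⟩ := Cfsg.Agent.H638.G2Iso.equiv (F := K)
  have hfin : Finite (Cfsg.Lie.chevG2.group K) := inferInstance
  have hsc : IsSimpleGroup (Cfsg.Lie.chevG2.group K) := e.symm.isSimpleGroup
  have hnac : ¬ IsMulCommutative (Cfsg.Lie.chevG2.group K) := by
    intro hc
    apply hna
    refine ⟨⟨fun a b => e.injective ?_⟩⟩
    rw [map_mul, map_mul]
    exact hc.is_comm.comm _ _
  rw [Nat.card_congr (MulAut.congr e).toEquiv, ← H934.OutB.card_out_mul (Cfsg.Lie.chevG2.group K) hnac,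
    Cfsg.Agent.S2121.result (F := K) 2 2 (by rw [hK]; norm_num) (by norm_num), if_neg (by norm_num),
    ← Nat.card_congr e.toEquiv, H638.G2Iso.card_G2, Nat.card_eq_fintype_card, hK]
  norm_num

theorem aut_suz {M : Type*} [Group M] (h : Cfsg.Spor.IsoSuz M) : Nat.card (MulAut M) ∣ 896690995200 := by
  obtain ⟨e⟩ := h
  rw [Nat.card_congr (MulAut.congr e).toEquiv]
  have h1 := card_mul_index (MulAut.conj : Spor.Suz →* MulAut Spor.Suz).range
  rw [← h1, show 896690995200 = 448345497600 * 2 by norm_num]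
  refine mul_dvd_mul ?_ ?_
  · have h2 : Nat.card Spor.Suz = 448345497600 := Cfsg.Agent.S1694.result.2
    rw [← h2]
    exact Subgroup.card_range_dvd _
  · rcases Cfsg.Agent.KFacts.SuzOut.index_eq with h2 | h2 <;> rw [h2]
    exact one_dvd 2

/-! ### models -/

/-- `|S| ≤ |Q| (q - 1)` -/
theorem card_le_model {Q : Type*} [Group Q] [Finite Q] {ι : Type} [Fintype ι] [DecidableEq ι] {F : Type*} [Field F]
    [Fintype F] {S : Subgroup (GL ι F)} (m : Model Q S) : Nat.card S ≤ Nat.card Q * (Fintype.card F - 1) := by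
  classical
  have h1 := Subgroup.card_eq_card_quotient_mul_card_subgroup m.π.ker
  have h2 : Nat.card (S ⧸ m.π.ker) = Nat.card Q :=
    Nat.card_congr (QuotientGroup.quotientKerEquivOfSurjective m.π m.surj).toEquiv
  rw [h2] at h1
  rw [h1]
  apply Nat.mul_le_mul_left
  have h3 : Nat.card (Cfsg.Geo.scalars ι F) ≤ Fintype.card F - 1 := by
    have h4 : Nat.card (Cfsg.Geo.scalars ι F) ≤ Nat.card Fˣ := by
      unfold Cfsg.Geo.scalars
      exact Nat.le_of_dvd Nat.card_pos (Subgroup.card_range_dvd _)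
    rw [Nat.card_eq_fintype_card (α := Fˣ), Fintype.card_units] at h4
    exact h4
  refine le_trans ?_ h3
  let f : m.π.ker → Cfsg.Geo.scalars ι F := fun s => ⟨(s : S), (m.ker s).1 s.2⟩
  have hf : Function.Injective f := by
    intro a b h
    exact Subtype.ext (Subtype.ext (congrArg (fun z : Cfsg.Geo.scalars ι F => (z : GL ι F)) h))
  exact Nat.card_le_card_of_injective f hf

theorem card_Q {Q : Type*} [Group Q] (A : Subgroup Q) : A.index * Nat.card A = Nat.card Q := A.index_mul_card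

end Cfsg.Agent.H212.EP
end

-- part: H342/EP/L213
section
prune_inst 0x10000000400002
set_option linter.all false
open scoped Cfsg.Agent.FastGrp

-- part: H342/EP/Good
section
/-!
# The case `L = PSL₂(13)` of the extremely primitive groups, part 1 (helper342)

An abstract count: `N ⊴ G`, `N` simple of order `1092`, `|G : N| ≤ 2`. The subgroups `M ≠ G` of `G`, not abelian, which
contain the normalisers of their nontrivial fully invariant subgroups: at most `820`.
-/

set_option autoImplicit false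
set_option linter.unusedSectionVars false

namespace Cfsg.Agent.H342.EP

open Subgroup

section basic

variable {G : Type*} [Group G]

/-- `X ≤ M` is invariant under the endomorphisms of `M` -/
def Inv (M X : Subgroup G) : Prop :=
  X ≤ M ∧ ∀ φ : M →* M, ∀ m : M, (m : G) ∈ X → ((φ m : M) : G) ∈ X

/-- the subgroups to be counted -/
structure Good (M : Subgroup G) : Prop where
  nab : ¬ ∀ a ∈ M, ∀ b ∈ M, a * b = b * a
  ne : M ≠ ⊤
  norm : ∀ X : Subgroup G, Inv M X → X ≠ ⊥ → ∀ g : G, (∀ k ∈ X, g * k * g⁻¹ ∈ X) → g ∈ M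

theorem Inv.conj {M X : Subgroup G} (h : Inv M X) {m : G} (hm : m ∈ M) {k : G} (hk : k ∈ X) : m * k * m⁻¹ ∈ X :=
  h.2 (MulAut.conj (⟨m, hm⟩ : M)).toMonoidHom ⟨k, h.1 hk⟩ hk

theorem Good.eq_norm {M X : Subgroup G} (h : Good M) (hX : Inv M X) (hne : X ≠ ⊥) :
    M = normalizer (X : Set G) := by
  apply le_antisymm
  · intro m hm
    rw [mem_normalizer_iff]
    intro k
    constructor
    · exact fun hk => hX.conj hm hk
    · intro hk
      have := hX.conj (M.inv_mem hm) hk
      have e : m⁻¹ * (m * k * m⁻¹) * m⁻¹⁻¹ = k := by group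
      rwa [e] at this
  · intro g hg
    exact h.norm X hX hne g fun k hk => (mem_normalizer_iff.1 hg k).1 hk

theorem inv_closure (M : Subgroup G) (n : ℕ) : Inv M (_root_.Subgroup.closure {m | m ∈ M ∧ m ^ n = 1}) := by
  refine ⟨(closure_le _).2 fun x hx => hx.1, ?_⟩
  intro φ m hm
  have h1 : _root_.Subgroup.closure {m | m ∈ M ∧ m ^ n = 1} ≤
      (((closure {m | m ∈ M ∧ m ^ n = 1}).subgroupOf M).comap φ).map M.subtype := by
    rw [closure_le]
    rintro x ⟨hx1, hx2⟩
    refine ⟨⟨x, hx1⟩, ?_, rfl⟩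
    refine _root_.Subgroup.subset_closure ⟨(φ ⟨x, hx1⟩).2, ?_⟩
    have h2 : (⟨x, hx1⟩ : M) ^ n = 1 := Subtype.ext hx2
    have h3 : (φ ⟨x, hx1⟩) ^ n = 1 := by rw [← map_pow, h2, map_one]
    have h4 := congrArg (fun y : M => (y : G)) h3
    exact h4
  obtain ⟨y, hy, e⟩ := h1 hm
  have e' : y = m := Subtype.ext e
  subst e'
  exact hy

theorem closure_conj (n : ℕ) (g : G) {k : G} (hk : k ∈ _root_.Subgroup.closure {m : G | m ^ n = 1}) :
    g * k * g⁻¹ ∈ closure {m : G | m ^ n = 1} := by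
  have h1 : _root_.Subgroup.closure {m : G | m ^ n = 1} ≤ (closure {m : G | m ^ n = 1}).comap (MulAut.conj g).toMonoidHom := by
    rw [closure_le]
    intro x hx
    refine _root_.Subgroup.subset_closure ?_
    show (g * x * g⁻¹) ^ n = 1
    rw [conj_pow, hx, mul_one, mul_inv_cancel]
  exact h1 hk

theorem exists_sylow_eq [Finite G] {X : Subgroup G} {p n : ℕ} [hp : Fact p.Prime] (hc : Nat.card X = p ^ n)
    (hp2 : ¬ p ^ (n + 1) ∣ Nat.card G) : ∃ P : Sylow p G, (P : Subgroup G) = X := by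
  obtain ⟨P, hP⟩ := (IsPGroup.of_card hc).exists_le_sylow
  refine ⟨P, (Subgroup.eq_of_le_of_card_ge hP ?_).symm⟩
  obtain ⟨m, hm⟩ := IsPGroup.iff_card.1 P.2
  rw [hc]
  have h1 : Nat.card P = Nat.card (P : Subgroup G) := rfl
  rw [h1, hm]
  apply Nat.pow_le_pow_right hp.out.pos
  by_contra hlt
  apply hp2
  refine dvd_trans ?_ (card_subgroup_dvd_card (P : Subgroup G))
  rw [hm]
  exact pow_dvd_pow p (by omega)

theorem card_sylow_dvd [Finite G] {p a b : ℕ} [hp : Fact p.Prime] (hG : Nat.card G ∣ p ^ a * b) :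
    Nat.card (Sylow p G) ∣ b := by
  obtain ⟨P⟩ : Nonempty (Sylow p G) := inferInstance
  refine dvd_trans P.card_dvd_index ?_
  have h1 : ((P : Subgroup G).index).Coprime (p ^ a) := by
    apply Nat.Coprime.pow_right
    rw [Nat.coprime_comm, Nat.Prime.coprime_iff_not_dvd hp.out]
    exact P.not_dvd_index
  exact h1.dvd_of_dvd_mul_left (dvd_trans (index_dvd_card _) hG)

theorem card_sylow_mod [Finite G] {p : ℕ} [hp : Fact p.Prime] : Nat.card (Sylow p G) % p = 1 := by
  have h := card_sylow_modEq_one p G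
  rw [Nat.ModEq, Nat.mod_eq_of_lt hp.out.one_lt] at h
  exact h

/-- the unique Sylow subgroup -/
theorem exists_unique_syl [Finite G] (K : Subgroup G) {p : ℕ} [hp : Fact p.Prime] (h1 : p ∣ Nat.card K)
    (h2 : ¬ p ^ 2 ∣ Nat.card K) (h3 : Nat.card (Sylow p K) = 1) :
    ∃ X : Subgroup G, Nat.card X = p ∧ X ≤ K ∧ ∀ g ∈ K, g ^ p = 1 → g ∈ X := by
  have hs : Subsingleton (Sylow p K) := (Nat.card_eq_one_iff_unique.1 h3).1
  obtain ⟨x, hx⟩ := exists_prime_orderOf_dvd_card' (G := K) p h1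
  have hz : Nat.card (zpowers x) = p ^ 1 := by rw [Nat.card_zpowers, hx, pow_one]
  obtain ⟨P, hP⟩ := exists_sylow_eq hz h2
  refine ⟨(P : Subgroup K).map K.subtype, ?_, ?_, ?_⟩
  · rw [hP, Nat.card_congr ((zpowers x).equivMapOfInjective _ K.subtype_injective).symm.toEquiv, hz, pow_one]
  · rintro _ ⟨y, _, rfl⟩
    exact y.2
  · intro g hg hgp
    have h4 : IsPGroup p (zpowers (⟨g, hg⟩ : K)) := by
      intro y
      refine ⟨1, ?_⟩
      obtain ⟨y, k, rfl⟩ := y
      apply Subtype.ext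
      show ((⟨g, hg⟩ : K) ^ k) ^ (p ^ 1) = 1
      rw [pow_one, ← zpow_natCast, ← zpow_mul, mul_comm, zpow_mul, zpow_natCast]
      have : (⟨g, hg⟩ : K) ^ p = 1 := Subtype.ext hgp
      rw [this, one_zpow]
    obtain ⟨R, hR⟩ := h4.exists_le_sylow
    rw [Subsingleton.elim R P] at hR
    exact ⟨⟨g, hg⟩, hR (mem_zpowers _), rfl⟩

theorem eq_top_of_dvd {N : Type*} [Group N] [Finite N] (hs : IsSimpleGroup N) (hc : Nat.card N = 1092)
    {K : Subgroup N} (hK : 91 ∣ Nat.card K) : K = ⊤ := by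
  have h1 : Nat.card K * K.index = 1092 := by rw [card_mul_index, hc]
  obtain ⟨c, hc'⟩ := hK
  have h2 : K.index ∣ 12 := by
    rw [hc'] at h1
    have h4 : 91 * (c * K.index) = 91 * 12 := by rw [← mul_assoc, h1]
    exact ⟨c, by rw [mul_comm]; exact (Nat.eq_of_mul_eq_mul_left (by norm_num) h4).symm⟩
  have h3 : K.index ≤ 12 := Nat.le_of_dvd (by norm_num) h2
  rcases hs.eq_bot_or_eq_top_of_normal K.normalCore inferInstance with h | h
  · exfalso
    have h4 : Function.Injective (MulAction.toPermHom N (N ⧸ K)) := by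
      rw [← MonoidHom.ker_eq_bot_iff, ← normalCore_eq_ker, h]
    have h5 := Subgroup.card_dvd_of_injective _ h4
    rw [hc, Nat.card_perm] at h5
    have h6 : 13 ∣ (Nat.card (N ⧸ K)).factorial := dvd_trans (by norm_num) h5
    rw [Nat.Prime.dvd_factorial (by norm_num)] at h6
    have : Nat.card (N ⧸ K) = K.index := rfl
    omega
  · rw [eq_top_iff, ← h]
    exact normalCore_le K

/-- a group of order `12` with four Sylow `3`-subgroups -/
theorem exists_V {K : Type*} [Group K] [Finite K] (h12 : Nat.card K = 12) (h4 : Nat.card (Sylow 3 K) = 4) :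
    ∃ W : Subgroup K, Nat.card W = 4 ∧ (∀ x, x ^ 4 = 1 → x ∈ W) ∧ _root_.Subgroup.closure {x : K | x ^ 3 = 1} = ⊤ := by
  have hp : Fact (Nat.Prime 3) := ⟨by norm_num⟩
  obtain ⟨x, hx⟩ := exists_prime_orderOf_dvd_card' (G := K) 3 (by rw [h12]; norm_num)
  have hz : Nat.card (zpowers x) = 3 ^ 1 := by rw [Nat.card_zpowers, hx, pow_one]
  obtain ⟨P, hP⟩ := exists_sylow_eq hz (by rw [h12]; norm_num)
  have hPc : Nat.card (P : Subgroup K) = 3 := by rw [hP, hz, pow_one]
  have hn : Nat.card (normalizer ((P : Subgroup K) : Set K)) = 3 := by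
    have h1 := P.card_eq_index_normalizer
    have h2 := card_mul_index (normalizer ((P : Subgroup K) : Set K))
    have h3 : (normalizer ((P : Subgroup K) : Set K)).index = 4 := h1.symm.trans h4
    rw [h3, h12] at h2
    omega
  have hne : (P : Subgroup K) = normalizer ((P : Subgroup K) : Set K) :=
    Subgroup.eq_of_le_of_card_ge le_normalizer (by rw [hn, hPc])
  have hle : normalizer ((P : Subgroup K) : Set K) ≤ centralizer ((P : Subgroup K) : Set K) := by
    rw [← hne]
    have hcyc : IsCyclic (P : Subgroup K) := isCyclic_of_prime_card (p := 3) hPc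
    intro a ha
    rw [mem_centralizer_iff]
    intro b hb
    have h5 := hcyc.isMulCommutative.is_comm.comm (⟨b, hb⟩ : (P : Subgroup K)) ⟨a, ha⟩
    exact Subtype.ext_iff.1 h5
  refine ⟨(MonoidHom.transferSylow P hle).ker, ?_, ?_, ?_⟩
  · have h5 := (MonoidHom.ker_transferSylow_isComplement' P hle).card_mul_card
    rw [h12] at h5
    have h7 : Nat.card (MonoidHom.transferSylow P hle).ker * 3 = 12 :=
      (congrArg (fun n => Nat.card (MonoidHom.transferSylow P hle).ker * n) hPc).symm.trans h5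
    omega
  · intro y hy
    rw [MonoidHom.mem_ker]
    have h5 : (MonoidHom.transferSylow P hle y) ^ 4 = 1 := by rw [← map_pow, hy, map_one]
    have h6 : (MonoidHom.transferSylow P hle y) ^ 3 = 1 := by
      have h7 := pow_card_eq_one' (x := MonoidHom.transferSylow P hle y)
      have h8 : Nat.card P = 3 := hPc
      rwa [h8] at h7
    rw [pow_succ, h6, one_mul] at h5
    exact h5
  · have hT : (_root_.Subgroup.closure {x : K | x ^ 3 = 1}).Normal := ⟨fun k hk g => closure_conj 3 g hk⟩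
    have hPT : (P : Subgroup K) ≤ _root_.Subgroup.closure {x : K | x ^ 3 = 1} := by
      intro y hy
      refine _root_.Subgroup.subset_closure ?_
      have h7 := pow_card_eq_one' (x := (⟨y, hy⟩ : (P : Subgroup K)))
      rw [hPc] at h7
      exact Subtype.ext_iff.1 h7
    have h8 := Sylow.normalizer_sup_eq_top' P hPT
    have h9 : normalizer ((P : Subgroup K) : Set K) ⊔ closure {x : K | x ^ 3 = 1} = ⊤ := h8
    rw [← hne, sup_eq_right.2 hPT] at h9
    exact h9

end basic

section main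

variable {G : Type*} [Group G] [Finite G] {N : Subgroup G} [hN : N.Normal]

theorem mem_of_pow (hi : N.index ≤ 2) {p : ℕ} (hp : Odd p) {g : G} (hg : g ^ p = 1) : g ∈ N := by
  have h1 : g ^ N.index ∈ N := N.pow_index_mem g
  have h0 : N.index ≠ 0 := index_ne_zero_of_finite
  have h2 : N.index = 1 ∨ N.index = 2 := by omega
  rcases h2 with h | h
  · rw [h, pow_one] at h1
    exact h1
  · rw [h] at h1
    obtain ⟨k, rfl⟩ := hp
    have h3 : g = ((g ^ 2) ^ k)⁻¹ := by
      rw [← pow_mul, eq_inv_iff_mul_eq_one, ← pow_succ']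
      exact hg
    rw [h3]
    exact N.inv_mem (N.pow_mem h1 k)

theorem Good.not_le {M : Subgroup G} (h : Good M) (hi : N.index ≤ 2) (hc : Nat.card N = 1092) : ¬ N ≤ M := by
  intro hle
  apply h.ne
  rw [eq_top_iff']
  intro g
  have hp : Fact (Nat.Prime 13) := ⟨by norm_num⟩
  have hset : {m | m ∈ M ∧ m ^ 13 = 1} = {m : G | m ^ 13 = 1} := by
    ext x
    exact ⟨fun hx => hx.2, fun hx => ⟨hle (mem_of_pow hi (by decide) hx), hx⟩⟩
  have hI := inv_closure M 13
  rw [hset] at hI
  refine h.norm _ hI ?_ g fun k hk => closure_conj 13 g hk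
  obtain ⟨x, hx⟩ := exists_prime_orderOf_dvd_card' (G := N) 13 (by rw [hc]; norm_num)
  intro hb
  have h1 : (x : G) ∈ _root_.Subgroup.closure {m : G | m ^ 13 = 1} := by
    refine _root_.Subgroup.subset_closure ?_
    have h2 := pow_orderOf_eq_one x
    rw [hx] at h2
    exact Subtype.ext_iff.1 h2
  rw [hb, mem_bot] at h1
  have h2 : x = 1 := Subtype.ext h1
  rw [h2, orderOf_one] at hx
  omega

theorem inv_of_pow {M X : Subgroup G} {p : ℕ} (hi : N.index ≤ 2) (hp : Odd p) (hc : Nat.card X = p)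
    (hX : X ≤ M ⊓ N) (h : ∀ g ∈ M ⊓ N, g ^ p = 1 → g ∈ X) : Inv M X := by
  refine ⟨hX.trans inf_le_left, fun φ m hm => ?_⟩
  have h1 : m ^ p = 1 := by
    have h2 := pow_card_eq_one' (x := (⟨m, hm⟩ : X))
    rw [hc] at h2
    have h2' : (m : G) ^ p = 1 := congrArg Subtype.val h2
    exact Subtype.ext h2'
  have h3 : (φ m) ^ p = 1 := by rw [← map_pow, h1, map_one]
  have h4 : ((φ m : M) : G) ^ p = 1 := Subtype.ext_iff.1 h3
  exact h _ ⟨(φ m).2, mem_of_pow hi hp h4⟩ h4

theorem dvd_inf {M : Subgroup G} {p : ℕ} [hp : Fact p.Prime] (hi : N.index ≤ 2) (hodd : Odd p)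
    (h : p ∣ Nat.card M) : p ∣ Nat.card (M ⊓ N : Subgroup G) := by
  obtain ⟨x, hx⟩ := exists_prime_orderOf_dvd_card' (G := M) p h
  have h1 : (x : G) ^ p = 1 := by
    have h2 := pow_orderOf_eq_one x
    rw [hx] at h2
    exact Subtype.ext_iff.1 h2
  have h4 : (x : G) ∈ M ⊓ N := ⟨x.2, mem_of_pow hi hodd h1⟩
  have h3 : orderOf (⟨x, h4⟩ : (M ⊓ N : Subgroup G)) = p :=
    (Subgroup.orderOf_coe (⟨x, h4⟩ : (M ⊓ N : Subgroup G))).symm.trans ((Subgroup.orderOf_coe x).trans hx)
  rw [← h3]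
  exact _root_.orderOf_dvd_natCard _

/-- the groups which are the normaliser of a Sylow subgroup -/
def RN (G : Type*) [Group G] (p : ℕ) : Set (Subgroup G) :=
  Set.range fun P : Sylow p G => normalizer ((P : Subgroup G) : Set G)

theorem ncard_RN {p : ℕ} : (RN G p).ncard ≤ Nat.card (Sylow p G) := by
  rw [RN, ← Set.image_univ, ← Set.ncard_univ]
  exact Set.ncard_image_le Set.finite_univ

/-- the normalisers of the Sylow `2`-subgroups of `N`, when these are divisible by `12` -/
def RV (N : Subgroup G) : Set (Subgroup G) :=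
  {M | ∃ P : Sylow 2 N, 12 ∣ Nat.card (normalizer ((P : Subgroup N) : Set N)) ∧
    M = normalizer (((P : Subgroup N).map N.subtype : Subgroup G) : Set G)}

theorem ncard_RV (hc : Nat.card N = 1092) : (RV N).ncard ≤ 91 := by
  have hp : Fact (Nat.Prime 2) := ⟨by norm_num⟩
  by_cases h : ∃ P : Sylow 2 N, 12 ∣ Nat.card (normalizer ((P : Subgroup N) : Set N))
  · obtain ⟨P, hP⟩ := h
    have h1 : RV N ⊆ Set.range fun P : Sylow 2 N =>
        normalizer (((P : Subgroup N).map N.subtype : Subgroup G) : Set G) := by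
      rintro _ ⟨P, _, rfl⟩
      exact ⟨P, rfl⟩
    refine (Set.ncard_le_ncard h1 (Set.toFinite _)).trans ?_
    rw [← Set.image_univ]
    refine (Set.ncard_image_le Set.finite_univ).trans ?_
    rw [Set.ncard_univ, P.card_eq_index_normalizer]
    have h2 := card_mul_index (normalizer ((P : Subgroup N) : Set N))
    rw [hc] at h2
    have h3 := Nat.le_of_dvd Nat.card_pos hP
    have h4 : 12 * (normalizer ((P : Subgroup N) : Set N)).index ≤ 1092 := by
      rw [← h2]
      exact Nat.mul_le_mul_right _ h3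
    show (normalizer ((P : Subgroup N) : Set N)).index ≤ 91
    omega
  · have h1 : RV N = ∅ := by
      rw [Set.eq_empty_iff_forall_notMem]
      rintro _ ⟨P, hP, rfl⟩
      exact h ⟨P, hP⟩
    rw [h1, Set.ncard_empty]
    omega

theorem good_mem (hs : IsSimpleGroup N) (hc : Nat.card N = 1092) (hi : N.index ≤ 2) {M : Subgroup G} (h : Good M) :
    M ∈ RN G 13 ∪ RN G 7 ∪ RN G 3 ∪ RV N ∪ Set.range fun P : Sylow 2 G => (P : Subgroup G) := by
  have p13 : Fact (Nat.Prime 13) := ⟨by norm_num⟩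
  have p7 : Fact (Nat.Prime 7) := ⟨by norm_num⟩
  have p3 : Fact (Nat.Prime 3) := ⟨by norm_num⟩
  have p2 : Fact (Nat.Prime 2) := ⟨by norm_num⟩
  have hG : Nat.card G ∣ 2184 := by
    have h1 := card_mul_index N
    rw [hc] at h1
    have h0 : N.index ≠ 0 := index_ne_zero_of_finite
    have h2 : N.index = 1 ∨ N.index = 2 := by omega
    rcases h2 with h2 | h2
    · rw [h2] at h1
      rw [← h1]
      norm_num
    · rw [h2] at h1
      rw [← h1]
  have hnd : ∀ {k : ℕ}, ¬ k ∣ 2184 → ¬ k ∣ Nat.card G := fun hk h1 => hk (h1.trans hG)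
  have hKd : Nat.card (M ⊓ N : Subgroup G) ∣ 1092 := by
    rw [← hc]
    exact card_dvd_of_le inf_le_right
  have hndK : ∀ {k : ℕ}, ¬ k ∣ 1092 → ¬ k ∣ Nat.card (M ⊓ N : Subgroup G) := fun hk h1 => hk (h1.trans hKd)
  -- the case of a unique Sylow subgroup
  have key : ∀ p : ℕ, ∀ [Fact p.Prime], Odd p → p ∣ Nat.card (M ⊓ N : Subgroup G) → ¬ p ^ 2 ∣ 1092 →
      ¬ p ^ 2 ∣ 2184 → Nat.card (Sylow p (M ⊓ N : Subgroup G)) = 1 → M ∈ RN G p := by
    intro p hp hodd hd hd1 hd2 hone
    obtain ⟨X, hX1, hX2, hX3⟩ := exists_unique_syl _ hd (hndK hd1) hone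
    have hne : X ≠ ⊥ := by
      intro e
      rw [e, card_bot] at hX1
      exact hp.out.one_lt.ne hX1
    have h1 := h.eq_norm (inv_of_pow hi hodd hX1 hX2 hX3) hne
    obtain ⟨P, hP⟩ := exists_sylow_eq (G := G) (X := X) (p := p) (n := 1) (by rw [hX1, pow_one]) (hnd hd2)
    exact ⟨P, by rw [h1, ← hP]⟩
  by_cases h13 : 13 ∣ Nat.card (M ⊓ N : Subgroup G)
  · have h1 : Nat.card (Sylow 13 (M ⊓ N : Subgroup G)) ∣ 84 := card_sylow_dvd (a := 1) (by norm_num only [_root_.Subgroup.mem_inf]; exact hKd)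
    have h2 : Nat.card (Sylow 13 (M ⊓ N : Subgroup G)) % 13 = 1 := card_sylow_mod
    have h3 : ∀ n ∈ Nat.divisors 84, n % 13 = 1 → n = 1 ∨ n = 14 := by decide
    rcases h3 _ (Nat.mem_divisors.2 ⟨h1, by norm_num⟩) h2 with h4 | h4
    · exact Or.inl (Or.inl (Or.inl (Or.inl (key 13 (by decide) h13 (by norm_num) (by norm_num) h4))))
    · exfalso
      obtain ⟨P⟩ : Nonempty (Sylow 13 (M ⊓ N : Subgroup G)) := inferInstance
      have h5 : 14 ∣ Nat.card (M ⊓ N : Subgroup G) := by
        rw [← h4]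
        exact P.card_dvd_index.trans (index_dvd_card _)
      have h6 : 91 ∣ Nat.card (M ⊓ N : Subgroup G) := by
        have : (91 : ℕ) ∣ Nat.lcm 14 13 := by decide
        exact this.trans (Nat.lcm_dvd h5 h13)
      have h7 : Nat.card ((M ⊓ N : Subgroup G).subgroupOf N) = Nat.card (M ⊓ N : Subgroup G) :=
        Nat.card_congr (subgroupOfEquivOfLe inf_le_right).toEquiv
      rw [← h7] at h6
      have h8 := eq_top_of_dvd hs hc h6
      rw [subgroupOf_eq_top] at h8
      exact h.not_le hi hc (h8.trans inf_le_left)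
  by_cases h7 : 7 ∣ Nat.card (M ⊓ N : Subgroup G)
  · have hK84 : Nat.card (M ⊓ N : Subgroup G) ∣ 7 ^ 1 * 12 := by
      have h1 : (Nat.card (M ⊓ N : Subgroup G)).Coprime 13 := by
        rw [Nat.coprime_comm, Nat.Prime.coprime_iff_not_dvd p13.out]
        exact h13
      exact h1.dvd_of_dvd_mul_left (m := 13) (by norm_num only [_root_.Subgroup.mem_inf]; exact hKd)
    have h1 : Nat.card (Sylow 7 (M ⊓ N : Subgroup G)) ∣ 12 := card_sylow_dvd (a := 1) hK84
    have h2 : Nat.card (Sylow 7 (M ⊓ N : Subgroup G)) % 7 = 1 := card_sylow_mod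
    have h3 : ∀ n ∈ Nat.divisors 12, n % 7 = 1 → n = 1 := by decide
    have h4 := h3 _ (Nat.mem_divisors.2 ⟨h1, by norm_num⟩) h2
    exact Or.inl (Or.inl (Or.inl (Or.inr (key 7 (by decide) h7 (by norm_num) (by norm_num) h4))))
  have hK12 : Nat.card (M ⊓ N : Subgroup G) ∣ 3 ^ 1 * 4 := by
    have h1 : (Nat.card (M ⊓ N : Subgroup G)).Coprime (13 * 7) := by
      apply Nat.Coprime.mul_right
      · rw [Nat.coprime_comm, Nat.Prime.coprime_iff_not_dvd p13.out]
        exact h13
      · rw [Nat.coprime_comm, Nat.Prime.coprime_iff_not_dvd p7.out]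
        exact h7
    exact h1.dvd_of_dvd_mul_left (m := 13 * 7) (by norm_num only [_root_.Subgroup.mem_inf]; exact hKd)
  by_cases h3 : 3 ∣ Nat.card (M ⊓ N : Subgroup G)
  · have h1 : Nat.card (Sylow 3 (M ⊓ N : Subgroup G)) ∣ 4 := card_sylow_dvd (a := 1) hK12
    have h2 : Nat.card (Sylow 3 (M ⊓ N : Subgroup G)) % 3 = 1 := card_sylow_mod
    have h5 : ∀ n ∈ Nat.divisors 4, n % 3 = 1 → n = 1 ∨ n = 4 := by decide
    rcases h5 _ (Nat.mem_divisors.2 ⟨h1, by norm_num⟩) h2 with h4 | h4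
    · exact Or.inl (Or.inl (Or.inr (key 3 (by decide) h3 (by norm_num) (by norm_num) h4)))
    · refine Or.inl (Or.inr ?_)
      obtain ⟨P⟩ : Nonempty (Sylow 3 (M ⊓ N : Subgroup G)) := inferInstance
      have h6 : 4 ∣ Nat.card (M ⊓ N : Subgroup G) := by
        rw [← h4]
        exact P.card_dvd_index.trans (index_dvd_card _)
      have h8 : Nat.card (M ⊓ N : Subgroup G) = 12 := by
        have h9 : (12 : ℕ) ∣ Nat.card (M ⊓ N : Subgroup G) := by
          have : (12 : ℕ) ∣ Nat.lcm 4 3 := by decide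
          exact this.trans (Nat.lcm_dvd h6 h3)
        exact Nat.dvd_antisymm (hK12.trans (by norm_num)) h9
      obtain ⟨W, hW1, hW2, hW3⟩ := exists_V h8 h4
      -- `K` is the closure of the elements of order 3
      have hT : M ⊓ N = _root_.Subgroup.closure {m | m ∈ M ∧ m ^ 3 = 1} := by
        apply le_antisymm
        · have e1 : (⊤ : Subgroup (M ⊓ N : Subgroup G)).map (M ⊓ N : Subgroup G).subtype = M ⊓ N := by
            rw [← MonoidHom.range_eq_map, range_subtype]
          rw [← hW3, MonoidHom.map_closure] at e1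
          rw [← e1]
          apply Subgroup.closure_mono
          rintro _ ⟨y, hy, rfl⟩
          exact ⟨(mem_inf.1 y.2).1, Subtype.ext_iff.1 hy⟩
        · rw [closure_le]
          rintro x ⟨hx1, hx2⟩
          exact ⟨hx1, mem_of_pow hi (by decide) hx2⟩
      let V : Subgroup G := W.map (M ⊓ N : Subgroup G).subtype
      have hVK : V ≤ M ⊓ N := by
        rintro _ ⟨y, _, rfl⟩
        exact y.2
      have hVc : Nat.card V = 4 := by
        rw [← hW1]
        exact Nat.card_congr (W.equivMapOfInjective _ (subtype_injective _)).symm.toEquiv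
      have hVI : Inv M V := by
        refine ⟨hVK.trans inf_le_left, fun φ m hm => ?_⟩
        have e1 : m ^ 4 = 1 := by
          have h2 := pow_card_eq_one' (x := (⟨m, hm⟩ : V))
          rw [hVc] at h2
          have h2' : (m : G) ^ 4 = 1 := congrArg Subtype.val h2
          exact Subtype.ext h2'
        have e3 : (φ m) ^ 4 = 1 := by rw [← map_pow, e1, map_one]
        have e4 : ((φ m : M) : G) ^ 4 = 1 := Subtype.ext_iff.1 e3
        have e5 : ((φ m : M) : G) ∈ M ⊓ N := by
          rw [hT]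
          refine (inv_closure M 3).2 φ m ?_
          rw [← hT]
          exact hVK hm
        exact ⟨⟨_, e5⟩, hW2 _ (Subtype.ext e4), rfl⟩
      have hVne : V ≠ ⊥ := by
        intro e
        rw [e, card_bot] at hVc
        omega
      have hM := h.eq_norm hVI hVne
      have hVN : Nat.card (V.subgroupOf N) = 4 := by
        rw [← hVc]
        exact Nat.card_congr (subgroupOfEquivOfLe (hVK.trans inf_le_right)).toEquiv
      obtain ⟨P, hP⟩ := exists_sylow_eq (G := N) (X := V.subgroupOf N) (p := 2) (n := 2) (by rw [hVN]; norm_num)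
        (by rw [hc]; norm_num)
      refine ⟨P, ?_, ?_⟩
      · have e1 : (M ⊓ N : Subgroup G).subgroupOf N ≤ normalizer ((P : Subgroup N) : Set N) := by
          intro y hy
          rw [mem_subgroupOf] at hy
          have hy1 : (y : G) ∈ normalizer (V : Set G) := by
            rw [← hM]
            exact (mem_inf.1 hy).1
          rw [mem_normalizer_iff] at hy1 ⊢
          intro z
          rw [hP]
          exact hy1 z
        have e2 : Nat.card ((M ⊓ N : Subgroup G).subgroupOf N) = 12 := by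
          rw [← h8]
          exact Nat.card_congr (subgroupOfEquivOfLe inf_le_right).toEquiv
        rw [← e2]
        exact card_dvd_of_le e1
      · rw [hP, subgroupOf_map_subtype, inf_of_le_left (hVK.trans inf_le_right)]
        exact hM
  · refine Or.inr ?_
    have hMd : Nat.card M ∣ 8 := by
      have h1 : (Nat.card M).Coprime (13 * 7 * 3) := by
        apply Nat.Coprime.mul_right
        · apply Nat.Coprime.mul_right
          · rw [Nat.coprime_comm, Nat.Prime.coprime_iff_not_dvd p13.out]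
            exact fun hd => h13 (dvd_inf hi (by decide) hd)
          · rw [Nat.coprime_comm, Nat.Prime.coprime_iff_not_dvd p7.out]
            exact fun hd => h7 (dvd_inf hi (by decide) hd)
        · rw [Nat.coprime_comm, Nat.Prime.coprime_iff_not_dvd p3.out]
          exact fun hd => h3 (dvd_inf hi (by decide) hd)
      refine h1.dvd_of_dvd_mul_left (m := 13 * 7 * 3) ?_
      norm_num only []
      exact (card_subgroup_dvd_card M).trans hG
    have h1 : Nat.card M = 2 ^ 3 := by
      have h2 : ∀ n ∈ Nat.divisors 8, n = 1 ∨ n = 2 ∨ n = 4 ∨ n = 2 ^ 3 := by decide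
      rcases h2 _ (Nat.mem_divisors.2 ⟨hMd, by norm_num⟩) with h4 | h4 | h4 | h4
      · exfalso
        apply h.nab
        rw [card_eq_one] at h4
        rw [h4]
        intro a ha b hb
        rw [mem_bot] at ha hb
        rw [ha, hb]
      · exfalso
        apply h.nab
        have hcyc : IsCyclic M := isCyclic_of_prime_card (p := 2) h4
        intro a ha b hb
        exact Subtype.ext_iff.1 (hcyc.isMulCommutative.is_comm.comm (⟨a, ha⟩ : M) ⟨b, hb⟩)
      · exfalso
        apply h.nab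
        have hcom := IsPGroup.isMulCommutative_of_card_eq_prime_sq (p := 2) (G := M) (by rw [h4]; norm_num)
        intro a ha b hb
        exact Subtype.ext_iff.1 (hcom.is_comm.comm (⟨a, ha⟩ : M) ⟨b, hb⟩)
      · exact h4
    obtain ⟨P, hP⟩ := exists_sylow_eq (G := G) (X := M) (p := 2) (n := 3) h1 (hnd (by norm_num))
    exact ⟨P, hP⟩

theorem card_good_le (hs : IsSimpleGroup N) (hc : Nat.card N = 1092) (hi : N.index ≤ 2) :
    {M : Subgroup G | Good M}.ncard ≤ 820 := by
  have p13 : Fact (Nat.Prime 13) := ⟨by norm_num⟩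
  have p7 : Fact (Nat.Prime 7) := ⟨by norm_num⟩
  have p3 : Fact (Nat.Prime 3) := ⟨by norm_num⟩
  have p2 : Fact (Nat.Prime 2) := ⟨by norm_num⟩
  have hG : Nat.card G ∣ 2184 := by
    have h1 := card_mul_index N
    rw [hc] at h1
    have h0 : N.index ≠ 0 := index_ne_zero_of_finite
    have h2 : N.index = 1 ∨ N.index = 2 := by omega
    rcases h2 with h2 | h2
    · rw [h2] at h1
      rw [← h1]
      norm_num
    · rw [h2] at h1
      rw [← h1]
  have c13 : (RN G 13).ncard ≤ 14 := by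
    refine ncard_RN.trans ?_
    have h1 : Nat.card (Sylow 13 G) ∣ 168 := card_sylow_dvd (a := 1) (by norm_num; exact hG)
    have h3 : ∀ n ∈ Nat.divisors 168, n % 13 = 1 → n ≤ 14 := by decide +kernel
    exact h3 _ (Nat.mem_divisors.2 ⟨h1, by norm_num⟩) card_sylow_mod
  have c7 : (RN G 7).ncard ≤ 78 := by
    refine ncard_RN.trans ?_
    have h1 : Nat.card (Sylow 7 G) ∣ 312 := card_sylow_dvd (a := 1) (by norm_num; exact hG)
    have h3 : ∀ n ∈ Nat.divisors 312, n % 7 = 1 → n ≤ 78 := by decide +kernel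
    exact h3 _ (Nat.mem_divisors.2 ⟨h1, by norm_num⟩) card_sylow_mod
  have c3 : (RN G 3).ncard ≤ 364 := by
    refine ncard_RN.trans ?_
    have h1 : Nat.card (Sylow 3 G) ∣ 728 := card_sylow_dvd (a := 1) (by norm_num; exact hG)
    have h3 : ∀ n ∈ Nat.divisors 728, n % 3 = 1 → n ≤ 364 := by decide +kernel
    exact h3 _ (Nat.mem_divisors.2 ⟨h1, by norm_num⟩) card_sylow_mod
  have c2 : (Set.range fun P : Sylow 2 G => (P : Subgroup G)).ncard ≤ 273 := by
    rw [← Set.image_univ]
    refine (Set.ncard_image_le Set.finite_univ).trans ?_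
    rw [Set.ncard_univ]
    have h1 : Nat.card (Sylow 2 G) ∣ 273 := card_sylow_dvd (a := 3) (by norm_num; exact hG)
    exact Nat.le_of_dvd (by norm_num) h1
  have cV := ncard_RV (N := N) hc
  have hsub : {M : Subgroup G | Good M} ⊆
      RN G 13 ∪ RN G 7 ∪ RN G 3 ∪ RV N ∪ Set.range fun P : Sylow 2 G => (P : Subgroup G) :=
    fun M hM => good_mem hs hc hi hM
  refine (Set.ncard_le_ncard hsub (Set.toFinite _)).trans ?_
  refine (Set.ncard_union_le _ _).trans ?_
  have e1 := Set.ncard_union_le (RN G 13 ∪ RN G 7 ∪ RN G 3) (RV N)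
  have e2 := Set.ncard_union_le (RN G 13 ∪ RN G 7) (RN G 3)
  have e3 := Set.ncard_union_le (RN G 13) (RN G 7)
  omega

end main

end Cfsg.Agent.H342.EP
end

-- part: H342/EP/L213
section
/-!
# The case `L = PSL₂(13)` of the extremely primitive groups (helper342)

* `good_of` : the two point stabilisers `A ∩ A^x` are good subgroups of `A` (`EP/Good.lean`);
* `index_le_good` : `|Q : A| ≤ (number of good subgroups of A)²`;
* `l213`, `l213_soc` : `A` with a normal subgroup `N ≅ PSL₂(13)`, `C_A(N) = 1`: `|Q : A| ≤ 820² ≤ 10⁶`.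
-/

set_option autoImplicit false
set_option linter.unusedSectionVars false

namespace Cfsg.Agent.H342.EP

open Subgroup Cfsg.Agent.H284

theorem card_psl13 : Nat.card (Matrix.ProjectiveSpecialLinearGroup (Fin 2) (ZMod 13)) = 1092 := by
  have : Fact (Nat.Prime 13) := ⟨by norm_num⟩
  have h := Cfsg.Agent.SmallSimple.PSLTwoPart.card_psl_two_odd (F := ZMod 13) (by rw [ZMod.card]; decide)
  rw [ZMod.card] at h
  omega

theorem card_aut13 : Nat.card (MulAut (Matrix.ProjectiveSpecialLinearGroup (Fin 2) (ZMod 13))) = 2184 := by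
  have : Fact (Nat.Prime 13) := ⟨by norm_num⟩
  rw [Cfsg.Agent.S0813.result 13 1 le_rfl (by rw [ZMod.card, pow_one]) 2 le_rfl (fun _ => by norm_num),
    Cfsg.Agent.S0265.result, Cfsg.Agent.ClassicalGeometry.PSL2Basic.card_SL2, ZMod.card]
  norm_num

section

variable {Q : Type*} [Group Q] [Finite Q] {A : Subgroup Q} {Γ : Subgroup (MulAut Q)} (h : EPT A Γ) {N : Subgroup Q}
  (hNA : N ≤ A) (hn : ∀ a ∈ A, ∀ n ∈ N, a * n * a⁻¹ ∈ N) (hsN : IsSimpleGroup N)
  (hC : ∀ a ∈ A, (∀ n ∈ N, a * n = n * a) → a = 1)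

include h hNA hn hsN hC in
/-- the two point stabilisers are good -/
theorem good_of {x : Q} (hx : x ∉ A) : Good ((A ⊓ cj x A : Subgroup Q).subgroupOf A) := by
  refine ⟨?_, ?_, ?_⟩
  · intro hab
    obtain ⟨K, h1, h2, h3, h4⟩ := h.abM0 x hx fun a ha b hb =>
      congrArg (fun y : A => (y : Q)) (hab ⟨a, (mem_inf.1 ha).1⟩ ha ⟨b, (mem_inf.1 hb).1⟩ hb)
    have hKA : ∀ a ∈ A, ∀ k ∈ K, a * k * a⁻¹ ∈ K := fun a ha k hk => h2 _ ((h.conj a).2 ha) k hk
    have hKn : (K.subgroupOf N).Normal := ⟨fun k hk n => hKA n (hNA n.2) k hk⟩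
    rcases hsN.eq_bot_or_eq_top_of_normal _ hKn with e | e
    · apply h3
      rw [Subgroup.eq_bot_iff_forall]
      intro k hk
      apply hC k (h1 hk)
      intro n hn'
      have h5 : k * n * k⁻¹ * n⁻¹ ∈ N := N.mul_mem (hn k (h1 hk) n hn') (N.inv_mem hn')
      have h6 : k * n * k⁻¹ * n⁻¹ ∈ K := by
        have e1 : k * n * k⁻¹ * n⁻¹ = k * (n * k⁻¹ * n⁻¹) := by group
        rw [e1]
        exact K.mul_mem hk (hKA n (hNA hn') _ (K.inv_mem hk))
      have h7 : (⟨_, h5⟩ : N) ∈ K.subgroupOf N := h6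
      rw [e, mem_bot] at h7
      have h8 : k * n * k⁻¹ * n⁻¹ = 1 := congrArg (fun y : N => (y : Q)) h7
      rw [mul_inv_eq_one, mul_inv_eq_iff_eq_mul] at h8
      exact h8
    · rw [subgroupOf_eq_top] at e
      obtain ⟨y, hy⟩ := exists_ne (1 : N)
      apply hy
      apply Subtype.ext
      exact hC y (hNA y.2) fun n hn' => h4 y (e y.2) n (e hn')
  · intro e
    rw [subgroupOf_eq_top] at e
    apply hx
    apply h.selfnorm
    intro a ha
    have h1 : A = cj x A := Subgroup.eq_of_le_of_card_ge (e.trans inf_le_right) (card_cj x A).le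
    have h2 := conj_mem_cj (x := x) ha
    rwa [← h1] at h2
  · intro X hX hne g hg
    refine mem_subgroupOf.2 ⟨g.2, ?_⟩
    refine h.norm_aut hx (K := X.map A.subtype) ?_ ?_ ?_ g.2 ?_
    · rintro _ ⟨k, hk, rfl⟩
      exact hX.1 hk
    · intro σ hσ
      rintro _ ⟨k, hk, rfl⟩
      let φ : ((A ⊓ cj x A : Subgroup Q).subgroupOf A) →* ((A ⊓ cj x A : Subgroup Q).subgroupOf A) :=
        { toFun := fun y => ⟨⟨σ (y : A), (mem_inf.1 (hσ _ y.2)).1⟩, hσ _ y.2⟩
          map_one' := Subtype.ext (Subtype.ext (map_one σ))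
          map_mul' := fun y z => Subtype.ext (Subtype.ext (map_mul σ _ _)) }
      exact ⟨_, hX.2 φ ⟨k, hX.1 hk⟩ hk, rfl⟩
    · rw [Ne, Subgroup.map_eq_bot_iff_of_injective _ A.subtype_injective]
      exact hne
    · rintro _ ⟨k, hk, rfl⟩
      exact ⟨_, hg k hk, rfl⟩

include h hNA hn hsN hC in
theorem index_le_good : A.index ≤ {M : Subgroup A | Good M}.ncard ^ 2 := by
  refine h.index_le.trans (Nat.pow_le_pow_left ?_ 2)
  refine Set.ncard_le_ncard_of_injOn (fun M => M.subgroupOf A) ?_ ?_ (Set.toFinite _)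
  · rintro _ ⟨x, hx, rfl⟩
    exact good_of h hNA hn hsN hC hx
  · rintro _ ⟨x, _, rfl⟩ _ ⟨y, _, rfl⟩ e
    have e' : (A ⊓ cj x A : Subgroup Q).subgroupOf A = (A ⊓ cj y A : Subgroup Q).subgroupOf A := e
    have h1 := congrArg (fun M : Subgroup A => M.map A.subtype) e'
    simp only [subgroupOf_map_subtype] at h1
    rwa [inf_of_le_left inf_le_left, inf_of_le_left inf_le_left] at h1

end

/-- **S3499, `L = PSL₂(13)`** (task 5946). -/
theorem l213 {Q : Type*} [Group Q] [Finite Q] {A : Subgroup Q} {Γ : Subgroup (MulAut Q)} (h : EPT A Γ)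
    {N : Subgroup Q} (hNA : N ≤ A) (hn : ∀ a ∈ A, ∀ n ∈ N, a * n * a⁻¹ ∈ N)
    (e : N ≃* Matrix.ProjectiveSpecialLinearGroup (Fin 2) (ZMod 13))
    (hC : ∀ a ∈ A, (∀ n ∈ N, a * n = n * a) → a = 1) : A.index ≤ 10 ^ 6 := by
  have hF13 : Fact (Nat.Prime 13) := ⟨by norm_num⟩
  have hsL : IsSimpleGroup (Matrix.ProjectiveSpecialLinearGroup (Fin 2) (ZMod 13)) :=
    Matrix.ProjectiveSpecialLinearGroup.rank_two_simple (by rw [Nat.card_zmod]; norm_num)
  have hsN : IsSimpleGroup N := e.isSimpleGroup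
  have hc : Nat.card N = 1092 := by rw [Nat.card_congr e.toEquiv, card_psl13]
  have hN' : (N.subgroupOf A).Normal := ⟨fun k hk a => hn a a.2 k hk⟩
  let f : N.subgroupOf A ≃* N := subgroupOfEquivOfLe hNA
  have hc' : Nat.card (N.subgroupOf A) = 1092 := by rw [Nat.card_congr f.toEquiv, hc]
  have hs' : IsSimpleGroup (N.subgroupOf A) := f.isSimpleGroup
  have hle : Nat.card A ≤ 2184 := by
    have hS : Cfsg.Agent.H419.EP.HasSoc A (Matrix.ProjectiveSpecialLinearGroup (Fin 2) (ZMod 13)) :=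
      ⟨N, hNA, hn, hC, ⟨e⟩⟩
    have h2 := hS.card_le
    rwa [card_aut13] at h2
  have hi : (N.subgroupOf A).index ≤ 2 := by
    have h1 := card_mul_index (N.subgroupOf A)
    rw [hc'] at h1
    omega
  have h1 := card_good_le hs' hc' hi
  exact (index_le_good h hNA hn hsN hC).trans ((Nat.pow_le_pow_left h1 2).trans (by norm_num))

/-- **S3499, `L = PSL₂(13)`**, with `HasSoc`, for all fields with 13 elements. -/
theorem l213_soc {F : Type*} [Field F] (hF : Nat.card F = 13) {Q : Type*} [Group Q] [Finite Q] {A : Subgroup Q}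
    {Γ : Subgroup (MulAut Q)} (h : EPT A Γ)
    (hS : Cfsg.Agent.H419.EP.HasSoc A (Matrix.ProjectiveSpecialLinearGroup (Fin 2) F)) : A.index ≤ 10 ^ 6 := by
  have : Finite F := Nat.finite_of_card_ne_zero (by rw [hF]; norm_num)
  have : Fintype F := Fintype.ofFinite F
  have hF' : Fintype.card F = 13 := by rw [← Nat.card_eq_fintype_card, hF]
  have hF13 : Fact (Nat.Prime 13) := ⟨by norm_num⟩
  have f := Cfsg.Agent.LieClassical.FieldTransfer.pslCongr (ι := Fin 2) (ZMod.ringEquivOfPrime F (p := 13)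
    (by norm_num) hF').symm
  obtain ⟨N, h1, h2, h3, ⟨e⟩⟩ := hS
  exact l213 h h1 h2 (e.trans f) h3

end Cfsg.Agent.H342.EP
end

private theorem dce_01b56ceb5063 : _root_.True := by
  try have : _root_.True := by simp only [_root_.Cfsg.Agent.H342.EP.RN.eq_1]
  exact _root_.True.intro
end

-- part: H220/EP/ASeven
section
set_option linter.all false
open scoped Cfsg.Agent.FastGrp

/-!
# S3499, socle `A₇` (helper220)

`EPT A Γ` with socle `A₇`: `|Q : A| ≤ 228²`.
-/

set_option autoImplicit false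

namespace Cfsg.Agent.H220.EP

open Equiv Equiv.Perm Subgroup MulAction Cfsg.Agent.H839.EP Cfsg.Agent.H284
open scoped Pointwise

/-- the stabiliser of a set of points -/
abbrev SS (Δ : Finset (Fin 7)) : Subgroup (Perm (Fin 7)) := stabilizer (Perm (Fin 7)) Δ

theorem mem_SS {Δ : Finset (Fin 7)} {g : Perm (Fin 7)} : g ∈ SS Δ ↔ ∀ i ∈ Δ, g i ∈ Δ := by
  rw [mem_stabilizer_iff]
  constructor
  · intro h i hi
    rw [← h]
    exact Finset.smul_mem_smul_finset hi
  · intro h
    apply Finset.eq_of_subset_of_card_le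
    · intro j hj
      obtain ⟨i, hi, rfl⟩ := Finset.mem_smul_finset.1 hj
      exact h i hi
    · rw [Finset.card_smul_finset]

theorem not_A7_SS {Δ : Finset (Fin 7)} (h1 : 1 ≤ Δ.card) (h3 : Δ.card ≤ 3) : ¬ A7 ≤ SS Δ := by
  intro h
  have h7 := pretrans (D := A7) (by rw [card_A7]; norm_num)
  obtain ⟨a, ha⟩ := Finset.card_pos.1 h1
  have h4 : Δ = Finset.univ := by
    rw [Finset.eq_univ_iff_forall]
    intro b
    obtain ⟨g, hg⟩ := h7.exists_smul_eq a b
    rw [← hg]
    exact mem_SS.1 (h g.2) a ha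
  rw [h4, Finset.card_univ, Fintype.card_fin] at h3
  omega

theorem not_A7_norm {Y : Subgroup (Perm (Fin 7))} (hY : Nat.card Y = 7) : ¬ A7 ≤ normalizer (Y : Set (Perm (Fin 7))) := by
  intro h
  have h1 := (card_dvd_of_le h).trans (card_norm_dvd hY)
  rw [card_A7] at h1
  norm_num at h1

theorem not_A7_norm_F7 {D : Subgroup (Perm (Fin 7))} (hD : D ∈ F7) : ¬ A7 ≤ normalizer (D : Set (Perm (Fin 7))) := by
  intro h
  have hs : IsSimpleGroup A7 := alternatingGroup.isSimpleGroup (by simp)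
  have hn : (D.subgroupOf A7).Normal := by
    constructor
    intro d hd a
    exact (mem_normalizer_iff.1 (h a.2) d).1 hd
  have hc := card_subgroupOf hD.1
  rcases hn.eq_bot_or_eq_top with h1 | h1
  · rw [h1, card_bot, hD.2] at hc
    omega
  · rw [h1, card_top, card_A7, hD.2] at hc
    omega

/-- an intransitive group stabilises a set of size at most 3 -/
theorem exists_SS {L : Subgroup (Perm (Fin 7))} (h : ¬ 7 ∣ Nat.card L) :
    ∃ Δ : Finset (Fin 7), 1 ≤ Δ.card ∧ Δ.card ≤ 3 ∧ L ≤ SS Δ := by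
  classical
  have hne : (orbit L (0 : Fin 7)).ncard ≠ 7 := by
    intro h1
    apply h
    have h2 := index_stabilizer L (0 : Fin 7)
    have h3 := index_dvd_card (stabilizer L (0 : Fin 7))
    rwa [h2, h1] at h3
  set O : Finset (Fin 7) := (orbit L (0 : Fin 7)).toFinset with hO
  have hmem : ∀ i, i ∈ O ↔ i ∈ orbit L (0 : Fin 7) := fun i => by rw [hO, Set.mem_toFinset]
  have hOc : O.card ≠ 7 := by
    intro h1
    apply hne
    rw [← Set.ncard_coe_finset, hO, Set.coe_toFinset] at h1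
    exact h1
  have hO7 : O.card ≤ 7 := by
    have := O.card_le_univ
    rwa [Fintype.card_fin] at this
  have hinv : ∀ g ∈ L, ∀ i, i ∈ O ↔ g i ∈ O := by
    intro g hg i
    have h1 : g i = (⟨g, hg⟩ : L) • i := rfl
    rw [hmem, hmem, h1, ← orbit_eq_iff, ← orbit_eq_iff, orbit_smul]
  have h0 : 1 ≤ O.card := Finset.card_pos.2 ⟨0, (hmem 0).2 (mem_orbit_self _)⟩
  rcases Nat.lt_or_ge O.card 4 with h4 | h4
  · exact ⟨O, h0, by omega, fun g hg => mem_SS.2 fun i hi => (hinv g hg i).1 hi⟩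
  · refine ⟨Oᶜ, ?_, ?_, fun g hg => mem_SS.2 fun i hi => ?_⟩
    · rw [Finset.card_compl, Fintype.card_fin]
      omega
    · rw [Finset.card_compl, Fintype.card_fin]
      omega
    · rw [Finset.mem_compl] at hi ⊢
      rwa [← hinv g hg i]

theorem conj_A7 (g : Perm (Fin 7)) {a : Perm (Fin 7)} (h : a ∈ A7) : g * a * g⁻¹ ∈ A7 := by
  have hn : (alternatingGroup (Fin 7)).Normal := inferInstance
  exact hn.conj_mem a h g

/-- **The maximal subgroups of `A₇` and `S₇`** which do not contain `A₇` -/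
theorem types {G L : Subgroup (Perm (Fin 7))} (hG : A7 ≤ G) (hL : MaxNot G L) :
    (∃ Δ : Finset (Fin 7), 1 ≤ Δ.card ∧ Δ.card ≤ 3 ∧ L = G ⊓ SS Δ) ∨
      (∃ Y : Subgroup (Perm (Fin 7)), Nat.card Y = 7 ∧ L = G ⊓ normalizer (Y : Set (Perm (Fin 7)))) ∨
      (∃ D ∈ F7, L = G ⊓ normalizer (D : Set (Perm (Fin 7))) ∧ L ⊓ A7 = D) := by
  by_cases h7 : 7 ∣ Nat.card L
  · right
    obtain ⟨Y, hYL, hY7⟩ := exists_Ys h7
    have hY : Y ∈ Ys 7 (L ⊓ A7) := ⟨le_inf hYL (Y_le_A7 hY7), hY7⟩
    have hconj : ∀ g ∈ L, ∀ d ∈ L ⊓ A7, g * d * g⁻¹ ∈ L ⊓ A7 := fun g hg d hd =>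
      ⟨L.mul_mem (L.mul_mem hg hd.1) (L.inv_mem hg), conj_A7 g hd.2⟩
    rcases dich inf_le_right (fun h => hL.nalt (h.trans inf_le_left)) hY with h | h
    · left
      refine ⟨Y, hY7, hL.eq_inf hG ?_ (not_A7_norm hY7)⟩
      obtain ⟨h21, -⟩ := norm_A7 hY7
      have hB : (Ys 7 (normalizer (Y : Set (Perm (Fin 7))) ⊓ A7)).ncard = 1 := by
        have h1 := ncard_Ys_mul (p := 7) (k := 3) (D := normalizer (Y : Set (Perm (Fin 7))) ⊓ A7) h21 (by norm_num)
          (Y := Y) ⟨le_inf le_normalizer (Y_le_A7 hY7), hY7⟩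
        rw [← inf_assoc, inf_idem, h21] at h1
        omega
      rw [Set.ncard_eq_one] at hB
      obtain ⟨Y0, hY0⟩ := hB
      have hu : ∀ Y' : Subgroup (Perm (Fin 7)), Y' ∈ Ys 7 (normalizer (Y : Set (Perm (Fin 7))) ⊓ A7) → Y' = Y0 := by
        intro Y' hY'
        rw [hY0] at hY'
        exact hY'
      have hYY0 := hu Y ⟨le_inf le_normalizer (Y_le_A7 hY7), hY7⟩
      intro g hg
      have hg1 : Y.map (MulAut.conj g).toMonoidHom = Y := by
        rw [hYY0]
        rw [← hYY0]
        rw [hu (Y.map (MulAut.conj g).toMonoidHom), hYY0]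
        refine ⟨le_inf (fun y hy => h ?_) ?_, ?_⟩
        · obtain ⟨y', hy', rfl⟩ := hy
          exact hconj g hg y' (hY.1 hy')
        · rintro _ ⟨y', hy', rfl⟩
          exact conj_A7 g (Y_le_A7 hY7 hy')
        · rw [card_map_of_injective (MulAut.conj g).injective, hY7]
      rw [mem_normalizer_iff]
      intro y
      constructor
      · intro hy
        rw [← hg1]
        exact ⟨y, hy, rfl⟩
      · intro hy
        rw [← hg1] at hy
        obtain ⟨y', hy', h1⟩ := hy
        have h2 : y' = y := (MulAut.conj g).injective h1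
        rw [← h2]
        exact hy'
    · right
      have hD : L ⊓ A7 ∈ F7 := ⟨inf_le_right, h.1⟩
      refine ⟨L ⊓ A7, hD, hL.eq_inf hG ?_ (not_A7_norm_F7 hD), rfl⟩
      intro g hg
      rw [mem_normalizer_iff]
      intro d
      refine ⟨hconj g hg d, fun h1 => ?_⟩
      have h2 := hconj g⁻¹ (L.inv_mem hg) _ h1
      have h3 : g⁻¹ * (g * d * g⁻¹) * g⁻¹⁻¹ = d := by group
      rwa [h3] at h2
  · left
    obtain ⟨Δ, h1, h3, h4⟩ := exists_SS h7
    exact ⟨Δ, h1, h3, hL.eq_inf hG h4 (not_A7_SS h1 h3)⟩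

theorem ncard_maxNot {G : Subgroup (Perm (Fin 7))} (hG : A7 ≤ G) :
    {L : Subgroup (Perm (Fin 7)) | MaxNot G L}.ncard ≤ 228 := by
  have hsub : {L : Subgroup (Perm (Fin 7)) | MaxNot G L} ⊆
      ((fun Δ : Finset (Fin 7) => G ⊓ SS Δ) '' {Δ : Finset (Fin 7) | 1 ≤ Δ.card ∧ Δ.card ≤ 3} ∪
        (fun Y : Subgroup (Perm (Fin 7)) => G ⊓ normalizer (Y : Set (Perm (Fin 7)))) '' Ys 7 ⊤) ∪
        (fun D : Subgroup (Perm (Fin 7)) => G ⊓ normalizer (D : Set (Perm (Fin 7)))) '' F7 := by
    intro L hL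
    rcases types hG hL with ⟨Δ, h1, h3, h4⟩ | ⟨Y, h1, h2⟩ | ⟨D, h1, h2, -⟩
    · exact Or.inl (Or.inl ⟨Δ, ⟨h1, h3⟩, h4.symm⟩)
    · exact Or.inl (Or.inr ⟨Y, ⟨le_top, h1⟩, h2.symm⟩)
    · exact Or.inr ⟨D, h1, h2.symm⟩
  refine (Set.ncard_le_ncard hsub (Set.toFinite _)).trans ?_
  refine (Set.ncard_union_le _ _).trans ?_
  have h1 : {Δ : Finset (Fin 7) | 1 ≤ Δ.card ∧ Δ.card ≤ 3}.ncard = 63 := by
    have h2 : {Δ : Finset (Fin 7) | 1 ≤ Δ.card ∧ Δ.card ≤ 3} =
        ((Finset.univ.filter (fun D : Finset (Fin 7) => 1 ≤ D.card ∧ D.card ≤ 3) : Finset (Finset (Fin 7))) :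
          Set (Finset (Fin 7))) := by
      ext Δ
      simp
    rw [h2, Set.ncard_coe_finset]
    decide
  have h2 := Set.ncard_image_le (f := fun Δ : Finset (Fin 7) => G ⊓ SS Δ)
    (Set.toFinite {Δ : Finset (Fin 7) | 1 ≤ Δ.card ∧ Δ.card ≤ 3})
  have h3 := Set.ncard_image_le (f := fun Y : Subgroup (Perm (Fin 7)) => G ⊓ normalizer (Y : Set (Perm (Fin 7))))
    (Set.toFinite (Ys 7 (⊤ : Subgroup (Perm (Fin 7)))))
  have h4 := Set.ncard_image_le (f := fun D : Subgroup (Perm (Fin 7)) => G ⊓ normalizer (D : Set (Perm (Fin 7))))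
    (Set.toFinite F7)
  have h5 := Set.ncard_union_le
    ((fun Δ : Finset (Fin 7) => G ⊓ SS Δ) '' {Δ : Finset (Fin 7) | 1 ≤ Δ.card ∧ Δ.card ≤ 3})
    ((fun Y : Subgroup (Perm (Fin 7)) => G ⊓ normalizer (Y : Set (Perm (Fin 7)))) '' Ys 7 ⊤)
  have h6 := card_Ys
  have h7 := ncard_F7
  omega

section frame

variable {Q : Type*} [Group Q] [Finite Q] {A : Subgroup Q} {Γ : Subgroup (MulAut Q)}

theorem index_le_seven_soc {N : Subgroup Q} (h : EPT A Γ) (hS : Soc A N) (e : N ≃* alternatingGroup (Fin 7)) :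
    A.index ≤ 51984 := by
  obtain ⟨G, hG, h1⟩ := index_le_maxNot hS h le_rfl e
  exact h1.trans ((Nat.pow_le_pow_left (ncard_maxNot hG) 2).trans (by norm_num))

/-- **(A7)** `EPT` with socle `A₇` -/
theorem index_le_seven (h : EPT A Γ) (hS : Cfsg.Agent.H419.EP.HasSoc A (alternatingGroup (Fin 7))) :
    A.index ≤ 51984 := by
  obtain ⟨N, h1, h2, h3, ⟨e⟩⟩ := hS
  exact index_le_seven_soc h ⟨h1, h2, h3⟩ e

end frame

end Cfsg.Agent.H220.EP
end
end
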